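import Mathlib.Algebra.Category.ModuleCat.Basic
import Mathlib.CategoryTheory.Category.Preorder
import Mathlib.RingTheory.Ideal.Operations
import Mathlib.RingTheory.Finiteness.Basic

/-! Towers of modules whose transition maps are quotient maps modulo the powers of a finitely generated
ideal: the kernel of the projection from the limit. -/

set_option autoImplicit false
set_option linter.style.haveILetI false

universe w v

open CategoryTheory Opposite

namespace Groth.Agent.EpsLib.AdicAlg

variable {Λ : Type w} [CommRing Λ] (D : ℕᵒᵖ ⥤ ModuleCat.{v} Λ)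

/-- The transition maps. -/
abbrev T {a b : ℕ} (h : a ≤ b) : D.obj (op b) →ₗ[Λ] D.obj (op a) := (D.map (homOfLE h).op).hom

theorem T_refl (a : ℕ) (x : D.obj (op a)) : T D (le_refl a) x = x := by
  show (D.map (𝟙 (op a))).hom x = x
  rw [D.map_id]
  rfl

theorem T_trans {a b c : ℕ} (h : a ≤ b) (h' : b ≤ c) (x : D.obj (op c)) :
    T D h (T D h' x) = T D (h.trans h') x := by
  show _ = (D.map ((homOfLE h').op ≫ (homOfLE h).op)).hom x
  rw [D.map_comp]
  rfl

/-- The compatible families. -/
def Compat (y : ∀ j, D.obj (op j)) : Prop := ∀ a b (h : a ≤ b), T D h (y b) = y a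

theorem compat_of_succ (y : ∀ j, D.obj (op j)) (h : ∀ j, T D (Nat.le_succ j) (y (j + 1)) = y j) :
    Compat D y := by
  intro a b hab
  induction b, hab using Nat.le_induction with
  | base => exact T_refl D a (y a)
  | succ k hk ih => rw [← T_trans D hk (Nat.le_succ k), h k, ih]

theorem exists_compat_of_surjective (hs : ∀ a b (h : a ≤ b), Function.Surjective (T D h)) (n : ℕ)
    (z : D.obj (op n)) : ∃ y : ∀ j, D.obj (op j), Compat D y ∧ y n = z := by
  choose g hg using fun t : ℕ => hs (n + t) (n + (t + 1)) (by omega)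
  let L : ∀ t, D.obj (op (n + t)) := fun t => Nat.rec (motive := fun t => D.obj (op (n + t))) z g t
  have hL : ∀ t, T D (show n + t ≤ n + (t + 1) by omega) (L (t + 1)) = L t := fun t => hg t (L t)
  have hLz : ∀ t, T D (Nat.le_add_right n t) (L t) = z := fun t => by
    induction t with
    | zero => exact T_refl D n z
    | succ k ih => rw [← T_trans D (Nat.le_add_right n k) (show n + k ≤ n + (k + 1) by omega), hL, ih]
  refine ⟨fun j => T D (Nat.le_add_left j n) (L j), compat_of_succ D _ fun j => ?_, hLz n⟩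
  rw [T_trans, ← T_trans D (Nat.le_add_left j n) (show n + j ≤ n + (j + 1) by omega), hL]

variable {D}

theorem exists_sum_of_mem_smul {M : Type v} [AddCommGroup M] [Module Λ M] {r : ℕ} (a : Fin r → Λ)
    (P : Submodule Λ M) {d : M} (hd : d ∈ Ideal.span (Set.range a) • P) :
    ∃ f : Fin r → M, (∀ k, f k ∈ P) ∧ ∑ k, a k • f k = d := by
  refine Submodule.smul_induction_on hd (fun c hc z hz => ?_) ?_
  · obtain ⟨e, rfl⟩ := (Submodule.mem_span_range_iff_exists_fun Λ).1 hc
    refine ⟨fun k => e k • z, fun k => P.smul_mem _ hz, ?_⟩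
    simp only [Finset.sum_smul, smul_smul, smul_eq_mul, mul_comm]
  · rintro x y ⟨f, hf, rfl⟩ ⟨g, hg, rfl⟩
    exact ⟨f + g, fun k => P.add_mem (hf k) (hg k), by simp [smul_add, Finset.sum_add_distrib]⟩

variable (D)

theorem exists_sum_of_compat (I : Ideal Λ) (hs : ∀ a b (h : a ≤ b), Function.Surjective (T D h))
    (hk : ∀ a b (h : a ≤ b), LinearMap.ker (T D h) = I ^ (a + 1) • (⊤ : Submodule Λ (D.obj (op b))))
    (h0 : ∀ a, I ^ (a + 1) • (⊤ : Submodule Λ (D.obj (op a))) = ⊥)
    (n : ℕ) {r : ℕ} (a : Fin r → Λ) (ha : Ideal.span (Set.range a) = I ^ (n + 1))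
    (x : ∀ j, D.obj (op j)) (hx : Compat D x) (hxn : x n = 0) :
    ∃ y : Fin r → ∀ j, D.obj (op j), (∀ k, Compat D (y k)) ∧ ∀ j, ∑ k, a k • y k j = x j := by
  classical
  let Ok : ∀ t, (Fin r → D.obj (op (n + t))) → Prop := fun t Y => ∑ k, a k • Y k = x (n + t)
  have step : ∀ t (Y : { Y // Ok t Y }), ∃ Y' : { Y' // Ok (t + 1) Y' },
      ∀ k, T D (show n + t ≤ n + (t + 1) by omega) (Y'.1 k) - Y.1 k ∈ I ^ t • (⊤ : Submodule Λ (D.obj (op (n + t)))) := by
    rintro t ⟨Y, hY⟩
    choose z hz using fun k => hs (n + t) (n + (t + 1)) (by omega) (Y k)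
    have hd : x (n + (t + 1)) - ∑ k, a k • z k ∈ Ideal.span (Set.range a) • (I ^ t • (⊤ : Submodule Λ (D.obj (op (n + (t + 1)))))) := by
      rw [ha, ← Submodule.mul_smul, ← pow_add, show n + 1 + t = n + t + 1 by omega, ← hk (n + t) (n + (t + 1)) (by omega),
        LinearMap.mem_ker, map_sub, hx, map_sum]
      simp only [map_smul, hz]
      rw [hY, sub_self]
    obtain ⟨w, hw, hwd⟩ := exists_sum_of_mem_smul a _ hd
    refine ⟨⟨fun k => z k + w k, ?_⟩, fun k => ?_⟩
    · show ∑ k, a k • (z k + w k) = _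
      rw [Finset.sum_congr rfl (fun k _ => smul_add (a k) (z k) (w k)), Finset.sum_add_distrib, hwd, add_sub_cancel]
    · show T D _ (z k + w k) - Y k ∈ _
      rw [map_add, hz, add_sub_cancel_left]
      have h1 := Submodule.mem_map_of_mem (f := T D (show n + t ≤ n + (t + 1) by omega)) (hw k)
      rw [Submodule.map_smul''] at h1
      exact Submodule.smul_mono le_rfl le_top h1
  choose G hG using step
  let Y0 : { Y // Ok 0 Y } := ⟨fun _ => 0, by simp only [Ok, smul_zero, Finset.sum_const_zero]; exact hxn.symm⟩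
  let Ys : ∀ t, { Y // Ok t Y } := fun t => Nat.rec (motive := fun t => { Y // Ok t Y }) Y0 G t
  refine ⟨fun k j => T D (show j ≤ n + (j + 1) by omega) ((Ys (j + 1)).1 k), fun k => compat_of_succ D _ fun j => ?_,
    fun j => ?_⟩
  · rw [T_trans, ← T_trans D (show j ≤ n + (j + 1) by omega) (show n + (j + 1) ≤ n + (j + 1 + 1) by omega)]
    have h1 := Submodule.mem_map_of_mem (f := T D (show j ≤ n + (j + 1) by omega)) (hG (j + 1) (Ys (j + 1)) k)
    rw [Submodule.map_smul'', map_sub] at h1
    have h2 := (h0 j) ▸ (Submodule.smul_mono le_rfl le_top h1)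
    exact sub_eq_zero.1 ((Submodule.mem_bot Λ).1 h2)
  · have := congrArg (T D (show j ≤ n + (j + 1) by omega)) (Ys (j + 1)).2
    rw [hx, map_sum] at this
    simpa only [map_smul] using this

end Groth.Agent.EpsLib.AdicAlg
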