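import Groth.Agent.EpsLib.ModComm

/-! The essential image of `ε⁻¹` on sheaves of modules. -/

set_option autoImplicit false
set_option linter.style.haveILetI false
set_option backward.isDefEq.respectTransparency false
set_option synthInstance.maxHeartbeats 400000
set_option maxHeartbeats 800000
universe u

open CategoryTheory CategoryTheory.Limits AlgebraicGeometry Opposite

namespace Groth.Agent.EpsLib

open WCSiteLib

variable (Λ : Type (u + 1)) [CommRing Λ]

section

variable {C : Type (u + 1)} [Category.{u} C] (J : GrothendieckTopology C)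

theorem sheafU_preservesFiniteLimits : PreservesFiniteLimits (sheafCompose J (UF Λ)) := by
  haveI : PreservesFiniteLimits (sheafCompose J (UF Λ) ⋙ sheafToPresheaf J AddCommGrpCat.{u + 1}) := by
    haveI : PreservesFiniteLimits (sheafToPresheaf J (ModuleCat.{u + 1} Λ) ⋙
        (Functor.whiskeringRight Cᵒᵖ _ _).obj (UF Λ)) := comp_preservesFiniteLimits _ _
    exact preservesFiniteLimits_of_natIso (NatIso.ofComponents (fun M => Iso.refl _) :
      sheafToPresheaf J (ModuleCat.{u + 1} Λ) ⋙ (Functor.whiskeringRight Cᵒᵖ _ _).obj (UF Λ) ≅ _)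
  exact preservesFiniteLimits_of_reflects_of_preserves _ (sheafToPresheaf J AddCommGrpCat.{u + 1})

theorem sheafU_preservesFiniteColimits : PreservesFiniteColimits (sheafCompose J (UF Λ)) := by
  haveI := (adjC Λ J).leftAdjoint_preservesColimits
  infer_instance

theorem sheafU_reflectsIso {M N : Sheaf J (ModuleCat.{u + 1} Λ)} (f : M ⟶ N)
    [IsIso ((sheafCompose J (UF Λ)).map f)] : IsIso f := by
  haveI : ∀ V, IsIso (f.hom.app V) := fun V => by
    haveI : IsIso ((UF Λ).map (f.hom.app V)) :=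
      inferInstanceAs (IsIso (((sheafToPresheaf J AddCommGrpCat.{u + 1}).map ((sheafCompose J (UF Λ)).map f)).app V))
    exact isIso_of_reflects_iso (f.hom.app V) (UF Λ)
  haveI : IsIso ((sheafToPresheaf J (ModuleCat.{u + 1} Λ)).map f) := by
    show IsIso f.hom
    exact NatIso.isIso_of_isIso_app _
  exact isIso_of_reflects_iso f (sheafToPresheaf J (ModuleCat.{u + 1} Λ))

end

variable (X : Scheme.{u}) [ProEtS.EpsCont X]

theorem cmp_naturality {M N : EtModW.Mod Λ X} (f : M ⟶ N) :
    (ProEtS.epsPull X).map ((sheafCompose X.smallEtaleTopology (UF Λ)).map f) ≫ cmp Λ X N =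
      cmp Λ X M ≫ (sheafCompose (Scheme.ProEt.topology X) (UF Λ)).map ((EtModW.epsPullMod Λ X).map f) := by
  apply ((ProEtS.epsAdj X).homEquiv _ _).injective
  rw [Adjunction.homEquiv_naturality_left, homEquiv_cmp, cmp, Equiv.apply_symm_apply]
  show (sheafCompose X.smallEtaleTopology (UF Λ)).map f ≫
      (sheafCompose X.smallEtaleTopology (UF Λ)).map ((epsAdjMod Λ X).unit.app N) =
    (sheafCompose X.smallEtaleTopology (UF Λ)).map ((epsAdjMod Λ X).unit.app M) ≫
      (sheafCompose X.smallEtaleTopology (UF Λ)).map ((epsPushMod Λ X).map ((EtModW.epsPullMod Λ X).map f))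
  exact ((sheafCompose X.smallEtaleTopology (UF Λ)).map_comp _ _).symm.trans
    ((congrArg _ ((epsAdjMod Λ X).unit.naturality f)).trans
      ((sheafCompose X.smallEtaleTopology (UF Λ)).map_comp _ _))

theorem isIso_unitMod (M : EtModW.Mod Λ X) : IsIso ((epsAdjMod Λ X).unit.app M) := by
  haveI := isIso_cmp Λ X M
  haveI := isIso_unit X ((sheafCompose X.smallEtaleTopology (UF Λ)).obj M)
  haveI : IsIso (unitU Λ X M) := by
    have h := homEquiv_cmp Λ X M _ (𝟙 _)
    rw [Category.comp_id, CategoryTheory.Functor.map_id, Category.comp_id, Adjunction.homEquiv_unit] at h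
    rw [← h]
    infer_instance
  haveI : IsIso ((sheafCompose X.smallEtaleTopology (UF Λ)).map ((epsAdjMod Λ X).unit.app M)) :=
    ‹IsIso (unitU Λ X M)›
  exact sheafU_reflectsIso Λ X.smallEtaleTopology _

theorem epsPullMod_exact :
    PreservesFiniteLimits (EtModW.epsPullMod Λ X) ∧ PreservesFiniteColimits (EtModW.epsPullMod Λ X) := by
  haveI := sheafU_preservesFiniteLimits Λ X.smallEtaleTopology
  haveI := sheafU_preservesFiniteColimits Λ X.smallEtaleTopology
  haveI := sheafU_preservesFiniteLimits Λ (Scheme.ProEt.topology X)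
  haveI := sheafU_preservesFiniteColimits Λ (Scheme.ProEt.topology X)
  haveI := (epsPull_preservesFiniteLimitsColimits (X := X)).1
  haveI := (epsPull_preservesFiniteLimitsColimits (X := X)).2
  haveI : ∀ M, IsIso (cmp Λ X M) := isIso_cmp Λ X
  let e : sheafCompose X.smallEtaleTopology (UF Λ) ⋙ ProEtS.epsPull X ≅
      EtModW.epsPullMod Λ X ⋙ sheafCompose (Scheme.ProEt.topology X) (UF Λ) :=
    NatIso.ofComponents (fun M => asIso (cmp Λ X M)) (fun f => cmp_naturality Λ X f)
  haveI : (sheafCompose (Scheme.ProEt.topology X) (UF Λ)).ReflectsIsomorphisms :=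
    ⟨fun f _ => sheafU_reflectsIso Λ (Scheme.ProEt.topology X) f⟩
  haveI : PreservesFiniteLimits (EtModW.epsPullMod Λ X ⋙ sheafCompose (Scheme.ProEt.topology X) (UF Λ)) :=
    preservesFiniteLimits_of_natIso e
  haveI : PreservesFiniteColimits (EtModW.epsPullMod Λ X ⋙ sheafCompose (Scheme.ProEt.topology X) (UF Λ)) :=
    preservesFiniteColimits_of_natIso e
  haveI : ReflectsFiniteLimits (sheafCompose (Scheme.ProEt.topology X) (UF Λ)) :=
    ⟨fun J _ _ => reflectsLimitsOfShape_of_reflectsIsomorphisms⟩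
  haveI : ReflectsFiniteColimits (sheafCompose (Scheme.ProEt.topology X) (UF Λ)) :=
    @ReflectsFiniteColimits.mk _ _ _ _ _ (fun J _ _ => reflectsColimitsOfShape_of_reflectsIsomorphisms)
  exact ⟨preservesFiniteLimits_of_reflects_of_preserves _ (sheafCompose (Scheme.ProEt.topology X) (UF Λ)),
    preservesFiniteColimits_of_reflects_of_preserves _ (sheafCompose (Scheme.ProEt.topology X) (UF Λ))⟩

theorem epi_epsPushMod_map {S : ShortComplex (EtModW.ModP Λ X)} (hS : S.ShortExact)
    (h : ∃ G, Nonempty ((EtModW.epsPullMod Λ X).obj G ≅ S.X₁)) : Epi ((epsPushMod Λ X).map S.g) := by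
  haveI := sheafU_preservesFiniteLimits Λ (Scheme.ProEt.topology X)
  haveI := sheafU_preservesFiniteColimits Λ (Scheme.ProEt.topology X)
  obtain ⟨G, ⟨e⟩⟩ := h
  haveI := isIso_cmp Λ X G
  haveI := epi_epsPush_map_of_image (hS.map_of_exact (sheafCompose (Scheme.ProEt.topology X) (UF Λ)))
    ⟨_, ⟨asIso (cmp Λ X G) ≪≫ (sheafCompose (Scheme.ProEt.topology X) (UF Λ)).mapIso e⟩⟩
  haveI : (sheafCompose X.smallEtaleTopology (UF Λ)).Faithful := inferInstance
  refine (sheafCompose X.smallEtaleTopology (UF Λ)).epi_of_epi_map ?_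
  exact ‹Epi ((ProEtS.epsPush X).map ((sheafCompose (Scheme.ProEt.topology X) (UF Λ)).map S.g))›

theorem isWeakSerre_image_epsPullMod :
    WSerre.IsWeakSerre (fun F : EtModW.ModP Λ X => ∃ G : EtModW.Mod Λ X,
      (⊤ : ObjectProperty (EtModW.Mod Λ X)) G ∧ Nonempty ((EtModW.epsPullMod Λ X).obj G ≅ F)) := by
  haveI := (epsPullMod_exact Λ X).1
  haveI := (epsPullMod_exact Λ X).2
  exact isWeakSerre_image (epsAdjMod Λ X) (isIso_unitMod Λ X) (fun S hS h => epi_epsPushMod_map Λ X hS h) ⊤

theorem epsPullMod_weakSerre :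
    (∀ (F G : EtModW.ModP Λ X) (φ : F ⟶ G), (EtModW.epsPullMod Λ X).essImage F → (EtModW.epsPullMod Λ X).essImage G →
      (EtModW.epsPullMod Λ X).essImage (kernel φ) ∧ (EtModW.epsPullMod Λ X).essImage (cokernel φ)) ∧
    ∀ (T : ShortComplex (EtModW.ModP Λ X)), T.ShortExact → (EtModW.epsPullMod Λ X).essImage T.X₁ →
      (EtModW.epsPullMod Λ X).essImage T.X₃ → (EtModW.epsPullMod Λ X).essImage T.X₂ := by
  haveI := isWeakSerre_image_epsPullMod Λ X
  let P : ObjectProperty (EtModW.ModP Λ X) := fun F => ∃ G : EtModW.Mod Λ X,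
    (⊤ : ObjectProperty (EtModW.Mod Λ X)) G ∧ Nonempty ((EtModW.epsPullMod Λ X).obj G ≅ F)
  haveI : WSerre.IsWeakSerre P := ‹_›
  have hto : ∀ {F}, (EtModW.epsPullMod Λ X).essImage F → P F := fun h => ⟨h.witness, trivial, ⟨h.getIso⟩⟩
  have hfrom : ∀ {F}, P F → (EtModW.epsPullMod Λ X).essImage F := fun h => ⟨h.choose, h.choose_spec.2⟩
  exact ⟨fun F G φ hF hG => ⟨hfrom (P.prop_kernel φ (hto hF) (hto hG)), hfrom (P.prop_cokernel φ (hto hF) (hto hG))⟩,
    fun T hT h1 h3 => hfrom (P.prop_X₂_of_shortExact hT (hto h1) (hto h3))⟩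

end Groth.Agent.EpsLib
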