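import Groth.Agent.S14017
import Groth.Agent.S0713
import Groth.Agent.EpsLib.ModImage
import Groth.Agent.EpsLib.AdicAlg
import Mathlib.CategoryTheory.Limits.Types.Limits
import Mathlib.Algebra.Category.ModuleCat.Limits

/-! Limits of adic systems of pullbacks to the pro-étale site. -/

set_option autoImplicit false
set_option linter.style.haveILetI false
set_option backward.isDefEq.respectTransparency false
set_option synthInstance.maxHeartbeats 400000
set_option maxHeartbeats 800000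
universe u

open CategoryTheory CategoryTheory.Limits AlgebraicGeometry Opposite

namespace Groth.Agent.EpsLib

variable (Λ : Type (u + 1)) [CommRing Λ] {X : Scheme.{u}}

/-- Sections over an object, as a functor. -/
noncomputable abbrev evM (U : X.ProEt) : EtModW.ModP Λ X ⥤ ModuleCat.{u + 1} Λ :=
  sheafToPresheaf (Scheme.ProEt.topology X) (ModuleCat.{u + 1} Λ) ⋙ (evaluation _ _).obj (op U)

variable {Λ}

theorem hom_eq_zero_of_wc {A B : EtModW.ModP Λ X} (f : A ⟶ B)
    (h : ∀ W, ProEtS.IsWC W → ∀ a, ((evM Λ W).map f).hom a = 0) : f = 0 := by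
  apply Sheaf.hom_ext
  ext ⟨V⟩ a
  obtain ⟨W, g, hg, hW⟩ := Groth.Agent.S0713.result V
  have hB := (isSheaf_iff_isSheaf_of_type _ _).1
    ((Presheaf.isSheaf_iff_isSheaf_forget (Scheme.ProEt.topology X) B.obj (forget (ModuleCat.{u + 1} Λ))).1 B.property)
  refine (hB _ hg).isSeparatedFor.ext fun Y q hq => ?_
  obtain ⟨Z, q', g', hg', rfl⟩ := hq
  cases hg'
  show (B.obj.map (q' ≫ g).op).hom ((f.hom.app (op V)).hom a) = (B.obj.map (q' ≫ g).op).hom 0
  rw [op_comp, B.obj.map_comp, map_zero, ModuleCat.hom_comp, LinearMap.comp_apply]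
  have h1 : (B.obj.map g.op).hom ((f.hom.app (op V)).hom a) = (f.hom.app (op W)).hom ((A.obj.map g.op).hom a) :=
    (congrArg (fun m => m.hom a) (f.hom.naturality g.op)).symm
  rw [h1, show (f.hom.app (op W)).hom ((A.obj.map g.op).hom a) = 0 from h W hW _, map_zero]

theorem killedBy_iff_hom {C : Type*} [Category C] [Preadditive C] [Linear Λ C] (I : Ideal Λ) (Q : C) :
    ARSys.KilledBy I Q ↔ ∀ (Z : C) (f : Z ⟶ Q), ARSys.HomKilledBy I f := by
  refine ⟨fun h Z f a ha => ?_, fun h a ha => h Q (𝟙 Q) a ha⟩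
  have h1 := congrArg (fun t => f ≫ t) (h a ha)
  simpa using h1

theorem smul_eq_zero_of_killedBy {I : Ideal Λ} {Q : EtModW.ModP Λ X} (h : ARSys.KilledBy I Q) (U : X.ProEt) :
    I • (⊤ : Submodule Λ ((evM Λ U).obj Q)) = ⊥ := by
  refine le_bot_iff.1 (Submodule.smul_le.2 fun a ha q _ => ?_)
  exact (Submodule.mem_bot Λ).2 (congrArg (fun t => ((evM Λ U).map t).hom q) (h a ha))

section EpsPull

variable [ProEtS.EpsCont X]

theorem homEquiv_smul (A : EtModW.Mod Λ X) (B : EtModW.ModP Λ X) (c : Λ)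
    (f : (EtModW.epsPullMod Λ X).obj A ⟶ B) :
    (epsAdjMod Λ X).homEquiv A B (c • f) = c • (epsAdjMod Λ X).homEquiv A B f := by
  rw [Adjunction.homEquiv_unit, Adjunction.homEquiv_unit, ← Linear.comp_smul]
  rfl

theorem homEquiv_smul' (A B : EtModW.Mod Λ X) (c : Λ) (φ : A ⟶ B) :
    c • (epsAdjMod Λ X).unit.app A ≫ (epsPushMod Λ X).map ((EtModW.epsPullMod Λ X).map φ) =
      (c • φ) ≫ (epsAdjMod Λ X).unit.app B := by
  rw [Linear.smul_comp]
  exact congrArg (c • ·) ((epsAdjMod Λ X).unit.naturality φ).symm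

theorem homEquiv_zero' (A : EtModW.Mod Λ X) (B : EtModW.ModP Λ X) :
    (epsAdjMod Λ X).homEquiv A B 0 = 0 := by
  rw [Adjunction.homEquiv_unit, show (epsPushMod Λ X).map (0 : (EtModW.epsPullMod Λ X).obj A ⟶ B) = 0 from rfl, comp_zero]

theorem killedBy_epsPullMod {I : Ideal Λ} {A : EtModW.Mod Λ X} (h : ARSys.KilledBy I A) :
    ARSys.KilledBy I ((EtModW.epsPullMod Λ X).obj A) := fun c hc => by
  apply ((epsAdjMod Λ X).homEquiv A _).injective
  rw [homEquiv_smul, homEquiv_zero']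
  have h1 := congrArg (fun t => t ≫ (epsAdjMod Λ X).homEquiv A _ (𝟙 _)) (h c hc)
  simpa using h1

theorem isQuot_epsPullMod {I : Ideal Λ} {A B : EtModW.Mod Λ X} {p : A ⟶ B} (h : ARSys.IsQuot I p) :
    ARSys.IsQuot I ((EtModW.epsPullMod Λ X).map p) := by
  refine ⟨killedBy_epsPullMod h.1, fun Y φ hφ => ?_⟩
  obtain ⟨ψ, hψ, huniq⟩ := h.2 _ ((epsAdjMod Λ X).homEquiv A Y φ) fun c hc => by
    rw [← homEquiv_smul, hφ c hc, homEquiv_zero']
  refine ⟨((epsAdjMod Λ X).homEquiv B Y).symm ψ, ?_, fun χ hχ => ?_⟩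
  · show _ ≫ ((epsAdjMod Λ X).homEquiv B Y).symm ψ = φ
    rw [← Adjunction.homEquiv_naturality_left_symm, hψ, Equiv.symm_apply_apply]
  · refine ((epsAdjMod Λ X).homEquiv B Y).eq_symm_apply.2 (huniq _ ?_)
    show p ≫ (epsAdjMod Λ X).homEquiv B Y χ = _
    rw [← Adjunction.homEquiv_naturality_left]
    exact congrArg _ hχ

theorem epsPullMod_fullyFaithful : (EtModW.epsPullMod Λ X).Full ∧ (EtModW.epsPullMod Λ X).Faithful := by
  haveI : ∀ M, IsIso ((epsAdjMod Λ X).unit.app M) := fun M => isIso_unitMod Λ X M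
  haveI : IsIso (epsAdjMod Λ X).unit := NatIso.isIso_of_isIso_app _
  haveI : ∀ M, IsSplitEpi ((epsAdjMod Λ X).unit.app M) := fun M => IsSplitEpi.of_iso _
  haveI : ∀ M, Mono ((epsAdjMod Λ X).unit.app M) := fun M => IsIso.mono_of_iso _
  exact ⟨(epsAdjMod Λ X).full_L_of_isSplitEpi_unit_app, (epsAdjMod Λ X).faithful_L_of_mono_unit_app⟩

theorem isQuot_of_map {I : Ideal Λ} {A B : EtModW.Mod Λ X} (p : A ⟶ B) (hB : ARSys.KilledBy I B)
    (h : ARSys.IsQuot I ((EtModW.epsPullMod Λ X).map p)) : ARSys.IsQuot I p := by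
  obtain ⟨_, _⟩ := epsPullMod_fullyFaithful (Λ := Λ) (X := X)
  refine ⟨hB, fun Y φ hφ => ?_⟩
  obtain ⟨ψ, hψ, huniq⟩ := h.2 _ ((EtModW.epsPullMod Λ X).map φ) fun c hc => by
    apply ((epsAdjMod Λ X).homEquiv A _).injective
    rw [homEquiv_smul, homEquiv_zero', Adjunction.homEquiv_unit, homEquiv_smul', hφ c hc, zero_comp]
  obtain ⟨g, rfl⟩ := (EtModW.epsPullMod Λ X).map_surjective ψ
  refine ⟨g, (EtModW.epsPullMod Λ X).map_injective (by rw [Functor.map_comp]; exact hψ), fun g' hg' => ?_⟩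
  refine (EtModW.epsPullMod Λ X).map_injective (huniq _ ?_)
  show _ = _
  rw [← Functor.map_comp]
  exact congrArg _ hg'

theorem killedBy_of_epsPullMod {I : Ideal Λ} {A : EtModW.Mod Λ X}
    (h : ARSys.KilledBy I ((EtModW.epsPullMod Λ X).obj A)) : ARSys.KilledBy I A := fun c hc => by
  haveI := isIso_unitMod Λ X A
  haveI : Mono ((epsAdjMod Λ X).unit.app A) := IsIso.mono_of_iso _
  rw [← cancel_mono ((epsAdjMod Λ X).unit.app A)]
  have h1 := congrArg ((epsAdjMod Λ X).homEquiv A _) (h c hc)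
  rw [homEquiv_smul, homEquiv_zero', Adjunction.homEquiv_id] at h1
  simpa using h1

end EpsPull

section Limit

variable {I : Ideal Λ} (hI : I.FG) (M : ℕᵒᵖ ⥤ EtModW.ModP Λ X) (hM : ARSys.IsAdic I M)

include hI hM in
theorem ker_T (U : X.ProEt) (hU : ProEtS.IsWC U) {a b : ℕ} (h : a ≤ b) :
    Function.Surjective (AdicAlg.T (M ⋙ evM Λ U) h) ∧
      LinearMap.ker (AdicAlg.T (M ⋙ evM Λ U) h) = I ^ (a + 1) • (⊤ : Submodule Λ ((M ⋙ evM Λ U).obj (op b))) :=
  Groth.Agent.S14017.result Λ (I ^ (a + 1)) hI.pow X _ _ (ARSys.tr M h) (hM.2 a b h) U hU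

include hI hM in
theorem sections_π (U : X.ProEt) (hU : ProEtS.IsWC U) (n : ℕ) :
    Function.Surjective ((evM Λ U).map (limit.π M (op n))).hom ∧
      LinearMap.ker ((evM Λ U).map (limit.π M (op n))).hom ≤
        I ^ (n + 1) • (⊤ : Submodule Λ ((evM Λ U).obj (limit M))) := by
  let hc := isLimitOfPreserves (evM Λ U ⋙ forget (ModuleCat.{u + 1} Λ)) (limit.isLimit M)
  let e := Types.isLimitEquivSections hc
  let π' : ∀ j, ((evM Λ U).obj (limit M) →ₗ[Λ] (M ⋙ evM Λ U).obj (op j)) := fun j => ((evM Λ U).map (limit.π M (op j))).hom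
  have build : ∀ y : ∀ j, (M ⋙ evM Λ U).obj (op j), AdicAlg.Compat (M ⋙ evM Λ U) y →
      ∃ l, ∀ j, π' j l = y j := fun y hy => by
    refine ⟨e.symm ⟨fun j => y j.unop, fun {j j'} f => ?_⟩, fun j => ?_⟩
    · have hf : f = (homOfLE (leOfHom f.unop)).op := Quiver.Hom.unop_inj (Subsingleton.elim _ _)
      rw [hf]
      exact hy _ _ _
    · exact Types.isLimitEquivSections_symm_apply hc _ (op j)
  have ext : ∀ l l', (∀ j, π' j l = π' j l') → l = l' := fun l l' h =>
    e.injective (Subtype.ext (funext fun j => by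
      rw [Types.isLimitEquivSections_apply, Types.isLimitEquivSections_apply]
      exact h j.unop))
  refine ⟨fun z => ?_, fun x hx => ?_⟩
  · obtain ⟨y, hy, rfl⟩ := AdicAlg.exists_compat_of_surjective (M ⋙ evM Λ U)
      (fun a b h => (ker_T hI M hM U hU h).1) n z
    obtain ⟨l, hl⟩ := build y hy
    exact ⟨l, hl n⟩
  · obtain ⟨r, a, ha⟩ := Submodule.fg_iff_exists_fin_generating_family.1 (hI.pow (n := n + 1))
    have hcx : AdicAlg.Compat (M ⋙ evM Λ U) fun j => π' j x := fun i j h => by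
      show ((evM Λ U).map (limit.π M (op j)) ≫ (evM Λ U).map (ARSys.tr M h)).hom x = _
      rw [← Functor.map_comp, limit.w]
      rfl
    obtain ⟨y, hy, hsum⟩ := AdicAlg.exists_sum_of_compat (M ⋙ evM Λ U) I (fun a b h => (ker_T hI M hM U hU h).1)
      (fun a b h => (ker_T hI M hM U hU h).2) (fun a => smul_eq_zero_of_killedBy (hM.1 a) U) n a ha _ hcx hx
    choose l hl using fun k => build (y k) (hy k)
    rw [show x = ∑ k, a k • l k from ext _ _ fun j => by rw [map_sum]; simp only [map_smul, hl]; exact (hsum j).symm]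
    exact Submodule.sum_mem _ fun k _ => Submodule.smul_mem_smul
      (ha ▸ Submodule.subset_span ⟨k, rfl⟩) Submodule.mem_top

include hI hM in
theorem epi_π (n : ℕ) : Epi (limit.π M (op n)) := ⟨fun f g hfg => by
  rw [← sub_eq_zero]
  refine hom_eq_zero_of_wc _ fun W hW z => ?_
  obtain ⟨l, rfl⟩ := (sections_π hI M hM W hW n).1 z
  have h1 : limit.π M (op n) ≫ (f - g) = 0 := by rw [Preadditive.comp_sub, hfg, sub_self]
  exact congrArg (fun t => ((evM Λ W).map t).hom l) h1⟩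

include hI hM in
theorem isQuot_π (n : ℕ) : ARSys.IsQuot (I ^ (n + 1)) (limit.π M (op n)) := by
  haveI := epi_π hI M hM n
  refine ⟨hM.1 n, fun Y φ hφ => ?_⟩
  have h0 : kernel.ι (limit.π M (op n)) ≫ φ = 0 := hom_eq_zero_of_wc _ fun W hW k => by
    show ((evM Λ W).map φ).hom (((evM Λ W).map (kernel.ι (limit.π M (op n)))).hom k) = 0
    have hk := (sections_π hI M hM W hW n).2 (x := ((evM Λ W).map (kernel.ι (limit.π M (op n)))).hom k)
      (congrArg (fun t => ((evM Λ W).map t).hom k) (kernel.condition (limit.π M (op n))))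
    refine LinearMap.mem_ker.1 (Submodule.smul_le.2 (fun a ha x _ => LinearMap.mem_ker.2 ?_) hk)
    rw [map_smul]
    exact congrArg (fun t => ((evM Λ W).map t).hom x) (hφ a ha)
  obtain ⟨ψ, hψ⟩ := CokernelCofork.IsColimit.desc'
    (Abelian.epiIsCokernelOfKernel _ (kernelIsKernel (limit.π M (op n)))) φ h0
  exact ⟨ψ, hψ, fun χ hχ => (cancel_epi (limit.π M (op n))).1 (hχ.trans hψ.symm)⟩

end Limit

theorem isAdic_comp_epsPullMod [ProEtS.EpsCont X] {I : Ideal Λ} {G : ARSys.PS (EtModW.Mod Λ X)}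
    (hG : ARSys.IsAdic I G) : ARSys.IsAdic I (G ⋙ EtModW.epsPullMod Λ X) :=
  ⟨fun n => killedBy_epsPullMod (hG.1 n), fun a b h => isQuot_epsPullMod (hG.2 a b h)⟩

theorem isQuot_limit_π [ProEtS.EpsCont X] {I : Ideal Λ} (hI : I.FG) {G : ARSys.PS (EtModW.Mod Λ X)}
    (hG : ARSys.IsAdic I G) (n : ℕ) :
    ARSys.IsQuot (I ^ (n + 1)) (limit.π (G ⋙ EtModW.epsPullMod Λ X) (op n)) :=
  isQuot_π hI _ (isAdic_comp_epsPullMod hG) n

end Groth.Agent.EpsLib
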