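import Mathlib.Algebra.Category.ModuleCat.EpiMono
import Mathlib.CategoryTheory.Preadditive.Injective.Basic
import Mathlib.RingTheory.Localization.Away.Basic
import Mathlib.LinearAlgebra.Finsupp.LinearCombination
import Mathlib.LinearAlgebra.Isomorphisms
import Mathlib.Algebra.Exact.Basic
import Mathlib.Algebra.BigOperators.Fin

/-! The map `(x_n) ↦ (f x_{n+1} - x_n)` and the localization `Λ_f`. -/

set_option autoImplicit false
set_option linter.style.haveILetI false

universe w

open CategoryTheory

namespace Groth.Agent.EpsLib.DC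

variable {Λ : Type w} [CommRing Λ] (f : Λ)

/-- The map whose bijectivity expresses `RHom(Λ_f, M) = 0`. -/
def phi (M : Type w) [AddCommGroup M] [Module Λ M] : (ℕ → M) →ₗ[Λ] (ℕ → M) where
  toFun x n := f • x (n + 1) - x n
  map_add' x y := funext fun n => by simp only [Pi.add_apply, smul_add]; abel
  map_smul' c x := funext fun n => by simp only [Pi.smul_apply, RingHom.id_apply, smul_sub, smul_comm c f]

variable {M : Type w} [AddCommGroup M] [Module Λ M] {N : Type w} [AddCommGroup N] [Module Λ N]

theorem phi_comp (g : M →ₗ[Λ] N) (x : ℕ → M) : phi f N (fun n => g (x n)) = fun n => g (phi f M x n) :=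
  funext fun n => by simp [phi]

theorem phi_eq_zero_iff (x : ℕ → M) : phi f M x = 0 ↔ ∀ n, f • x (n + 1) = x n :=
  funext_iff.trans (forall_congr' fun _ => sub_eq_zero)

theorem pow_smul_of_phi {x : ℕ → M} (hx : phi f M x = 0) (n j : ℕ) : f ^ j • x (n + j) = x n := by
  induction j with
  | zero => simp
  | succ k ih => rw [pow_succ, mul_smul, ← add_assoc, (phi_eq_zero_iff f x).1 hx (n + k), ih]

theorem exists_linearCombination_eq (c : ℕ →₀ Λ) : ∃ (n : ℕ) (a : Λ),
    ∀ (M : Type w) [AddCommGroup M] [Module Λ M] (x : ℕ → M), phi f M x = 0 → Finsupp.linearCombination Λ x c = a • x n := by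
  induction c using Finsupp.induction_linear with
  | zero => exact ⟨0, 0, fun M _ _ x _ => by simp⟩
  | add c d hc hd =>
    obtain ⟨n, a, hc⟩ := hc
    obtain ⟨m, b, hd⟩ := hd
    refine ⟨n + m, a * f ^ m + b * f ^ n, fun M _ _ x hx => ?_⟩
    rw [map_add, hc M x hx, hd M x hx, add_smul, mul_smul, mul_smul, pow_smul_of_phi f hx n m,
      show n + m = m + n from add_comm n m, pow_smul_of_phi f hx m n]
  | single k a => exact ⟨k, a, fun M _ _ x _ => by simp⟩

/-- The elements `1 / f ^ n`. -/
noncomputable def invPow (n : ℕ) : Localization.Away f :=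
  IsLocalization.mk' (Localization.Away f) 1 (⟨f ^ n, n, rfl⟩ : Submonoid.powers f)

theorem phi_invPow : phi f (Localization.Away f) (invPow f) = 0 := by
  refine (phi_eq_zero_iff f _).2 fun n => ?_
  rw [invPow, invPow, IsLocalization.smul_mk', mul_one, IsLocalization.mk'_eq_iff_eq]
  simp [pow_succ]

theorem smul_invPow (a : Λ) (n : ℕ) : a • invPow f n =
    IsLocalization.mk' (Localization.Away f) a (⟨f ^ n, n, rfl⟩ : Submonoid.powers f) := by
  rw [invPow, IsLocalization.smul_mk', mul_one]

theorem linearCombination_invPow_surjective :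
    Function.Surjective (Finsupp.linearCombination Λ (invPow f)) := fun z => by
  obtain ⟨⟨a, ⟨_, n, rfl⟩⟩, rfl⟩ := IsLocalization.mk'_surjective (Submonoid.powers f) z
  exact ⟨Finsupp.single n a, by rw [Finsupp.linearCombination_single, smul_invPow]⟩

theorem exists_lift {x : ℕ → M} (hx : phi f M x = 0) :
    ∃ φ : Localization.Away f →ₗ[Λ] M, ∀ n, φ (invPow f n) = x n := by
  let π := Finsupp.linearCombination Λ (invPow f)
  have hker : LinearMap.ker π ≤ LinearMap.ker (Finsupp.linearCombination Λ x) := fun c hc => by
    obtain ⟨n, a, h⟩ := exists_linearCombination_eq f c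
    have h1 : a • invPow f n = 0 := (h _ _ (phi_invPow f)).symm.trans hc
    rw [smul_invPow, IsLocalization.mk'_eq_zero_iff] at h1
    obtain ⟨⟨_, m, rfl⟩, hm⟩ := h1
    change f ^ m * a = 0 at hm
    rw [LinearMap.mem_ker, h M x hx, ← pow_smul_of_phi f hx n m, smul_smul, mul_comm, hm, zero_smul]
  refine ⟨(LinearMap.ker π).liftQ _ hker ∘ₗ
    (π.quotKerEquivOfSurjective (linearCombination_invPow_surjective f)).symm.toLinearMap, fun n => ?_⟩
  have h2 : (π.quotKerEquivOfSurjective (linearCombination_invPow_surjective f)).symm (invPow f n) =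
      Submodule.Quotient.mk (Finsupp.single n 1) := by
    rw [LinearEquiv.symm_apply_eq]
    simp [π]
  simp [h2]

theorem lift_unique (φ ψ : Localization.Away f →ₗ[Λ] M) (h : ∀ n, φ (invPow f n) = ψ (invPow f n)) : φ = ψ :=
  LinearMap.ext fun z => by
    obtain ⟨c, rfl⟩ := linearCombination_invPow_surjective f z
    simp only [Finsupp.linearCombination_apply, Finsupp.sum, map_sum, map_smul, h]

theorem phi_of_linearMap (φ : Localization.Away f →ₗ[Λ] M) : phi f M (fun n => φ (invPow f n)) = 0 := by
  rw [phi_comp, phi_invPow]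
  funext n
  exact map_zero φ

theorem phi_bijective_of_nilpotent {k : ℕ} (h : ∀ m : M, f ^ k • m = 0) : Function.Bijective (phi f M) := by
  refine ⟨LinearMap.ker_eq_bot.1 (LinearMap.ker_eq_bot'.2 fun x hx => funext fun n => ?_), fun y => ?_⟩
  · rw [← pow_smul_of_phi f hx n k, h, Pi.zero_apply]
  · refine ⟨fun n => -∑ j ∈ Finset.range k, f ^ j • y (n + j), funext fun n => ?_⟩
    show f • (-∑ j ∈ Finset.range k, f ^ j • y (n + 1 + j)) - -∑ j ∈ Finset.range k, f ^ j • y (n + j) = y n
    have h1 := Finset.sum_range_succ' (fun j => f ^ j • y (n + j)) k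
    have h2 := Finset.sum_range_succ (fun j => f ^ j • y (n + j)) k
    rw [h2, h, add_zero] at h1
    rw [h1]
    simp only [smul_neg, Finset.smul_sum, smul_smul, ← pow_succ', pow_zero, one_smul, add_zero,
      show ∀ j, n + 1 + j = n + (j + 1) from fun j => by omega]
    abel

/-- The relations of `Λ_f`. -/
noncomputable def delta : (ℕ →₀ Λ) →ₗ[Λ] (ℕ →₀ Λ) :=
  Finsupp.linearCombination Λ (fun n => Finsupp.single (n + 1) f - Finsupp.single n 1)

theorem delta_apply_zero (c : ℕ →₀ Λ) : delta f c 0 = -c 0 := by
  induction c using Finsupp.induction_linear with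
  | zero => simp
  | add c d hc hd => simp [hc, hd, add_comm]
  | single k a => cases k <;> simp [delta]

theorem delta_apply_succ (c : ℕ →₀ Λ) (m : ℕ) : delta f c (m + 1) = f * c m - c (m + 1) := by
  induction c using Finsupp.induction_linear with
  | zero => simp
  | add c d hc hd => simp only [map_add, Finsupp.add_apply, hc, hd]; ring
  | single k a =>
    rw [delta, Finsupp.linearCombination_single]
    simp only [Finsupp.smul_apply, Finsupp.sub_apply, Finsupp.single_apply, smul_eq_mul]
    split_ifs <;> first | omega | ring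

theorem delta_injective : Function.Injective (delta f) := by
  refine LinearMap.ker_eq_bot.1 (LinearMap.ker_eq_bot'.2 fun c hc => Finsupp.ext fun n => ?_)
  induction n with
  | zero => simpa [hc] using delta_apply_zero f c
  | succ m ih => simpa [hc, ih] using delta_apply_succ f c m

theorem phi_surjective_of_injective (I : ModuleCat.{w} Λ) [Injective I] : Function.Surjective (phi f I) := fun y => by
  haveI : Mono (ModuleCat.ofHom (delta f)) := (ModuleCat.mono_iff_injective _).2 (delta_injective f)
  let h := Injective.factorThru (ModuleCat.ofHom (Finsupp.linearCombination Λ y)) (ModuleCat.ofHom (delta f))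
  refine ⟨fun n => h.hom (Finsupp.single n 1), funext fun n => ?_⟩
  have h1 := congrArg (fun g => g.hom (Finsupp.single n 1))
    (Injective.comp_factorThru (ModuleCat.ofHom (Finsupp.linearCombination Λ y)) (ModuleCat.ofHom (delta f)))
  have hd : delta f (Finsupp.single n 1) = Finsupp.single (n + 1) f - Finsupp.single n 1 := by simp [delta]
  simp only [ModuleCat.hom_comp, LinearMap.comp_apply, ModuleCat.hom_ofHom, hd, Finsupp.linearCombination_single,
    one_smul, map_sub] at h1
  refine Eq.trans ?_ h1
  show f • h.hom (Finsupp.single (n + 1) 1) - _ = _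
  rw [← map_smul, Finsupp.smul_single, smul_eq_mul, mul_one]

section Exact

variable {K : Type w} [AddCommGroup K] [Module Λ K] (i : K →ₗ[Λ] M) (p : M →ₗ[Λ] N)

theorem phi_injective_of_mono (hi : Function.Injective i) (h : Function.Injective (phi f M)) :
    Function.Injective (phi f K) := fun x y hxy => funext fun n => hi
  (congrFun (h (by rw [phi_comp, phi_comp, hxy]) : (fun n => i (x n)) = fun n => i (y n)) n)

theorem phi_surjective_of_epi (hp : Function.Surjective p) (h : Function.Surjective (phi f M)) :
    Function.Surjective (phi f N) := fun y => by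
  choose z hz using hp
  obtain ⟨x, hx⟩ := h fun n => z (y n)
  exact ⟨fun n => p (x n), by rw [phi_comp, hx]; exact funext fun n => hz (y n)⟩

variable (hi : Function.Injective i) (hex : Function.Exact i p)
include hi hex

theorem phi_surjective_sub (hN : Function.Injective (phi f N)) (hM : Function.Surjective (phi f M)) :
    Function.Surjective (phi f K) := fun y => by
  obtain ⟨x, hx⟩ := hM fun n => i (y n)
  have h0 : (fun n => p (x n)) = 0 := hN (by
    rw [phi_comp, hx, map_zero]
    exact funext fun n => hex.apply_apply_eq_zero (y n))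
  choose z hz using fun n => (hex (x n)).1 (congrFun h0 n)
  refine ⟨z, funext fun n => hi ?_⟩
  rw [← congrFun (phi_comp f i z) n, ← congrFun hx n]
  simp only [hz]

theorem phi_injective_quot (hp : Function.Surjective p) (hK : Function.Surjective (phi f K))
    (hM : Function.Injective (phi f M)) : Function.Injective (phi f N) := by
  refine LinearMap.ker_eq_bot.1 (LinearMap.ker_eq_bot'.2 fun z hz => ?_)
  choose x hx using fun n => hp (z n)
  have h0 : ∀ n, p (phi f M x n) = 0 := fun n => by
    rw [← congrFun (phi_comp f p x) n]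
    simp only [hx]
    exact congrFun hz n
  choose y hy using fun n => (hex _).1 (h0 n)
  obtain ⟨w, hw⟩ := hK y
  have h1 : x = fun n => i (w n) := hM (by rw [phi_comp, hw]; exact (funext hy).symm)
  funext n
  rw [← hx n, h1]
  exact hex.apply_apply_eq_zero (w n)

theorem phi_injective_mid (hK : Function.Injective (phi f K)) (hN : Function.Injective (phi f N)) :
    Function.Injective (phi f M) := by
  refine LinearMap.ker_eq_bot.1 (LinearMap.ker_eq_bot'.2 fun x hx => ?_)
  have h0 : (fun n => p (x n)) = 0 := hN (by
    rw [phi_comp, hx, map_zero]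
    exact funext fun n => map_zero p)
  choose z hz using fun n => (hex (x n)).1 (congrFun h0 n)
  have h1 : z = 0 := hK (by
    rw [map_zero]
    refine funext fun n => hi ?_
    rw [← congrFun (phi_comp f i z) n]
    simp only [hz, hx, Pi.zero_apply, map_zero])
  funext n
  rw [← hz n, h1, Pi.zero_apply, map_zero]
  rfl

theorem phi_surjective_mid (hp : Function.Surjective p) (hK : Function.Surjective (phi f K))
    (hN : Function.Surjective (phi f N)) : Function.Surjective (phi f M) := fun y => by
  obtain ⟨z, hz⟩ := hN fun n => p (y n)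
  choose x hx using fun n => hp (z n)
  have h0 : ∀ n, p (y n - phi f M x n) = 0 := fun n => by
    rw [map_sub, ← congrFun (phi_comp f p x) n]
    simp only [hx, hz, sub_self]
  choose d hd using fun n => (hex _).1 (h0 n)
  obtain ⟨w, hw⟩ := hK d
  refine ⟨x + fun n => i (w n), ?_⟩
  rw [map_add, phi_comp, hw]
  funext n
  simp only [Pi.add_apply, hd, add_sub_cancel]

end Exact

/-- A module which is derived complete and equal to `IM` vanishes. -/
theorem eq_zero_of_phi_bijective {r : ℕ} (a : Fin r → Λ) (M : Type w) [AddCommGroup M] [Module Λ M]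
    (h : ∀ k, Function.Bijective (phi (a k) M)) (hM : ∀ m : M, ∃ y : Fin r → M, ∑ k, a k • y k = m) (m : M) :
    m = 0 := by
  induction r generalizing M with
  | zero =>
    obtain ⟨y, hy⟩ := hM m
    simpa using hy.symm
  | succ r ih =>
    have hsurj : ∀ m : M, ∃ x, a 0 • x = m := fun m => by
      let S : Submodule Λ M := LinearMap.range (LinearMap.lsmul Λ M (a 0))
      have hS : ∀ k, Function.Bijective (phi (a k) (M ⧸ S)) := fun k => by
        have hpi := phi_surjective_of_epi (a k) S.mkQ S.mkQ_surjective (h k).2
        have hSs : Function.Surjective (phi (a k) ↥S) :=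
          phi_surjective_of_epi (a k) (LinearMap.lsmul Λ M (a 0)).rangeRestrict
            (LinearMap.surjective_rangeRestrict _) (h k).2
        exact ⟨phi_injective_quot (a k) S.subtype S.mkQ S.injective_subtype (LinearMap.exact_subtype_mkQ S)
          S.mkQ_surjective hSs (h k).1, hpi⟩
      have h0 : S.mkQ m = 0 := ih (fun k => a k.succ) (M ⧸ S) (fun k => hS k.succ) (fun q => by
        obtain ⟨q, rfl⟩ := S.mkQ_surjective q
        obtain ⟨y, rfl⟩ := hM q
        refine ⟨fun k => S.mkQ (y k.succ), ?_⟩
        rw [Fin.sum_univ_succ, map_add, show S.mkQ (a 0 • y 0) = 0 from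
          (Submodule.Quotient.mk_eq_zero S).2 ⟨y 0, rfl⟩, zero_add, map_sum]
        simp only [map_smul]) (S.mkQ m)
      exact (Submodule.Quotient.mk_eq_zero S).1 h0
    choose g hg using hsurj
    have hseq : phi (a 0) M (fun n => g^[n] m) = 0 :=
      (phi_eq_zero_iff _ _).2 fun n => by rw [Function.iterate_succ_apply', hg]
    exact congrFun ((h 0).1 (hseq.trans (map_zero _).symm) : (fun n => g^[n] m) = 0) 0

end Groth.Agent.EpsLib.DC
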