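import Groth.Prelude.Def_ProEtDC
import Groth.Agent.EpsLib.AdicLim
import Groth.Agent.EpsLib.DCAlg
import Mathlib.Algebra.Category.ModuleCat.Adjunctions
import Mathlib.CategoryTheory.Comma.Over.Basic

/-! The sheaves `j_{U!} M` and their adjunction with sections. -/

set_option autoImplicit false
set_option linter.style.haveILetI false
set_option backward.isDefEq.respectTransparency false
set_option synthInstance.maxHeartbeats 400000
set_option maxHeartbeats 800000
universe u

open CategoryTheory CategoryTheory.Limits AlgebraicGeometry Opposite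

namespace Groth.Agent.EpsLib.DC

variable (Λ : Type (u + 1)) [CommRing Λ] {X : Scheme.{u}}

/-- `M ↦ j_{W!} M`. -/
noncomputable abbrev GW (W : X.ProEt) : ModuleCat.{u + 1} Λ ⥤ EtModW.ModP Λ X :=
  constantSheaf ((Scheme.ProEt.topology X).over W) (ModuleCat.{u + 1} Λ) ⋙ ProEtDC.extZeroModP Λ W

/-- `j_{W!}` is left adjoint to the sections over `W`. -/
noncomputable def adjW (W : X.ProEt) : GW Λ W ⊣ evM Λ W :=
  ((constantSheafAdj ((Scheme.ProEt.topology X).over W) (ModuleCat.{u + 1} Λ) (Over.mkIdTerminal (X := W))).comp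
    ((Over.forget W).sheafAdjunctionContinuous (ModuleCat.{u + 1} Λ) ((Scheme.ProEt.topology X).over W)
      (Scheme.ProEt.topology X))).ofNatIsoRight (NatIso.ofComponents (fun F => Iso.refl _))

variable {Λ}

theorem adjW_homEquiv_smul (W : X.ProEt) (M : ModuleCat.{u + 1} Λ) (F : EtModW.ModP Λ X) (c : Λ)
    (h : (GW Λ W).obj M ⟶ F) : (adjW Λ W).homEquiv M F (c • h) = c • (adjW Λ W).homEquiv M F h := by
  rw [Adjunction.homEquiv_unit, Adjunction.homEquiv_unit, ← Linear.comp_smul]
  rfl

theorem exists_inverse_GW (W : X.ProEt) {M : ModuleCat.{u + 1} Λ} (c : Λ) (ν : M ⟶ M) (hν : c • ν = 𝟙 M) :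
    c • (GW Λ W).map ν = 𝟙 ((GW Λ W).obj M) := by
  apply ((adjW Λ W).homEquiv _ _).injective
  rw [adjW_homEquiv_smul, Adjunction.homEquiv_unit, Adjunction.homEquiv_id]
  exact (congrArg (c • ·) ((adjW Λ W).unit.naturality ν).symm).trans
    ((Linear.smul_comp _ _ _ _ _ _).symm.trans ((congrArg (fun m => m ≫ (adjW Λ W).unit.app M) hν).trans (Category.id_comp _)))

section Free

variable (Λ) in
/-- The presheaf `V ↦ A^{(Hom(V, W))}`. -/
noncomputable def freePsh (W : X.ProEt) (A : ModuleCat.{u + 1} Λ) : X.ProEtᵒᵖ ⥤ ModuleCat.{u + 1} Λ where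
  obj V := ModuleCat.of Λ ((V.unop ⟶ W) →₀ A)
  map k := ModuleCat.ofHom (Finsupp.lmapDomain A Λ (k.unop ≫ ·))
  map_id V := by
    ext x : 1
    refine Finsupp.lhom_ext fun g a => ?_
    simp [Finsupp.lmapDomain_apply]
  map_comp k k' := by
    ext x : 1
    refine Finsupp.lhom_ext fun g a => ?_
    simp [Finsupp.lmapDomain_apply, Category.assoc]

/-- Functoriality of `freePsh`. -/
noncomputable def freePshMap (W : X.ProEt) {A B : ModuleCat.{u + 1} Λ} (i : A ⟶ B) : freePsh Λ W A ⟶ freePsh Λ W B where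
  app V := ModuleCat.ofHom (Finsupp.mapRange.linearMap i.hom)
  naturality V V' k := by
    ext x : 1
    refine Finsupp.lhom_ext fun g a => ?_
    simp [freePsh, Finsupp.lmapDomain_apply]

theorem mono_freePshMap (W : X.ProEt) {A B : ModuleCat.{u + 1} Λ} (i : A ⟶ B) [Mono i] : Mono (freePshMap W i) := by
  haveI : ∀ V, Mono ((freePshMap W i).app V) := fun V => (ModuleCat.mono_iff_injective _).2
    (Finsupp.mapRange_injective i.hom (map_zero _) ((ModuleCat.mono_iff_injective i).1 inferInstance))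
  exact NatTrans.mono_of_mono_app _

/-- The map out of `freePsh` given by sections over `W`. -/
noncomputable def freePshDesc (W : X.ProEt) {A : ModuleCat.{u + 1} Λ} (P : X.ProEtᵒᵖ ⥤ ModuleCat.{u + 1} Λ)
    (a : A ⟶ P.obj (op W)) : freePsh Λ W A ⟶ P where
  app V := ModuleCat.ofHom (Finsupp.lsum Λ (fun g : V.unop ⟶ W => (a ≫ P.map g.op).hom))
  naturality V V' k := by
    ext x : 1
    refine Finsupp.lhom_ext fun g b => ?_
    simp [freePsh, Finsupp.lmapDomain_apply]

theorem injective_evM_obj (W : X.ProEt) (I : EtModW.ModP Λ X) [Injective I] : Injective ((evM Λ W).obj I) := by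
  refine ⟨fun {A B} g i _ => ?_⟩
  haveI := mono_freePshMap W i
  let L := presheafToSheaf (Scheme.ProEt.topology X) (ModuleCat.{u + 1} Λ)
  let adj := sheafificationAdjunction (Scheme.ProEt.topology X) (ModuleCat.{u + 1} Λ)
  haveI : Mono (L.map (freePshMap W i)) := L.map_mono _
  let φ : L.obj (freePsh Λ W A) ⟶ I := (adj.homEquiv _ _).symm (freePshDesc W I.obj g)
  let h := adj.homEquiv _ _ (Injective.factorThru φ (L.map (freePshMap W i)))
  have hh : freePshMap W i ≫ h = freePshDesc W I.obj g := by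
    rw [← Adjunction.homEquiv_naturality_left, Injective.comp_factorThru, Equiv.apply_symm_apply]
  refine ⟨ModuleCat.ofHom ((h.app (op W)).hom ∘ₗ Finsupp.lsingle (𝟙 W)), ?_⟩
  ext a
  have h1 := congrArg (fun t => (t.app (op W)).hom (Finsupp.single (𝟙 W) a)) hh
  change (h.app (op W)).hom (Finsupp.mapRange.linearMap i.hom (Finsupp.single (𝟙 W) a)) =
    Finsupp.lsum Λ (fun g' : W ⟶ W => (g ≫ I.obj.map g'.op).hom) (Finsupp.single (𝟙 W) a) at h1
  rw [Finsupp.mapRange.linearMap_apply, Finsupp.mapRange_single, Finsupp.lsum_single, op_id, I.obj.map_id] at h1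
  exact h1.trans (congrArg (fun t => t.hom a) (Category.comp_id g))

end Free

theorem evM_surjective {W : X.ProEt} (hW : ProEtS.IsWC W) {A B : EtModW.ModP Λ X} (g : A ⟶ B) [Epi g] :
    Function.Surjective ((evM Λ W).map g).hom := by
  haveI hls : Sheaf.IsLocallySurjective g :=
    (Sheaf.isLocallySurjective_iff_epi' (J := Scheme.ProEt.topology X) (A := ModuleCat.{u + 1} Λ) g).2 inferInstance
  have hls' : Sheaf.IsLocallySurjective ((sheafCompose (Scheme.ProEt.topology X) (forget (ModuleCat.{u + 1} Λ))).map g) :=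
    ⟨fun t => hls.1 t⟩
  exact hW _ _ _ ((Sheaf.isLocallySurjective_iff_epi _).1 hls')

theorem evM_exact (W : X.ProEt) {S : ShortComplex (EtModW.ModP Λ X)} (hS : S.ShortExact) :
    Function.Injective ((evM Λ W).map S.f).hom ∧ Function.Exact ((evM Λ W).map S.f).hom ((evM Λ W).map S.g).hom := by
  haveI := hS.mono_f
  refine ⟨(ModuleCat.mono_iff_injective _).1 inferInstance, ?_⟩
  exact (ShortComplex.ShortExact.moduleCat_exact_iff_function_exact _).1
    (hS.exact.map_of_mono_of_preservesKernel (evM Λ W) ‹_› inferInstance)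

theorem evM_injective_mono (W : X.ProEt) {A B : EtModW.ModP Λ X} (g : A ⟶ B) [Mono g] :
    Function.Injective ((evM Λ W).map g).hom :=
  (ModuleCat.mono_iff_injective _).1 inferInstance

end Groth.Agent.EpsLib.DC
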