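import Groth.Agent.EpsLib.AdicLim
import Groth.Agent.EpsLib.DCSheaf

/-! Limits of pullbacks of systems which are adic up to translation are exact. -/

set_option autoImplicit false
set_option linter.style.haveILetI false
set_option backward.isDefEq.respectTransparency false
set_option synthInstance.maxHeartbeats 400000
set_option maxHeartbeats 1000000
universe u

open CategoryTheory CategoryTheory.Limits AlgebraicGeometry Opposite

namespace Groth.Agent.EpsLib

variable {Λ : Type (u + 1)} [CommRing Λ] {X : Scheme.{u}}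

theorem evM_exact_of_exact {W : X.ProEt} (hW : ProEtS.IsWC W) {A B C : EtModW.ModP Λ X} (f : A ⟶ B) (g : B ⟶ C)
    (w : f ≫ g = 0) (h : (ShortComplex.mk f g w).Exact) :
    Function.Exact ((evM Λ W).map f).hom ((evM Λ W).map g).hom := fun b => by
  refine ⟨fun hb => ?_, ?_⟩
  · have hk := (ShortComplex.ShortExact.moduleCat_exact_iff_function_exact _).1
      ((ShortComplex.exact_of_f_is_kernel (ShortComplex.mk (kernel.ι g) g (kernel.condition g))
        (kernelIsKernel g)).map_of_mono_of_preservesKernel (evM Λ W) inferInstance inferInstance)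
    obtain ⟨k, rfl⟩ := (hk b).1 hb
    haveI : Epi (kernel.lift g f w) := h.epi_kernelLift
    obtain ⟨a, rfl⟩ := DC.evM_surjective hW (kernel.lift g f w) k
    exact ⟨a, congrArg (fun t : A ⟶ B => ((evM Λ W).map t).hom a) (kernel.lift_ι g f w).symm⟩
  · rintro ⟨a, rfl⟩
    exact congrArg (fun t : A ⟶ C => ((evM Λ W).map t).hom a) w

/-- The difference operator of a tower. -/
def AdicAlg.del (D : ℕᵒᵖ ⥤ ModuleCat.{u + 1} Λ) (a : ∀ n, D.obj (op n)) (n : ℕ) : D.obj (op n) :=
  AdicAlg.T D (Nat.le_succ n) (a (n + 1)) - a n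

theorem AdicAlg.del_surjective (D : ℕᵒᵖ ⥤ ModuleCat.{u + 1} Λ)
    (hs : ∀ a b (h : a ≤ b), Function.Surjective (AdicAlg.T D h)) : Function.Surjective (AdicAlg.del D) := fun d => by
  choose g hg using fun t : ℕ => hs t (t + 1) (Nat.le_succ t)
  let a : ∀ n, D.obj (op n) := fun n => Nat.rec (motive := fun n => D.obj (op n)) 0 (fun t at' => g t (at' + d t)) n
  refine ⟨a, funext fun n => ?_⟩
  show AdicAlg.T D (Nat.le_succ n) (g n (a n + d n)) - a n = d n
  rw [hg, add_sub_cancel_left]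

theorem exists_del_shift (D : ℕᵒᵖ ⥤ ModuleCat.{u + 1} Λ) (r : ℕ) (d : ∀ n, D.obj (op n)) :
    ∃ a : ∀ n, D.obj (op n), ∀ n, AdicAlg.del D a n = AdicAlg.T D (Nat.le_add_right n r) (d (n + r)) - d n := by
  refine ⟨fun n => ∑ j ∈ Finset.range r, AdicAlg.T D (Nat.le_add_right n j) (d (n + j)), fun n => ?_⟩
  let F : ℕ → D.obj (op n) := fun j => AdicAlg.T D (Nat.le_add_right n j) (d (n + j))
  have h1 := Finset.sum_range_succ' F r
  rw [Finset.sum_range_succ] at h1
  have h0 : F 0 = d n := AdicAlg.T_refl D n (d n)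
  have hF : ∀ j, AdicAlg.T D (Nat.le_succ n) (AdicAlg.T D (Nat.le_add_right (n + 1) j) (d (n + 1 + j))) = F (j + 1) := fun j => by
    rw [AdicAlg.T_trans]
    have key : ∀ m m' (e : m = m') (h : n ≤ m), AdicAlg.T D h (d m) = AdicAlg.T D (e ▸ h) (d m') := by
      rintro m m' rfl h
      rfl
    exact key _ _ (show n + 1 + j = n + (j + 1) by omega) _
  show AdicAlg.T D (Nat.le_succ n) (∑ j ∈ Finset.range r, _) - ∑ j ∈ Finset.range r, F j = F r - d n
  rw [map_sum, Finset.sum_congr rfl fun j _ => hF j, ← h0]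
  exact sub_eq_sub_iff_add_eq_add.2 ((h1.symm).trans (add_comm _ _))

variable [ProEtS.EpsCont X]

theorem epi_limMap_of_shortExact {I : Ideal Λ} (hI : I.FG) (S : ShortComplex (ARSys.PS (EtModW.Mod Λ X)))
    (hS : S.ShortExact) (hA : ∃ (Y : ARSys.PS (EtModW.Mod Λ X)) (v : Y ⟶ S.X₁), ARSys.IsAdic I Y ∧ ARSys.IsARIso v) :
    Epi (limMap (Functor.whiskerRight S.g (EtModW.epsPullMod Λ X))) := by
  obtain ⟨Y, v, hY, -, r, hr⟩ := hA
  haveI := (epsPullMod_exact Λ X).1
  haveI := (epsPullMod_exact Λ X).2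
  let L := EtModW.epsPullMod Λ X
  refine ⟨fun u w huw => ?_⟩
  rw [← sub_eq_zero]
  refine hom_eq_zero_of_wc _ fun W hW c => ?_
  suffices hsurj : ∃ b, ((evM Λ W).map (limMap (Functor.whiskerRight S.g L))).hom b = c by
    obtain ⟨b, rfl⟩ := hsurj
    have h1 : limMap (Functor.whiskerRight S.g L) ≫ (u - w) = 0 := by rw [Preadditive.comp_sub, huw, sub_self]
    exact congrArg (fun t => ((evM Λ W).map t).hom b) h1
  let A := S.X₁ ⋙ L ⋙ evM Λ W
  let B := S.X₂ ⋙ L ⋙ evM Λ W
  let C := S.X₃ ⋙ L ⋙ evM Λ W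
  let Y' := Y ⋙ L ⋙ evM Λ W
  let f' : A ⟶ B := Functor.whiskerRight S.f (L ⋙ evM Λ W)
  let g' : B ⟶ C := Functor.whiskerRight S.g (L ⋙ evM Λ W)
  let v' : Y' ⟶ A := Functor.whiskerRight v (L ⋙ evM Λ W)
  have hSn : ∀ n : ℕ, ((S.map ((evaluation ℕᵒᵖ (EtModW.Mod Λ X)).obj (op n))).map L).ShortExact := fun n => by
    haveI : PreservesFiniteLimits ((evaluation ℕᵒᵖ (EtModW.Mod Λ X)).obj (op n)) := inferInstance
    haveI : PreservesFiniteColimits ((evaluation ℕᵒᵖ (EtModW.Mod Λ X)).obj (op n)) := inferInstance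
    exact (hS.map_of_exact _).map_of_exact L
  have hex : ∀ n, Function.Exact (f'.app (op n)).hom (g'.app (op n)).hom := fun n => (DC.evM_exact W (hSn n)).2
  have hg : ∀ n, Function.Surjective (g'.app (op n)).hom := fun n => by
    haveI := (hSn n).epi_g
    exact DC.evM_surjective hW ((S.map ((evaluation ℕᵒᵖ (EtModW.Mod Λ X)).obj (op n))).map L).g
  have nat : ∀ {P Q : ℕᵒᵖ ⥤ ModuleCat.{u + 1} Λ} (φ : P ⟶ Q) {a b : ℕ} (h : a ≤ b) (x : P.obj (op b)),
      (φ.app (op a)).hom (AdicAlg.T P h x) = AdicAlg.T Q h ((φ.app (op b)).hom x) := fun {P Q} φ {a b} h x =>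
    congrArg (fun t => t.hom x) (φ.naturality (homOfLE h).op)
  let e := Types.isLimitEquivSections (isLimitOfPreserves (evM Λ W ⋙ forget (ModuleCat.{u + 1} Λ)) (limit.isLimit (S.X₃ ⋙ L)))
  let cs : ∀ n, C.obj (op n) := fun n => ((evM Λ W).map (limit.π (S.X₃ ⋙ L) (op n))).hom c
  choose b hb using fun n => hg n (cs n)
  have hd0 : ∀ n, (g'.app (op n)).hom (AdicAlg.del B b n) = 0 := fun n => by
    rw [AdicAlg.del, map_sub, nat, hb, hb, sub_eq_zero]
    show ((evM Λ W).map (limit.π (S.X₃ ⋙ L) (op (n + 1))) ≫ (evM Λ W).map ((S.X₃ ⋙ L).map _)).hom c = _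
    rw [← Functor.map_comp, limit.w]
  choose d hd using fun n => (hex n _).1 (hd0 n)
  have himg : ∀ n, ∃ y, (v'.app (op n)).hom y = AdicAlg.T A (Nat.le_add_right n r) (d (n + r)) := fun n => by
    let K : ShortComplex (EtModW.Mod Λ X) :=
      (ShortComplex.mk v (cokernel.π v) (cokernel.condition v)).map ((evaluation ℕᵒᵖ (EtModW.Mod Λ X)).obj (op n))
    have hK : K.Exact := (ShortComplex.exact_of_g_is_cokernel _ (cokernelIsCokernel v)).map _
    refine (evM_exact_of_exact hW (L.map K.f) (L.map K.g) (by rw [← L.map_comp, K.zero, L.map_zero]) (hK.map L) _).1 ?_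
    have h1 : ((cokernel.π v).app (op (n + r))) ≫ ARSys.shiftMap (cokernel v) r n =
        S.X₁.map (homOfLE (Nat.le_add_right n r)).op ≫ (cokernel.π v).app (op n) :=
      ((cokernel.π v).naturality _).symm
    rw [hr n, comp_zero] at h1
    have h2 : L.map (S.X₁.map (homOfLE (Nat.le_add_right n r)).op) ≫ L.map ((cokernel.π v).app (op n)) = 0 := by
      rw [← L.map_comp, ← h1, L.map_zero]
    exact congrArg (fun t => ((evM Λ W).map t).hom (d (n + r))) h2
  choose y hy using himg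
  obtain ⟨z, hz⟩ := AdicAlg.del_surjective Y' (fun a b h =>
    (ker_T hI (Y ⋙ L) (isAdic_comp_epsPullMod hY) W hW h).1) y
  obtain ⟨a, ha⟩ := exists_del_shift A r d
  let a' : ∀ n, A.obj (op n) := fun n => (v'.app (op n)).hom (z n) - a n
  have hdel : ∀ n, AdicAlg.del A a' n = d n := fun n => by
    have h1 : AdicAlg.del A a' n = (v'.app (op n)).hom (AdicAlg.del Y' z n) - AdicAlg.del A a n := by
      simp only [a', AdicAlg.del, map_sub, nat]
      abel
    rw [h1, hz, hy, ha, sub_sub_cancel]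
  let b' : ∀ n, B.obj (op n) := fun n => b n - (f'.app (op n)).hom (a' n)
  have hb' : AdicAlg.Compat B b' := AdicAlg.compat_of_succ B b' fun j => sub_eq_zero.1 (by
    have h1 : AdicAlg.T B (Nat.le_succ j) (b' (j + 1)) - b' j =
        AdicAlg.del B b j - (f'.app (op j)).hom (AdicAlg.del A a' j) := by
      simp only [b', AdicAlg.del, map_sub, nat]
      abel
    rw [h1, hdel, hd, sub_self])
  let hcB := isLimitOfPreserves (evM Λ W ⋙ forget (ModuleCat.{u + 1} Λ)) (limit.isLimit (S.X₂ ⋙ L))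
  refine ⟨(Types.isLimitEquivSections hcB).symm ⟨fun j => b' j.unop, fun {j j'} k => ?_⟩, ?_⟩
  · rw [show k = (homOfLE (leOfHom k.unop)).op from Quiver.Hom.unop_inj (Subsingleton.elim _ _)]
    exact hb' _ _ _
  · refine e.injective (Subtype.ext (funext fun j => ?_))
    rw [Types.isLimitEquivSections_apply, Types.isLimitEquivSections_apply]
    obtain ⟨n⟩ := j
    show ((evM Λ W).map (limMap _) ≫ (evM Λ W).map (limit.π (S.X₃ ⋙ L) (op n))).hom _ = cs n
    rw [← Functor.map_comp, limMap_π, Functor.map_comp, ModuleCat.hom_comp, LinearMap.comp_apply]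
    refine (congrArg (g'.app (op n)).hom (Types.isLimitEquivSections_symm_apply hcB _ (op n))).trans ?_
    rw [map_sub, hb, hex n |>.apply_apply_eq_zero, sub_zero]

end Groth.Agent.EpsLib
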