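import Groth.Agent.EpsLib.AdicLim

/-! Adic systems on the étale site and their limits on the pro-étale site. -/

set_option autoImplicit false
set_option linter.style.haveILetI false
set_option backward.isDefEq.respectTransparency false
set_option synthInstance.maxHeartbeats 400000
set_option maxHeartbeats 800000
universe u

open CategoryTheory CategoryTheory.Limits AlgebraicGeometry Opposite

namespace Groth.Agent.EpsLib

variable (Λ : Type (u + 1)) [CommRing Λ] {I : Ideal Λ} (hI : I.FG) (X : Scheme.{u}) [ProEtS.EpsCont X]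

include hI in
theorem full_faithful_limit :
    (ObjectProperty.ι (fun G : ARSys.PS (EtModW.Mod Λ X) => ARSys.IsAdic I G) ⋙
        ((Functor.whiskeringRight ℕᵒᵖ (EtModW.Mod Λ X) (EtModW.ModP Λ X)).obj (EtModW.epsPullMod Λ X) ⋙ lim)).Full ∧
    (ObjectProperty.ι (fun G : ARSys.PS (EtModW.Mod Λ X) => ARSys.IsAdic I G) ⋙
        ((Functor.whiskeringRight ℕᵒᵖ (EtModW.Mod Λ X) (EtModW.ModP Λ X)).obj (EtModW.epsPullMod Λ X) ⋙ lim)).Faithful := by
  obtain ⟨_, _⟩ := epsPullMod_fullyFaithful (Λ := Λ) (X := X)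
  let L := EtModW.epsPullMod Λ X
  refine ⟨⟨fun {G H} ψ => ?_⟩, ⟨fun {G H} f g hfg => ?_⟩⟩
  · have hq : ∀ n : ℕ, ∃! t : L.obj (G.obj.obj (op n)) ⟶ L.obj (H.obj.obj (op n)),
        limit.π (G.obj ⋙ L) (op n) ≫ t = ψ ≫ limit.π (H.obj ⋙ L) (op n) := fun n =>
      (isQuot_limit_π hI G.property n).2 _ (ψ ≫ limit.π (H.obj ⋙ L) (op n))
        ((killedBy_iff_hom _ _).1 (killedBy_epsPullMod (H.property.1 n)) _ _)
    choose t ht _ using hq
    have hnat : ∀ {a b : ℕᵒᵖ} (k : a ⟶ b), G.obj.map k ≫ L.preimage (t b.unop) = L.preimage (t a.unop) ≫ H.obj.map k := by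
      intro a b k
      haveI := epi_π hI (G.obj ⋙ L) (isAdic_comp_epsPullMod G.property) a.unop
      apply L.map_injective
      rw [L.map_comp, L.map_comp, L.map_preimage, L.map_preimage]
      apply (cancel_epi (limit.π (G.obj ⋙ L) a)).1
      calc limit.π (G.obj ⋙ L) a ≫ (G.obj ⋙ L).map k ≫ t b.unop
          = limit.π (G.obj ⋙ L) b ≫ t b.unop := by rw [← Category.assoc, limit.w]
        _ = ψ ≫ limit.π (H.obj ⋙ L) b := ht b.unop
        _ = (ψ ≫ limit.π (H.obj ⋙ L) a) ≫ (H.obj ⋙ L).map k := by rw [Category.assoc, limit.w]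
        _ = (limit.π (G.obj ⋙ L) a ≫ t a.unop) ≫ (H.obj ⋙ L).map k := by rw [← ht a.unop]
        _ = limit.π (G.obj ⋙ L) a ≫ t a.unop ≫ L.map (H.obj.map k) := Category.assoc _ _ _
    refine ⟨ObjectProperty.homMk { app := fun a => L.preimage (t a.unop), naturality := fun _ _ k => hnat k }, ?_⟩
    refine limit.hom_ext fun a => ?_
    refine (limMap_π _ a).trans ?_
    show limit.π (G.obj ⋙ L) a ≫ L.map (L.preimage (t a.unop)) = _
    rw [L.map_preimage]
    exact ht a.unop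
  · apply ObjectProperty.hom_ext
    apply NatTrans.ext
    funext a
    haveI := epi_π hI (G.obj ⋙ L) (isAdic_comp_epsPullMod G.property) a.unop
    apply L.map_injective
    refine (cancel_epi (limit.π (G.obj ⋙ L) a)).1 ?_
    have h1 := congrArg (fun m => m ≫ limit.π (H.obj ⋙ L) a) hfg
    exact ((limMap_π (Functor.whiskerRight f.hom L) a).symm.trans h1).trans (limMap_π (Functor.whiskerRight g.hom L) a)

include hI in
theorem isAdicP_iff (F : EtModW.ModP Λ X) :
    (∃ (Q : ℕᵒᵖ ⥤ EtModW.ModP Λ X) (p : (Functor.const ℕᵒᵖ).obj F ⟶ Q),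
        (∀ n : ℕ, ARSys.IsQuot (I ^ (n + 1)) (p.app (op n))) ∧
        (∀ n : ℕ, ∃ E : EtModW.Mod Λ X, EtModW.IsConstructible Λ E ∧
          Nonempty ((EtModW.epsPullMod Λ X).obj E ≅ Q.obj (op n))) ∧
        IsIso (limit.lift Q (Cone.mk F p))) ↔
      ∃ G : ARSys.PS (EtModW.Mod Λ X), ARSys.IsAdic I G ∧
        (∀ n : ℕ, EtModW.IsConstructible Λ (G.obj (op n))) ∧
        Nonempty (limit (G ⋙ EtModW.epsPullMod Λ X) ≅ F) := by
  obtain ⟨_, _⟩ := epsPullMod_fullyFaithful (Λ := Λ) (X := X)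
  let L := EtModW.epsPullMod Λ X
  constructor
  · rintro ⟨Q, p, hq, hE, hiso⟩
    choose E hE e using hE
    let e' : ∀ a : ℕᵒᵖ, L.obj (E a.unop) ≅ Q.obj a := fun a => (e a.unop).some
    let G : ARSys.PS (EtModW.Mod Λ X) :=
      { obj := fun a => E a.unop
        map := fun {a b} k => L.preimage ((e' a).hom ≫ Q.map k ≫ (e' b).inv)
        map_id := fun a => L.map_injective (by simp)
        map_comp := fun k k' => L.map_injective (by simp) }
    let i : G ⋙ L ≅ Q := NatIso.ofComponents e' (fun {a b} k => by simp [G])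
    have hQ : ARSys.IsAdic I (G ⋙ L) := by
      have hk : ∀ n, ARSys.KilledBy (I ^ (n + 1)) (L.obj (E n)) := fun n c hc => by
        have h1 := congrArg (fun m => (e' (op n)).hom ≫ m ≫ (e' (op n)).inv) ((hq n).1 c hc)
        simpa using h1
      refine ⟨hk, fun a b h => ⟨hk a, fun Y φ hφ => ?_⟩⟩
      have hp : p.app (op b) ≫ (e' (op b)).inv ≫ ARSys.tr (G ⋙ L) h = p.app (op a) ≫ (e' (op a)).inv := by
        have h1 : p.app (op b) ≫ Q.map (homOfLE h).op = p.app (op a) := by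
          rw [← p.naturality]
          simp
        show p.app (op b) ≫ (e' (op b)).inv ≫ L.map (G.map (homOfLE h).op) = _
        simp [G, reassoc_of% h1]
      obtain ⟨t, ht, hu⟩ := (hq a).2 Y (p.app (op b) ≫ (e' (op b)).inv ≫ φ) fun c hc => by
        rw [← Linear.comp_smul, ← Linear.comp_smul, hφ c hc, comp_zero, comp_zero]
      refine ⟨(e' (op a)).hom ≫ t, ?_, fun t' ht' => ?_⟩
      · show ARSys.tr (G ⋙ L) h ≫ (e' (op a)).hom ≫ t = φ
        rw [← cancel_epi ((e' (op b)).inv)]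
        obtain ⟨s, -, hu'⟩ := (hq b).2 Y (p.app (op b) ≫ (e' (op b)).inv ≫ φ) fun c hc => by
          rw [← Linear.comp_smul, ← Linear.comp_smul, hφ c (Ideal.pow_le_pow_right (by omega) hc), comp_zero, comp_zero]
        refine (hu' _ ?_).trans (hu' _ rfl).symm
        show p.app (op b) ≫ (e' (op b)).inv ≫ ARSys.tr (G ⋙ L) h ≫ (e' (op a)).hom ≫ t = _
        have h3 := congrArg (fun m => m ≫ (e' (op a)).hom ≫ t) hp
        simp only [Category.assoc, Iso.inv_hom_id_assoc] at h3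
        exact h3.trans ht
      · rw [← hu ((e' (op a)).inv ≫ t') ?_, Iso.hom_inv_id_assoc]
        show p.app (op a) ≫ (e' (op a)).inv ≫ t' = _
        have h3 := congrArg (fun m => m ≫ t') hp
        simp only [Category.assoc] at h3
        exact h3.symm.trans (congrArg (fun m => p.app (op b) ≫ (e' (op b)).inv ≫ m) ht')
    refine ⟨G, ⟨fun n => killedBy_of_epsPullMod (hQ.1 n), fun a b h =>
        isQuot_of_map _ (killedBy_of_epsPullMod (hQ.1 a)) (hQ.2 a b h)⟩, fun n => hE n, ?_⟩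
    exact ⟨HasLimit.isoOfNatIso i ≪≫ (asIso (limit.lift Q (Cone.mk F p))).symm⟩
  · rintro ⟨G, hG, hE, ⟨j⟩⟩
    refine ⟨G ⋙ L, (Functor.const ℕᵒᵖ).map j.inv ≫ (limit.cone (G ⋙ L)).π, fun n => ?_,
      fun n => ⟨_, hE n, ⟨Iso.refl _⟩⟩, ?_⟩
    · obtain ⟨h1, h2⟩ := isQuot_limit_π hI hG n
      refine ⟨h1, fun Y φ hφ => ?_⟩
      obtain ⟨t, ht, hu⟩ := h2 Y (j.hom ≫ φ) fun c hc => by rw [← Linear.comp_smul, hφ c hc, comp_zero]
      refine ⟨t, ?_, fun t' ht' => hu t' ?_⟩
      · show (j.inv ≫ limit.π (G ⋙ L) (op n)) ≫ t = φ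
        rw [Category.assoc, ht, Iso.inv_hom_id_assoc]
      · show limit.π (G ⋙ L) (op n) ≫ t' = _
        rw [← ht']
        show _ = j.hom ≫ (j.inv ≫ limit.π (G ⋙ L) (op n)) ≫ t'
        rw [Category.assoc, Iso.hom_inv_id_assoc]
    · have : limit.lift (G ⋙ L) (Cone.mk F ((Functor.const ℕᵒᵖ).map j.inv ≫ (limit.cone (G ⋙ L)).π)) = j.inv :=
        limit.hom_ext fun a => by simp
      rw [this]
      infer_instance

end Groth.Agent.EpsLib
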