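import Groth.Agent.EpsLib.SingleCech
import Mathlib.CategoryTheory.Sites.Abelian
import Mathlib.CategoryTheory.Sites.Limits
import Mathlib.CategoryTheory.Sites.Types
import Mathlib.Algebra.Homology.ShortComplex.Ab
import Mathlib.Algebra.Homology.ShortComplex.ExactFunctor
import Mathlib.CategoryTheory.Preadditive.Injective.Preserves
import Mathlib.Algebra.Category.Grp.FilteredColimits

/-! Cartan's criterion with covers by a single morphism. -/

set_option autoImplicit false
set_option linter.style.haveILetI false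
set_option backward.isDefEq.respectTransparency false
universe u

open CategoryTheory CategoryTheory.Limits Opposite

namespace Groth.Agent.EpsLib

variable {C : Type (u + 1)} [Category.{u} C] {J : GrothendieckTopology C}

theorem sheaf_sect_ext (F : Sheaf J AddCommGrpCat.{u + 1}) {W : C} (R : Sieve W) (hR : R ∈ J W)
    (a b : F.obj.obj (op W)) (h : ∀ ⦃P : C⦄ (g : P ⟶ W), R g → F.obj.map g.op a = F.obj.map g.op b) : a = b :=
  (((isSheaf_iff_isSheaf_of_type _ _).1
      ((Presheaf.isSheaf_iff_isSheaf_forget _ _ (forget AddCommGrpCat.{u + 1})).1 F.property)) _ hR).isSeparatedFor.ext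
    fun _ g hg => h g hg

theorem sheaf_glue_single (F : Sheaf J AddCommGrpCat.{u + 1}) {W' W : C} (π : W' ⟶ W)
    (hπ : Sieve.ofArrows (fun _ : PUnit.{u + 1} => W') (fun _ => π) ∈ J W) (t : F.obj.obj (op W'))
    (h : ∀ (P : C) (a b : P ⟶ W'), a ≫ π = b ≫ π → F.obj.map a.op t = F.obj.map b.op t) :
    ∃ s : F.obj.obj (op W), F.obj.map π.op s = t := by
  have hsh : (Presieve.ofArrows (fun _ : PUnit.{u + 1} => W') (fun _ => π)).IsSheafFor (F.obj ⋙ forget AddCommGrpCat.{u + 1}) := by
    rw [Presieve.isSheafFor_iff_generate]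
    exact ((isSheaf_iff_isSheaf_of_type _ _).1
      ((Presheaf.isSheaf_iff_isSheaf_forget _ _ (forget AddCommGrpCat.{u + 1})).1 F.property)) _ hπ
  obtain ⟨s, hs, -⟩ := (Presieve.isSheafFor_arrows_iff _ _).1 hsh (fun _ => t) fun _ _ P a b hab => h P a b hab
  exact ⟨s, hs PUnit.unit⟩

variable [HasSheafify J AddCommGrpCat.{u + 1}]

theorem sections_exact {S : ShortComplex (Sheaf J AddCommGrpCat.{u + 1})} (hS : S.ShortExact) (W : C) :
    Function.Injective (S.f.hom.app (op W)) ∧
      ∀ x : S.X₂.obj.obj (op W), S.g.hom.app (op W) x = 0 → ∃ y, S.f.hom.app (op W) y = x := by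
  haveI := hS.mono_f
  let E := sheafToPresheaf J AddCommGrpCat.{u + 1} ⋙ (evaluation _ _).obj (op W)
  haveI : PreservesFiniteLimits E := comp_preservesFiniteLimits _ _
  haveI : Mono (E.map S.f) := inferInstance
  refine ⟨(AddCommGrpCat.mono_iff_injective (S.f.hom.app (op W))).1 ‹Mono (E.map S.f)›, ?_⟩
  exact (ShortComplex.ab_exact_iff _).1 (hS.exact.map_of_mono_of_preservesKernel E ‹_› inferInstance)

/-- Sections lift along an epimorphism when they lift on a cover with vanishing first Čech cohomology. -/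
theorem exists_lift_of_hExact {S : ShortComplex (Sheaf J AddCommGrpCat.{u + 1})} (hS : S.ShortExact)
    {W' W : C} {π : W' ⟶ W} (N : Nerve π) (hπ : Sieve.ofArrows (fun _ : PUnit.{u + 1} => W') (fun _ => π) ∈ J W)
    (h : HExact N S.X₁.obj 0) (s : S.X₃.obj.obj (op W))
    (t : S.X₂.obj.obj (op W')) (ht : S.g.hom.app (op W') t = S.X₃.obj.map π.op s) :
    ∃ r, S.g.hom.app (op W) r = s := by
  let t₀ := S.X₂.obj.map (N.pr 0 0).op t
  have hgt₀ : S.g.hom.app (op (N.obj 0)) t₀ = S.X₃.obj.map (N.pr 0 0 ≫ π).op s := by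
    rw [NatTrans.naturality_apply, ht, op_comp, Functor.map_comp]; rfl
  have hg0 : S.g.hom.app (op (N.obj 1)) (cechD N S.X₂.obj 0 t₀) = 0 := by
    rw [cechD_natural, hgt₀, cechD_apply, Fin.sum_univ_two]
    simp only [Fin.val_zero, pow_zero, one_smul, Fin.val_one, pow_one, neg_smul]
    rw [← ConcreteCategory.comp_apply, ← ConcreteCategory.comp_apply, ← Functor.map_comp, ← Functor.map_comp, ← op_comp,
      ← op_comp, reassoc_of% (N.face_pr 0 (0 : Fin 2) 0), reassoc_of% (N.face_pr 0 (1 : Fin 2) 0),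
      N.w 1 ((0 : Fin 2).succAbove 0), N.w 1 ((1 : Fin 2).succAbove 0), add_neg_cancel]
  obtain ⟨x, hx⟩ := (sections_exact hS (N.obj 1)).2 _ hg0
  obtain ⟨y, hy⟩ := h x ((sections_exact hS (N.obj 2)).1 (by
    rw [cechD_natural, hx, cechD_cechD, map_zero]))
  let t₁ := t₀ - S.f.hom.app (op (N.obj 0)) y
  have ht₁ : cechD N S.X₂.obj 0 t₁ = 0 := by
    rw [map_sub, ← cechD_natural, hy, hx, sub_self]
  have hgt₁ : S.g.hom.app (op (N.obj 0)) t₁ = S.X₃.obj.map (N.pr 0 0 ≫ π).op s := by
    rw [map_sub, hgt₀, ← ConcreteCategory.comp_apply, ← NatTrans.comp_app,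
      show S.f.hom ≫ S.g.hom = 0 from congrArg (fun k => k.hom) S.zero]
    exact sub_zero _
  let l : W' ⟶ N.obj 0 := N.lift 0 (fun _ => 𝟙 W') fun _ => rfl
  have hl : l ≫ N.pr 0 0 = 𝟙 W' := N.fac _ _ _ _
  let t₂ := S.X₂.obj.map l.op t₁
  obtain ⟨r, hr⟩ := sheaf_glue_single S.X₂ π hπ t₂ fun P a b hab => by
    let q : P ⟶ N.obj 1 := N.lift 1 ![b, a] fun k => by
      induction k using Fin.cases with
      | zero => rfl
      | succ k => obtain rfl : k = 0 := Fin.eq_zero k; exact hab
    have q0 : q ≫ N.face 0 (0 : Fin 2) = a ≫ l := N.ext 0 _ _ fun k => by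
      obtain rfl : k = 0 := Fin.eq_zero k
      rw [Category.assoc, N.face_pr, N.fac, Category.assoc, hl, Category.comp_id]; rfl
    have q1 : q ≫ N.face 0 (1 : Fin 2) = b ≫ l := N.ext 0 _ _ fun k => by
      obtain rfl : k = 0 := Fin.eq_zero k
      rw [Category.assoc, N.face_pr, N.fac, Category.assoc, hl, Category.comp_id]; rfl
    have e := congrArg (S.X₂.obj.map q.op) ht₁
    rw [cechD_apply, Fin.sum_univ_two, map_zero] at e
    simp only [Fin.val_zero, pow_zero, one_smul, Fin.val_one, pow_one, neg_smul, map_add, map_neg] at e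
    rw [← ConcreteCategory.comp_apply, ← ConcreteCategory.comp_apply, ← Functor.map_comp, ← Functor.map_comp, ← op_comp,
      ← op_comp, q0, q1, op_comp, op_comp, Functor.map_comp, Functor.map_comp] at e
    exact add_neg_eq_zero.1 e
  refine ⟨r, sheaf_sect_ext S.X₃ _ hπ _ _ fun P g hg => ?_⟩
  obtain ⟨-, a, rfl⟩ := (Sieve.mem_ofArrows_iff _ _ _).1 hg
  have e2 : S.X₃.obj.map π.op (S.g.hom.app (op W) r) = S.X₃.obj.map π.op s := by
    rw [← NatTrans.naturality_apply, hr, NatTrans.naturality_apply, hgt₁, ← ConcreteCategory.comp_apply, ← Functor.map_comp,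
      ← op_comp, reassoc_of% hl]
  rw [op_comp, Functor.map_comp, ConcreteCategory.comp_apply, ConcreteCategory.comp_apply, e2]

/-- Čech exactness passes to the quotient when sections lift on the powers. -/
theorem hExact_quotient {S : ShortComplex (Sheaf J AddCommGrpCat.{u + 1})} (hS : S.ShortExact)
    {W' W : C} {π : W' ⟶ W} (N : Nerve π) {n : ℕ}
    (hsurj : Function.Surjective (S.g.hom.app (op (N.obj (n + 1)))))
    (hF : HExact N S.X₁.obj (n + 1)) (hI : HExact N S.X₂.obj n) : HExact N S.X₃.obj n := by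
  intro x hx
  obtain ⟨x', rfl⟩ := hsurj x
  rw [← cechD_natural] at hx
  obtain ⟨w, hw⟩ := (sections_exact hS _).2 _ hx
  obtain ⟨v, hv⟩ := hF w ((sections_exact hS (N.obj (n + 1 + 1 + 1))).1 (by
    rw [cechD_natural, hw, cechD_cechD, map_zero]))
  obtain ⟨y, hy⟩ := hI (x' - S.f.hom.app (op (N.obj (n + 1))) v) (by
    rw [map_sub, ← cechD_natural, hv, hw, sub_self])
  refine ⟨S.g.hom.app (op (N.obj n)) y, ?_⟩
  rw [← cechD_natural, hy, map_sub, ← ConcreteCategory.comp_apply, ← NatTrans.comp_app,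
    show S.f.hom ≫ S.g.hom = 0 from congrArg (fun k => k.hom) S.zero]
  exact sub_zero _

theorem hExact_injective_sheaf (I : Sheaf J AddCommGrpCat.{u + 1}) [Injective I] {W' W : C} {π : W' ⟶ W}
    (N : Nerve π) (n : ℕ) : HExact N I.obj n :=
  haveI : Injective I.obj := Injective.injective_of_adjoint (sheafificationAdjunction J AddCommGrpCat.{u + 1}) I
  hExact_of_injective N I.obj n

/-- A cover of `W` by one object on which sections lift, with all powers in `B`. -/
structure Datum (J : GrothendieckTopology C) [HasSheafify J AddCommGrpCat.{u + 1}] (B : Set C) (W : C) where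
  /-- The covering object. -/
  W' : C
  /-- The covering morphism. -/
  π : W' ⟶ W
  /-- Its powers. -/
  N : Nerve π
  mem : Sieve.ofArrows (fun _ : PUnit.{u + 1} => W') (fun _ => π) ∈ J W
  powers : ∀ n, N.obj n ∈ B
  lifts : ∀ S : ShortComplex (Sheaf J AddCommGrpCat.{u + 1}), S.ShortExact → Function.Surjective (S.g.hom.app (op W'))

variable {B : Set C} (D : ∀ W ∈ B, Datum J B W)

/-- Čech acyclicity for the chosen covers. -/
def CechAcyclic (F : Sheaf J AddCommGrpCat.{u + 1}) : Prop :=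
  ∀ W (hW : W ∈ B) n, HExact (D W hW).N F.obj n

theorem surjective_of_cechAcyclic {S : ShortComplex (Sheaf J AddCommGrpCat.{u + 1})} (hS : S.ShortExact)
    (h : CechAcyclic D S.X₁) {W : C} (hW : W ∈ B) : Function.Surjective (S.g.hom.app (op W)) := fun s => by
  obtain ⟨t, ht⟩ := (D W hW).lifts S hS (S.X₃.obj.map (D W hW).π.op s)
  exact exists_lift_of_hExact hS (D W hW).N (D W hW).mem (h W hW 0) s t ht

theorem cechAcyclic_quotient {S : ShortComplex (Sheaf J AddCommGrpCat.{u + 1})} (hS : S.ShortExact)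
    [Injective S.X₂] (h : CechAcyclic D S.X₁) : CechAcyclic D S.X₃ := fun W hW n =>
  hExact_quotient hS (D W hW).N (surjective_of_cechAcyclic D hS h ((D W hW).powers (n + 1)))
    (h W hW (n + 1)) (hExact_injective_sheaf S.X₂ (D W hW).N n)

end Groth.Agent.EpsLib
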