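import Groth.Agent.EpsLib.SingleCech
import Mathlib.CategoryTheory.Limits.Preserves.Shapes.Pullbacks
import Mathlib.CategoryTheory.Limits.Shapes.Pullback.IsPullback.Basic

/-! Powers of a morphism in a category with fibre products. -/

set_option autoImplicit false
set_option linter.style.haveILetI false
set_option backward.isDefEq.respectTransparency false
universe v₁ v₂ u₁ u₂ u

open CategoryTheory CategoryTheory.Limits

namespace Groth.Agent.EpsLib

section

variable {C : Type u₁} [Category.{v₁} C] [HasPullbacks C] {W' W : C} (π : W' ⟶ W)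

/-- The powers with their structure maps to `W`. -/
noncomputable def pow : ℕ → Over W
  | 0 => Over.mk π
  | n + 1 => Over.mk (pullback.fst π (pow n).hom ≫ π)

/-- The projections. -/
noncomputable def powPr : ∀ n, Fin (n + 1) → ((pow π n).left ⟶ W')
  | 0, _ => 𝟙 W'
  | n + 1, k => Fin.cases (pullback.fst π (pow π n).hom) (fun k => pullback.snd π (pow π n).hom ≫ powPr n k) k

theorem powPr_w : ∀ n k, powPr π n k ≫ π = (pow π n).hom
  | 0, _ => Category.id_comp π
  | n + 1, k => by
    induction k using Fin.cases with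
    | zero => rfl
    | succ k =>
      show (pullback.snd π (pow π n).hom ≫ powPr π n k) ≫ π = pullback.fst π (pow π n).hom ≫ π
      rw [Category.assoc, powPr_w n k, pullback.condition]

variable {D : Type u₂} [Category.{v₂} D] (G : C ⥤ D) [PreservesLimitsOfShape WalkingCospan G]

theorem exists_powLift : ∀ (n : ℕ) {T : D} (t : Fin (n + 1) → (T ⟶ G.obj W'))
    (_ : ∀ k, t k ≫ G.map π = t 0 ≫ G.map π), ∃ l : T ⟶ G.obj (pow π n).left,
      (∀ k, l ≫ G.map (powPr π n k) = t k) ∧ l ≫ G.map (pow π n).hom = t 0 ≫ G.map π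
  | 0, T, t, _ => ⟨t 0, fun k => by
      obtain rfl : k = 0 := Fin.eq_zero k
      show t 0 ≫ G.map (𝟙 W') = t 0
      rw [G.map_id, Category.comp_id], rfl⟩
  | n + 1, T, t, h => by
    obtain ⟨l, hl, hl'⟩ := exists_powLift n (fun k => t k.succ) fun k => (h k.succ).trans (h (Fin.succ 0)).symm
    have sq := (IsPullback.of_hasPullback π (pow π n).hom).map G
    refine ⟨sq.lift (t 0) l (by rw [hl', h (Fin.succ 0)]), fun k => ?_, ?_⟩
    · induction k using Fin.cases with
      | zero => exact sq.lift_fst _ _ _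
      | succ k =>
        show _ ≫ G.map (pullback.snd π (pow π n).hom ≫ powPr π n k) = _
        rw [G.map_comp, ← Category.assoc, sq.lift_snd, hl]
    · show _ ≫ G.map (pullback.fst π (pow π n).hom ≫ π) = _
      rw [G.map_comp, ← Category.assoc, sq.lift_fst]

theorem pow_hom_ext : ∀ (n : ℕ) {T : D} (a b : T ⟶ G.obj (pow π n).left),
    (∀ k, a ≫ G.map (powPr π n k) = b ≫ G.map (powPr π n k)) → a = b
  | 0, T, a, b, h => by
    have e : G.map (powPr π 0 0) = 𝟙 (G.obj (pow π 0).left) := G.map_id W'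
    exact (Category.comp_id a).symm.trans ((congrArg (a ≫ ·) e).symm.trans
      ((h 0).trans ((congrArg (b ≫ ·) e).trans (Category.comp_id b))))
  | n + 1, T, a, b, h => by
    refine ((IsPullback.of_hasPullback π (pow π n).hom).map G).hom_ext (h 0) (pow_hom_ext n _ _ fun k => ?_)
    rw [Category.assoc, Category.assoc, ← G.map_comp]
    exact h k.succ

/-- The lift to the image of a power. -/
noncomputable def powLift (n : ℕ) {T : D} (t : Fin (n + 1) → (T ⟶ G.obj W'))
    (h : ∀ k, t k ≫ G.map π = t 0 ≫ G.map π) : T ⟶ G.obj (pow π n).left :=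
  (exists_powLift π G n t h).choose

theorem powLift_pr (n : ℕ) {T : D} (t : Fin (n + 1) → (T ⟶ G.obj W'))
    (h : ∀ k, t k ≫ G.map π = t 0 ≫ G.map π) (k : Fin (n + 1)) :
    powLift π G n t h ≫ G.map (powPr π n k) = t k :=
  (exists_powLift π G n t h).choose_spec.1 k

/-- Powers of a morphism of arrows. -/
noncomputable def powMap {V' V : C} (ρ : V' ⟶ V) (a : V ⟶ W) (a' : V' ⟶ W') (h : ρ ≫ a = a' ≫ π) (n : ℕ) :
    (pow ρ n).left ⟶ (pow π n).left :=
  powLift π (𝟭 C) n (fun k => powPr ρ n k ≫ a') fun k => by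
    show (powPr ρ n k ≫ a') ≫ π = (powPr ρ n 0 ≫ a') ≫ π
    rw [Category.assoc, Category.assoc, ← h, ← Category.assoc, powPr_w, ← Category.assoc, powPr_w]

theorem powMap_pr {V' V : C} (ρ : V' ⟶ V) (a : V ⟶ W) (a' : V' ⟶ W') (h : ρ ≫ a = a' ≫ π) (n : ℕ) (k : Fin (n + 1)) :
    powMap π ρ a a' h n ≫ powPr π n k = powPr ρ n k ≫ a' :=
  powLift_pr π (𝟭 C) n _ _ k

theorem pow_ext (n : ℕ) {T : C} (a b : T ⟶ (pow π n).left)
    (h : ∀ k, a ≫ powPr π n k = b ≫ powPr π n k) : a = b :=
  pow_hom_ext π (𝟭 C) n a b h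

end

/-- The nerve of a morphism. -/
noncomputable def nerveOf {C : Type (u + 1)} [Category.{u} C] [HasPullbacks C] {W' W : C} (π : W' ⟶ W) : Nerve π where
  obj n := (pow π n).left
  pr := powPr π
  w n k := (powPr_w π n k).trans (powPr_w π n 0).symm
  lift n _ t h := powLift π (𝟭 C) n t h
  fac n _ t h k := powLift_pr π (𝟭 C) n t h k
  ext n _ a b h := pow_ext π n a b h

end Groth.Agent.EpsLib
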