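import Groth.Agent.EpsLib.Approx
import Groth.Agent.EpsLib.Cartan
import Groth.Agent.EpsLib.NerveGen
import Mathlib.CategoryTheory.Sites.EpiMono

/-! Čech acyclicity of `ε⁻¹I`. -/

set_option autoImplicit false
set_option linter.style.haveILetI false
set_option backward.isDefEq.respectTransparency false
set_option synthInstance.maxHeartbeats 400000
set_option maxHeartbeats 1000000
universe u

open CategoryTheory CategoryTheory.Limits AlgebraicGeometry Opposite

namespace Groth.Agent.EpsLib

open ProEtPtsLib WCSiteLib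

variable {X : Scheme.{u}}

theorem eps_preservesPullbacks : PreservesLimitsOfShape WalkingCospan (ProEtS.eps X) := by
  haveI := eps_preservesFiniteLimits (X := X)
  infer_instance

theorem undF_preservesPullbacks : PreservesLimitsOfShape WalkingCospan (undF X) := inferInstance

variable {W' W : X.ProEt} {π : W' ⟶ W} (A : ArrowApprox π)

/-- The levels of the powers. -/
noncomputable def powD (n : ℕ) : A.K ⥤ X.Etale where
  obj k := (pow (A.q.app k) n).left
  map {j k} a := powMap (A.q.app k) (A.q.app j) (A.D.map a) (A.D'.map a) (A.q.naturality a).symm n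
  map_id k := pow_ext (A.q.app k) n _ _ fun i => by
    rw [powMap_pr, A.D'.map_id, Category.comp_id, Category.id_comp]
  map_comp {j k l} a b := pow_ext (A.q.app l) n _ _ fun i => by
    rw [powMap_pr, Category.assoc, powMap_pr, ← Category.assoc, powMap_pr, Category.assoc, ← A.D'.map_comp]

theorem powD_map_pr (n : ℕ) {j k : A.K} (a : j ⟶ k) (i : Fin (n + 1)) :
    (powD A n).map a ≫ powPr (A.q.app k) n i = powPr (A.q.app j) n i ≫ A.D'.map a :=
  powMap_pr (A.q.app k) (A.q.app j) (A.D.map a) (A.D'.map a) (A.q.naturality a).symm n i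

/-- The leg of a power. -/
noncomputable def powLeg (n : ℕ) (k : A.K) : (pow π n).left ⟶ (ProEtS.eps X).obj ((powD A n).obj k) :=
  haveI := eps_preservesPullbacks (X := X)
  powLift (A.q.app k) (ProEtS.eps X) n (fun i => powPr π n i ≫ A.π'.app k) fun i => by
    simp only [Category.assoc]
    rw [A.comm k, ← Category.assoc, powPr_w, ← Category.assoc, powPr_w]

theorem powLeg_pr (n : ℕ) (k : A.K) (i : Fin (n + 1)) :
    powLeg A n k ≫ (ProEtS.eps X).map (powPr (A.q.app k) n i) = powPr π n i ≫ A.π'.app k :=
  haveI := eps_preservesPullbacks (X := X)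
  powLift_pr (A.q.app k) (ProEtS.eps X) n _ _ i

theorem powLeg_naturality (n : ℕ) {j k : A.K} (a : j ⟶ k) :
    powLeg A n j ≫ (ProEtS.eps X).map ((powD A n).map a) = powLeg A n k := by
  haveI := eps_preservesPullbacks (X := X)
  refine pow_hom_ext (A.q.app k) (ProEtS.eps X) n _ _ fun i => ?_
  rw [Category.assoc, ← Functor.map_comp, powD_map_pr, Functor.map_comp, ← Category.assoc, powLeg_pr, powLeg_pr,
    Category.assoc]
  exact congrArg (powPr π n i ≫ ·) ((A.π'.naturality a).symm.trans (Category.id_comp _))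

/-- The cone of a power. -/
noncomputable def powCone (n : ℕ) : Cone (powD A n ⋙ ProEtS.eps X) where
  pt := (pow π n).left
  π :=
    { app := powLeg A n
      naturality := fun j k a => (Category.id_comp _).trans (powLeg_naturality A n a).symm }

theorem isAffine_powD (k : A.K) : ∀ n, IsAffine ((powD A n).obj k).left
  | 0 => A.affine' k
  | n + 1 => by
    haveI := isAffine_powD k n
    haveI : IsAffine ((powD A n).obj k).left := ‹_›
    haveI := A.affine' k
    haveI := A.affine k
    let G := Scheme.Etale.forget X ⋙ Over.forget X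
    haveI : IsAffine (G.obj (A.D'.obj k)) := A.affine' k
    haveI : IsAffine (G.obj (A.D.obj k)) := A.affine k
    haveI : IsAffine (G.obj (pow (A.q.app k) n).left) := ‹IsAffine ((powD A n).obj k).left›
    have sq := (IsPullback.of_hasPullback (A.q.app k) (pow (A.q.app k) n).hom).map G
    show IsAffine (G.obj (pullback (A.q.app k) (pow (A.q.app k) n).hom))
    exact .of_isIso sq.isoPullback.hom

/-- The cone of a power is a limit. -/
noncomputable def isLimitPowCone (n : ℕ) : IsLimit ((undF X).mapCone (powCone A n)) :=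
  haveI := undF_preservesPullbacks (X := X)
  haveI := eps_preservesPullbacks (X := X)
  let sub : ∀ (_ : Cone ((powD A n ⋙ ProEtS.eps X) ⋙ undF X)) (_ : Fin (n + 1)), Cone ((A.D' ⋙ ProEtS.eps X) ⋙ undF X) :=
    fun s i =>
      { pt := s.pt
        π :=
          { app := fun k => s.π.app k ≫ (undF X).map ((ProEtS.eps X).map (powPr (A.q.app k) n i))
            naturality := fun j k a => by
              show 𝟙 _ ≫ s.π.app k ≫ _ = (s.π.app j ≫ _) ≫ (undF X).map ((ProEtS.eps X).map (A.D'.map a))
              rw [Category.id_comp, ← s.w a, Category.assoc, Category.assoc]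
              show s.π.app j ≫ (undF X).map ((ProEtS.eps X).map ((powD A n).map a)) ≫ _ = _
              rw [← (undF X).map_comp, ← Functor.map_comp, powD_map_pr, Functor.map_comp, (undF X).map_comp] } }
  have hsub : ∀ s i, A.isLimit'.lift (sub s i) ≫ (undF X).map π = A.isLimit'.lift (sub s 0) ≫ (undF X).map π :=
    fun s i => A.isLimit.hom_ext fun k => by
      show (_ ≫ _) ≫ (undF X).map (A.π₀.app k) = (_ ≫ _) ≫ (undF X).map (A.π₀.app k)
      rw [Category.assoc, Category.assoc, ← (undF X).map_comp, ← A.comm k, (undF X).map_comp, ← Category.assoc,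
        ← Category.assoc]
      erw [A.isLimit'.fac, A.isLimit'.fac]
      simp only [sub, Category.assoc, ← (undF X).map_comp, ← Functor.map_comp, powPr_w]
  { lift := fun s => powLift π (undF X) n (fun i => A.isLimit'.lift (sub s i)) (hsub s)
    fac := fun s k => by
      refine pow_hom_ext (A.q.app k) (ProEtS.eps X ⋙ undF X) n _ _ fun i => ?_
      show (_ ≫ (undF X).map (powLeg A n k)) ≫ (undF X).map ((ProEtS.eps X).map (powPr (A.q.app k) n i)) = _
      rw [Category.assoc, ← (undF X).map_comp, powLeg_pr, (undF X).map_comp, ← Category.assoc, powLift_pr]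
      exact A.isLimit'.fac (sub s i) k
    uniq := fun s m hm => by
      refine pow_hom_ext π (undF X) n _ _ fun i => ?_
      rw [powLift_pr]
      refine A.isLimit'.uniq (sub s i) _ fun k => ?_
      show (m ≫ (undF X).map (powPr π n i)) ≫ (undF X).map (A.π'.app k) = s.π.app k ≫ _
      rw [Category.assoc, ← (undF X).map_comp, ← powLeg_pr, (undF X).map_comp, ← Category.assoc]
      exact congrArg (· ≫ (undF X).map ((ProEtS.eps X).map (powPr (A.q.app k) n i))) (hm k) }

include A in
theorem isApprox_pow (n : ℕ) : IsApprox (pow π n).left :=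
  ⟨{ I := A.K, D := powD A n, affine := fun k => isAffine_powD A k n, π := (powCone A n).π
     isLimit := isLimitPowCone A n }⟩

theorem powLeg_face (n : ℕ) (k : A.K) (i : Fin (n + 2)) :
    powLeg A (n + 1) k ≫ (ProEtS.eps X).map ((nerveOf (A.q.app k)).face n i) =
      (nerveOf π).face n i ≫ powLeg A n k := by
  haveI := eps_preservesPullbacks (X := X)
  refine pow_hom_ext (A.q.app k) (ProEtS.eps X) n _ _ fun j => ?_
  rw [Category.assoc, Category.assoc, powLeg_pr, ← Functor.map_comp]
  erw [Nerve.face_pr (nerveOf (A.q.app k)) n i j, powLeg_pr]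
  rw [← Category.assoc]
  erw [Nerve.face_pr (nerveOf π) n i j]
  rfl

theorem powD_face (n : ℕ) {j k : A.K} (a : j ⟶ k) (i : Fin (n + 2)) :
    (nerveOf (A.q.app j)).face n i ≫ (powD A n).map a =
      (powD A (n + 1)).map a ≫ (nerveOf (A.q.app k)).face n i := by
  refine pow_ext (A.q.app k) n _ _ fun l => ?_
  rw [Category.assoc, Category.assoc, powD_map_pr, ← Category.assoc]
  erw [Nerve.face_pr (nerveOf (A.q.app j)) n i l, Nerve.face_pr (nerveOf (A.q.app k)) n i l, powD_map_pr]
  rfl

variable [ProEtS.EpsCont X] (F : EtCoh.Ab X)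

/-- Sections of `ε⁻¹F` on an étale object. -/
noncomputable def etaE (V : X.Etale) (s : F.obj.obj (op V)) :
    ProEtS.sectP ((ProEtS.epsPull X).obj F) ((ProEtS.eps X).obj V) :=
  ((ProEtS.epsAdj X).unit.app F).hom.app (op V) s

theorem etaE_bijective (V : X.Etale) : Function.Bijective (etaE F V) := by
  haveI := isIso_unit X F
  haveI : IsIso (((ProEtS.epsAdj X).unit.app F).hom.app (op V)) :=
    inferInstanceAs (IsIso (((sheafToPresheaf _ _).map ((ProEtS.epsAdj X).unit.app F)).app (op V)))
  exact ConcreteCategory.bijective_of_isIso (((ProEtS.epsAdj X).unit.app F).hom.app (op V))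

theorem etaE_zero (V : X.Etale) : etaE F V 0 = 0 :=
  map_zero (((ProEtS.epsAdj X).unit.app F).hom.app (op V)).hom

theorem etaE_map {V V' : X.Etale} (g : V' ⟶ V) (s : F.obj.obj (op V)) :
    etaE F V' (F.obj.map g.op s) = ((ProEtS.epsPull X).obj F).obj.map ((ProEtS.eps X).map g).op (etaE F V s) :=
  ConcreteCategory.congr_hom (((ProEtS.epsAdj X).unit.app F).hom.naturality g.op) s

/-- A section on a level, pulled back to a power. -/
noncomputable def powPull (n : ℕ) (k : A.K) (s : F.obj.obj (op ((powD A n).obj k))) :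
    ProEtS.sectP ((ProEtS.epsPull X).obj F) (pow π n).left :=
  ((ProEtS.epsPull X).obj F).obj.map (powLeg A n k).op (etaE F _ s)

theorem powPull_map (n : ℕ) {j k : A.K} (a : j ⟶ k) (s : F.obj.obj (op ((powD A n).obj k))) :
    powPull A F n j (F.obj.map ((powD A n).map a).op s) = powPull A F n k s := by
  rw [powPull, etaE_map, map_map, powLeg_naturality]
  rfl

theorem cechD_powPull (n : ℕ) (k : A.K) (s : F.obj.obj (op ((powD A n).obj k))) :
    cechD (nerveOf π) ((ProEtS.epsPull X).obj F).obj n (powPull A F n k s) =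
      powPull A F (n + 1) k (cechD (nerveOf (A.q.app k)) F.obj n s) := by
  let f : F.obj.obj (op ((powD A (n + 1)).obj k)) →+ ProEtS.sectP ((ProEtS.epsPull X).obj F) (pow π (n + 1)).left :=
    (((ProEtS.epsPull X).obj F).obj.map (powLeg A (n + 1) k).op).hom.comp
      (((ProEtS.epsAdj X).unit.app F).hom.app (op ((powD A (n + 1)).obj k))).hom
  show _ = f (cechD (nerveOf (A.q.app k)) F.obj n s)
  rw [cechD_apply, cechD_apply, map_sum]
  refine Finset.sum_congr rfl fun i _ => ?_
  rw [map_zsmul]
  refine congrArg (((-1 : ℤ) ^ (i : ℕ)) • ·) ?_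
  refine (map_map _ _ _).trans ?_
  refine (congrArg (fun m : (pow π (n + 1)).left ⟶ _ => ((ProEtS.epsPull X).obj F).obj.map m.op (etaE F _ s))
    (powLeg_face A n k i)).symm.trans ?_
  exact (map_map _ _ _).symm.trans (congrArg (((ProEtS.epsPull X).obj F).obj.map (powLeg A (n + 1) k).op)
    (etaE_map F ((nerveOf (A.q.app k)).face n i) s).symm)

include A in
theorem hExact_epsPull_injective (I : EtCoh.Ab X) [Injective I] (n : ℕ) :
    HExact (nerveOf π) ((ProEtS.epsPull X).obj I).obj n := by
  haveI : ∀ (m : ℕ) (i j : A.K) (a : i ⟶ j), IsAffineHom (und ((powD A m ⋙ ProEtS.eps X).map a)) := fun m i j a => by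
    haveI : IsAffine ((powD A m ⋙ ProEtS.eps X).obj i).left := isAffine_powD A i m
    haveI : IsAffine ((powD A m ⋙ ProEtS.eps X).obj j).left := isAffine_powD A j m
    exact isAffineHom_of_affines _
  have hD : ∀ m (k : A.K), IsQcqs ((powD A m ⋙ ProEtS.eps X).obj k) := fun m k => by
    haveI : IsAffine ((powD A m ⋙ ProEtS.eps X).obj k).left := isAffine_powD A k m
    exact isQcqs_of_isAffine _
  intro x hx
  obtain ⟨k, xk, hxk⟩ := pull_exists_level_lift I (hD (n + 1)) (powCone A (n + 1)) (isLimitPowCone A (n + 1)) x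
  obtain ⟨s, rfl⟩ := (etaE_bijective I ((powD A (n + 1)).obj k)).2 xk
  have hxs : powPull A I (n + 1) k s = x := hxk
  rw [← hxs, cechD_powPull] at hx
  obtain ⟨j, a, ha⟩ := pull_exists_level_eq_zero I (hD (n + 2)) (powCone A (n + 2)) (isLimitPowCone A (n + 2)) k _ hx
  have ha' : I.obj.map ((powD A (n + 2)).map a).op (cechD (nerveOf (A.q.app k)) I.obj (n + 1) s) = 0 := by
    refine (etaE_bijective I _).1 ?_
    rw [etaE_map, etaE_zero]
    exact ha
  have hd : cechD (nerveOf (A.q.app j)) I.obj (n + 1) (I.obj.map ((powD A (n + 1)).map a).op s) = 0 := by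
    rw [cechD_apply]
    rw [cechD_apply, map_sum] at ha'
    refine (Finset.sum_congr rfl fun i _ => ?_).trans ha'
    rw [map_zsmul]
    refine congrArg (((-1 : ℤ) ^ (i : ℕ)) • ·) ?_
    refine (ConcreteCategory.congr_hom (I.obj.map_comp _ _) s).symm.trans (Eq.trans ?_ (ConcreteCategory.congr_hom (I.obj.map_comp _ _) s))
    exact congrArg (fun m : (powD A (n + 2)).obj j ⟶ (powD A (n + 1)).obj k => I.obj.map m.op s) (powD_face A (n + 1) a i)
  obtain ⟨y, hy⟩ := hExact_injective_sheaf I (nerveOf (A.q.app j)) n _ hd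
  exact ⟨powPull A I n j y, (cechD_powPull A I n j y).trans ((congrArg (powPull A I (n + 1) j) hy).trans
    ((powPull_map A I (n + 1) a s).trans hxs))⟩

omit [ProEtS.EpsCont X] in
theorem exists_datum (W : X.ProEt) (hW : IsApprox W) :
    ∃ (W' : X.ProEt) (π : W' ⟶ W),
      Sieve.ofArrows (fun _ : PUnit.{u + 1} => W') (fun _ => π) ∈ Scheme.ProEt.topology X W ∧
      ProEtS.IsWC W' ∧ Nonempty (ArrowApprox π) := by
  obtain ⟨Φ⟩ := hW
  obtain ⟨W', π, hπ, hwc, ⟨Ψ⟩⟩ := exists_approx_cover Φ
  exact ⟨W', π, hπ, hwc, nonempty_arrowApprox π Ψ Φ⟩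

variable (X) in
/-- The chosen covers of approximated objects. -/
noncomputable def datum : ∀ W ∈ {W : X.ProEt | IsApprox W}, Datum (Scheme.ProEt.topology X) {W | IsApprox W} W := fun W hW =>
  let h := exists_datum W hW
  { W' := h.choose
    π := h.choose_spec.choose
    N := nerveOf h.choose_spec.choose
    mem := h.choose_spec.choose_spec.1
    powers := fun n => isApprox_pow h.choose_spec.choose_spec.2.2.some n
    lifts := fun S hS => by
      haveI := hS.epi_g
      haveI hls : Sheaf.IsLocallySurjective S.g :=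
        (Sheaf.isLocallySurjective_iff_epi' (J := Scheme.ProEt.topology X) (A := AddCommGrpCat.{u + 1}) S.g).2 inferInstance
      haveI : Presheaf.IsLocallySurjective (Scheme.ProEt.topology X) S.g.hom := hls
      haveI hls' : Sheaf.IsLocallySurjective ((sheafCompose _ (forget AddCommGrpCat.{u + 1})).map S.g) :=
        (Presheaf.isLocallySurjective_iff_whisker_forget _ S.g.hom).1 hls
      exact h.choose_spec.choose_spec.2.1 _ _ _ ((Sheaf.isLocallySurjective_iff_epi _).1 hls') }

theorem cechAcyclic_epsPull_injective (I : EtCoh.Ab X) [Injective I] :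
    CechAcyclic (datum X) ((ProEtS.epsPull X).obj I) := fun W hW n =>
  hExact_epsPull_injective (exists_datum W hW).choose_spec.choose_spec.2.2.some I n

end Groth.Agent.EpsLib
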