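import Groth.Agent.EpsLib.GApprox
import Groth.Agent.EpsLib.Acyclic

/-! Flasque sheaves on the pro-étale site and lifting of sections on approximated objects. -/

set_option autoImplicit false
set_option linter.style.haveILetI false
set_option backward.isDefEq.respectTransparency false
set_option synthInstance.maxHeartbeats 400000
set_option maxHeartbeats 1000000
universe u

open CategoryTheory CategoryTheory.Limits AlgebraicGeometry Opposite

namespace Groth.Agent.EpsLib

open ProEtPtsLib WCSiteLib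

section General

variable {C : Type (u + 1)} [Category.{u} C] {J : GrothendieckTopology C} [HasSheafify J AddCommGrpCat.{u + 1}]

/-- Injective sheaves are flasque. -/
theorem map_surjective_of_mono (I : Sheaf J AddCommGrpCat.{u + 1}) [Injective I] {A B : C} (j : A ⟶ B) [Mono j] :
    Function.Surjective (I.obj.map j.op) := fun x => by
  haveI : Injective I.obj := Injective.injective_of_adjoint (sheafificationAdjunction J AddCommGrpCat.{u + 1}) I
  let adj := AddCommGrpCat.adj.{u + 1}.whiskerRight Cᵒᵖ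
  let L := (Functor.whiskeringRight Cᵒᵖ _ _).obj AddCommGrpCat.free.{u + 1}
  haveI : Mono (L.map (uliftYoneda.{u + 1}.map j)) := by
    haveI : ∀ V, Mono ((uliftYoneda.{u + 1}.map j).app V) := fun V => (CategoryTheory.mono_iff_injective _).2
      fun a b hab => ULift.down_injective.eq_iff.1 ((cancel_mono j).1 (congrArg ULift.down hab))
    haveI : ∀ V, Mono ((L.map (uliftYoneda.{u + 1}.map j)).app V) := fun V =>
      AddCommGrpCat.free.{u + 1}.map_mono ((uliftYoneda.{u + 1}.map j).app V)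
    exact NatTrans.mono_of_mono_app _
  let φ := (adj.homEquiv _ I.obj).symm ((uliftYonedaEquiv.{u + 1} (F := I.obj ⋙ forget AddCommGrpCat.{u + 1})).symm x)
  let h := adj.homEquiv _ _ (Injective.factorThru φ (L.map (uliftYoneda.{u + 1}.map j)))
  have hh : uliftYoneda.{u + 1}.map j ≫ h = uliftYonedaEquiv.symm x := by
    rw [← Adjunction.homEquiv_naturality_left, Injective.comp_factorThru, Equiv.apply_symm_apply]
    rfl
  refine ⟨uliftYonedaEquiv.{u + 1} (F := I.obj ⋙ forget AddCommGrpCat.{u + 1}) h, ?_⟩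
  have h2 := (congrArg (uliftYonedaEquiv.{u + 1} (F := I.obj ⋙ forget AddCommGrpCat.{u + 1})) hh).trans
    (Equiv.apply_symm_apply _ x)
  refine Eq.trans ?_ h2
  exact uliftYonedaEquiv_naturality.{u + 1} (F := I.obj ⋙ forget AddCommGrpCat.{u + 1}) (X := op B) h j.op

end General

variable {X : Scheme.{u}}

theorem mono_openι (U : X.ProEt) (O : U.left.Opens) : Mono (openι U O) :=
  ⟨fun a b hab => hom_ext_und ((cancel_mono O.ι).1 (congrArg (fun m => und m) hab))⟩

theorem zariski_mem {U : X.ProEt} {ι : Type u} (Z : ι → X.ProEt) (g : ∀ k, Z k ⟶ U)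
    [∀ k, IsOpenImmersion (und (g k))] (hs : ∀ x : ↥U.left, ∃ k y, (und (g k)).base y = x) :
    Sieve.ofArrows Z g ∈ Scheme.ProEt.topology X U :=
  ofArrows_mem_of_mem _ _ (Scheme.zariskiPrecoverage_le_propQCPrecoverage _
    ((Scheme.ofArrows_mem_precoverage_iff _).2 ⟨hs, fun k => ‹∀ k, IsOpenImmersion (und (g k))› k⟩))

/-- Restriction to quasi-compact opens of approximated objects is surjective. -/
def Flasque (G : ProEtS.AbP X) : Prop :=
  ∀ (T : X.ProEt) (Φ : GApprox T) (i : Φ.I) (O : (Φ.D.obj i).left.Opens), IsCompact (O : Set (Φ.D.obj i).left) →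
    Function.Surjective (G.obj.map (openι T (Φ.pre i O)).op)

theorem flasque_injective (I : ProEtS.AbP X) [Injective I] : Flasque I := fun T Φ i O _ =>
  haveI := mono_openι T (Φ.pre i O)
  map_surjective_of_mono I _

variable [ProEtS.EpsCont X]

theorem flasque_epsPull_injective (I : EtCoh.Ab X) [Injective I] :
    Flasque ((ProEtS.epsPull X).obj I) := fun T Φ i O hO t => by
  haveI : ∀ a b (e : a ⟶ b), IsAffineHom (und (((Φ.openG i O hO).D ⋙ ProEtS.eps X).map e)) := (Φ.openG i O hO).affineHom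
  obtain ⟨k, xk, hk⟩ := pull_exists_level_lift I (D := (Φ.openG i O hO).D ⋙ ProEtS.eps X) (Φ.openG i O hO).qcqs
    (Cone.mk _ (Φ.openG i O hO).π) (Φ.openG i O hO).isLimit t
  obtain ⟨s, rfl⟩ := (etaE_bijective I ((Φ.openD i O).obj k)).2 xk
  let e := etι (Φ.D.obj k.left) ((Φ.D.map k.hom).left ⁻¹ᵁ O)
  haveI : Mono e := ⟨fun a b hab => MorphismProperty.Over.Hom.ext
    ((cancel_mono ((Φ.D.map k.hom).left ⁻¹ᵁ O).ι).1 (congrArg (fun m => m.left) hab))⟩
  obtain ⟨s', hs'⟩ := map_surjective_of_mono I e s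
  refine ⟨((ProEtS.epsPull X).obj I).obj.map (Φ.π.app k.left).op (etaE I _ s'), ?_⟩
  have he : (Φ.openπ i O).app k ≫ (ProEtS.eps X).map e = openι T (Φ.pre i O) ≫ Φ.π.app k.left :=
    hom_ext_und (Scheme.Hom.resLE_comp_ι _ _)
  refine Eq.trans ?_ hk
  refine (ConcreteCategory.congr_hom (((ProEtS.epsPull X).obj I).obj.map_comp (Φ.π.app k.left).op
    (openι T (Φ.pre i O)).op) (etaE I _ s')).symm.trans ?_
  refine (congrArg (fun m => ((ProEtS.epsPull X).obj I).obj.map m.op (etaE I _ s')) he).symm.trans ?_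
  rw [op_comp, Functor.map_comp, ConcreteCategory.comp_apply]
  refine (congrArg (((ProEtS.epsPull X).obj I).obj.map ((Φ.openπ i O).app k).op) (etaE_map I e s').symm).trans ?_
  exact congrArg (fun z => ((ProEtS.epsPull X).obj I).obj.map ((Φ.openπ i O).app k).op (etaE I _ z)) hs'

/-- Sheaves without higher cohomology on approximated objects. -/
def Good (G : ProEtS.AbP X) : Prop := CechAcyclic (datum X) G ∧ Flasque G

theorem good_epsPull_injective (I : EtCoh.Ab X) [Injective I] : Good ((ProEtS.epsPull X).obj I) :=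
  ⟨cechAcyclic_epsPull_injective I, flasque_epsPull_injective I⟩

omit [ProEtS.EpsCont X] in
theorem surjective_of_good {S : ShortComplex (ProEtS.AbP X)} (hS : S.ShortExact) (h : Good S.X₁)
    {T : X.ProEt} (Φ : GApprox T) : Function.Surjective (S.g.hom.app (op T)) := by
  obtain ⟨i⟩ := IsCofiltered.nonempty (C := Φ.I)
  suffices H : ∀ O : (Φ.D.obj i).left.Opens, IsCompact (O : Set (Φ.D.obj i).left) →
      Function.Surjective (S.g.hom.app (op (openObj T (Φ.pre i O)))) by
    intro s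
    haveI := (Φ.qcqs i).compact
    haveI : CompactSpace ↥(Φ.D.obj i).left := ‹_›
    obtain ⟨r, hr⟩ := H ⊤ isCompact_univ (S.X₃.obj.map (openι T (Φ.pre i ⊤)).op s)
    obtain ⟨l, hl⟩ := exists_openLift (𝟙 T) (Φ.pre i ⊤) fun _ => trivial
    refine ⟨S.X₂.obj.map l.op r, ?_⟩
    rw [NatTrans.naturality_apply, hr, ← ConcreteCategory.comp_apply, ← Functor.map_comp, ← op_comp, hl, op_id,
      S.X₃.obj.map_id]
    rfl
  intro O hO
  refine compact_open_induction_on (P := fun O => Function.Surjective (S.g.hom.app (op (openObj T (Φ.pre i O))))) O hO ?_ ?_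
  · intro s
    haveI : IsEmpty ↥(openObj T (Φ.pre i ⊥)).left := ⟨fun z => z.2⟩
    exact ⟨0, eq_of_isEmpty ((sheafCompose _ (forget AddCommGrpCat.{u + 1})).obj S.X₃) _ _ _⟩
  · intro V hV U ih s
    let W := fun A : (Φ.D.obj i).left.Opens => openObj T (Φ.pre i A)
    let ι' := fun A : (Φ.D.obj i).left.Opens => openι T (Φ.pre i A)
    have lift : ∀ A B : (Φ.D.obj i).left.Opens, A ≤ B → ∃ l : W A ⟶ W B, l ≫ ι' B = ι' A := fun A B hAB =>
      exists_openLift (ι' A) (Φ.pre i B) fun z => hAB z.2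
    obtain ⟨lV, hlV⟩ := lift V (V ⊔ ↑U) le_sup_left
    obtain ⟨lU, hlU⟩ := lift ↑U (V ⊔ ↑U) le_sup_right
    obtain ⟨mV, hmV⟩ := lift (V ⊓ ↑U) V inf_le_left
    obtain ⟨mU, hmU⟩ := lift (V ⊓ ↑U) ↑U inf_le_right
    haveI := mono_openι T (Φ.pre i (V ⊔ ↑U))
    haveI := mono_openι T (Φ.pre i V)
    haveI := mono_openι T (Φ.pre i ↑U)
    have hm : mV ≫ lV = mU ≫ lU := (cancel_mono (ι' (V ⊔ ↑U))).1 (by rw [Category.assoc, hlV, hmV, Category.assoc, hlU, hmU])
    obtain ⟨a, ha⟩ := ih (S.X₃.obj.map lV.op s)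
    obtain ⟨b, hb⟩ := surjective_of_cechAcyclic (datum X) hS h.1
      (Φ.isApprox_open i ↑U U.2) (S.X₃.obj.map lU.op s)
    obtain ⟨d, hd⟩ := (sections_exact hS (W (V ⊓ ↑U))).2 (S.X₂.obj.map mV.op a - S.X₂.obj.map mU.op b) (by
      rw [map_sub, NatTrans.naturality_apply, NatTrans.naturality_apply, ha, hb, ← ConcreteCategory.comp_apply,
        ← ConcreteCategory.comp_apply, ← Functor.map_comp, ← Functor.map_comp, ← op_comp, ← op_comp, hm, sub_self])
    haveI hqs : QuasiSeparatedSpace ↥(Φ.D.obj i).left := (Φ.qcqs i).qs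
    have hVU : IsCompact ((V ⊓ ↑U : (Φ.D.obj i).left.Opens) : Set (Φ.D.obj i).left) :=
      QuasiSeparatedSpace.inter_isCompact _ _ V.2 hV (U : (Φ.D.obj i).left.Opens).2 U.2.isCompact
    obtain ⟨e, he⟩ := h.2 T Φ i (V ⊓ ↑U) hVU d
    let b' := b + S.f.hom.app (op (W ↑U)) (S.X₁.obj.map (ι' ↑U).op e)
    have hgb' : S.g.hom.app (op (W ↑U)) b' = S.X₃.obj.map lU.op s := by
      rw [map_add, hb, ← ConcreteCategory.comp_apply (S.f.hom.app (op (W ↑U))), ← NatTrans.comp_app,
        show S.f.hom ≫ S.g.hom = 0 from congrArg (fun k => k.hom) S.zero]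
      exact add_zero _
    have hab : S.X₂.obj.map mV.op a = S.X₂.obj.map mU.op b' := by
      rw [map_add, ← NatTrans.naturality_apply, ← ConcreteCategory.comp_apply (S.X₁.obj.map (ι' ↑U).op),
        ← Functor.map_comp, ← op_comp, hmU, he, hd, add_sub_cancel]
    let F := (sheafCompose (Scheme.ProEt.topology X) (forget AddCommGrpCat.{u + 1})).obj S.X₂
    let Z : ULift.{u} Bool → X.ProEt := fun k => bif k.down then W V else W ↑U
    let g : ∀ k, Z k ⟶ W (V ⊔ ↑U) := fun k => match k with | ⟨true⟩ => lV | ⟨false⟩ => lU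
    let x : ∀ k, F.obj.obj (op (Z k)) := fun k => match k with | ⟨true⟩ => a | ⟨false⟩ => b'
    haveI : ∀ k, IsOpenImmersion (und (g k)) := by
      rintro ⟨_ | _⟩
      · haveI : IsOpenImmersion (und lU ≫ (Φ.pre i (V ⊔ ↑U)).ι) := by
          rw [show und lU ≫ (Φ.pre i (V ⊔ ↑U)).ι = (Φ.pre i ↑U).ι from congrArg (fun m => und m) hlU]
          infer_instance
        exact IsOpenImmersion.of_comp (und lU) (Φ.pre i (V ⊔ ↑U)).ι
      · haveI : IsOpenImmersion (und lV ≫ (Φ.pre i (V ⊔ ↑U)).ι) := by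
          rw [show und lV ≫ (Φ.pre i (V ⊔ ↑U)).ι = (Φ.pre i V).ι from congrArg (fun m => und m) hlV]
          infer_instance
        exact IsOpenImmersion.of_comp (und lV) (Φ.pre i (V ⊔ ↑U)).ι
    have hmem : Sieve.ofArrows Z g ∈ Scheme.ProEt.topology X (W (V ⊔ ↑U)) := zariski_mem Z g fun z => by
      rcases z.2 with hz | hz
      · refine ⟨⟨true⟩, (⟨z.1, hz⟩ : ↥(Φ.pre i V)), Subtype.ext ?_⟩
        exact congrArg (fun m => (und m).base (⟨z.1, hz⟩ : ↥(Φ.pre i V))) hlV
      · refine ⟨⟨false⟩, (⟨z.1, hz⟩ : ↥(Φ.pre i ↑U)), Subtype.ext ?_⟩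
        exact congrArg (fun m => (und m).base (⟨z.1, hz⟩ : ↥(Φ.pre i ↑U))) hlU
    have key : ∀ (P : X.ProEt) (p : P ⟶ W V) (q : P ⟶ W ↑U), p ≫ lV = q ≫ lU →
        S.X₂.obj.map p.op a = S.X₂.obj.map q.op b' := fun P p q hpq => by
      have h0 : p ≫ ι' V = q ≫ ι' ↑U := by rw [← hlV, ← hlU, ← Category.assoc, ← Category.assoc, hpq]
      obtain ⟨l, hl⟩ := exists_openLift (p ≫ ι' V) (Φ.pre i (V ⊓ ↑U)) fun z => ⟨((und p).base z).2, by
        have := congrArg (fun m => (und m).base z) h0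
        exact (show _ = _ from this) ▸ ((und q).base z).2⟩
      have h1 : p = l ≫ mV := (cancel_mono (ι' V)).1 (by rw [Category.assoc, hmV, hl])
      have h2 : q = l ≫ mU := (cancel_mono (ι' ↑U)).1 (by rw [Category.assoc, hmU, hl, h0])
      rw [h1, h2, op_comp, op_comp, Functor.map_comp, Functor.map_comp, ConcreteCategory.comp_apply,
        ConcreteCategory.comp_apply, hab]
    have hsh : (Presieve.ofArrows Z g).IsSheafFor F.obj := by
      rw [Presieve.isSheafFor_iff_generate]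
      exact ((isSheaf_iff_isSheaf_of_type _ _).1 F.property) _ hmem
    obtain ⟨r, hr, -⟩ := (Presieve.isSheafFor_arrows_iff _ _).1 hsh x (by
      rintro ⟨_ | _⟩ ⟨_ | _⟩ P p q hpq
      · change p ≫ lU = q ≫ lU at hpq
        have h3 := congrArg (· ≫ ι' (V ⊔ ↑U)) hpq
        simp only [Category.assoc, hlU] at h3
        exact congrArg (fun t => S.X₂.obj.map t.op b') ((cancel_mono (ι' ↑U)).1 h3)
      · exact (key P q p hpq.symm).symm
      · exact key P p q hpq
      · change p ≫ lV = q ≫ lV at hpq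
        have h3 := congrArg (· ≫ ι' (V ⊔ ↑U)) hpq
        simp only [Category.assoc, hlV] at h3
        exact congrArg (fun t => S.X₂.obj.map t.op a) ((cancel_mono (ι' V)).1 h3))
    refine ⟨r, sheaf_sect_ext S.X₃ _ hmem _ _ fun P q hq => ?_⟩
    obtain ⟨k, c, rfl⟩ := (Sieve.mem_ofArrows_iff _ _ _).1 hq
    rw [op_comp, Functor.map_comp, ConcreteCategory.comp_apply, ConcreteCategory.comp_apply]
    refine congrArg (S.X₃.obj.map c.op) ?_
    rw [← NatTrans.naturality_apply]
    refine (congrArg (S.g.hom.app (op (Z k))) (hr k)).trans ?_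
    obtain ⟨_ | _⟩ := k
    · exact hgb'
    · exact ha

omit [ProEtS.EpsCont X] in
theorem good_quotient {S : ShortComplex (ProEtS.AbP X)} (hS : S.ShortExact) [Injective S.X₂] (h : Good S.X₁) :
    Good S.X₃ := by
  refine ⟨cechAcyclic_quotient (datum X) hS h.1, fun T Φ i O hO z => ?_⟩
  obtain ⟨w, rfl⟩ := surjective_of_good hS h (Φ.openG i O hO) z
  obtain ⟨w', rfl⟩ := flasque_injective S.X₂ T Φ i O hO w
  exact ⟨S.g.hom.app (op T) w', (NatTrans.naturality_apply S.g.hom _ w').symm⟩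

end Groth.Agent.EpsLib
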