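import Mathlib.Algebra.Category.Grp.Adjunctions
import Mathlib.Algebra.Category.Grp.EpiMono
import Mathlib.Algebra.Category.Grp.Abelian
import Mathlib.Algebra.Category.Grp.Limits
import Mathlib.CategoryTheory.Abelian.FunctorCategory
import Mathlib.CategoryTheory.Abelian.Images
import Mathlib.CategoryTheory.Preadditive.Injective.Basic
import Mathlib.CategoryTheory.Yoneda
import Mathlib.CategoryTheory.Adjunction.Whiskering
import Mathlib.Algebra.BigOperators.Fin

/-! Čech complexes of a single morphism. -/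

set_option autoImplicit false
set_option linter.style.haveILetI false
set_option backward.isDefEq.respectTransparency false
universe u

open CategoryTheory CategoryTheory.Limits Opposite

namespace Groth.Agent.EpsLib

variable {C : Type (u + 1)} [Category.{u} C]

/-- The powers of `W'` over `W`. -/
structure Nerve {W' W : C} (π : W' ⟶ W) where
  /-- The `n + 1`-fold power. -/
  obj : ℕ → C
  /-- The projections. -/
  pr : ∀ n, Fin (n + 1) → (obj n ⟶ W')
  w : ∀ n k, pr n k ≫ π = pr n 0 ≫ π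
  /-- The universal property. -/
  lift : ∀ (n : ℕ) {T : C} (t : Fin (n + 1) → (T ⟶ W')), (∀ k, t k ≫ π = t 0 ≫ π) → (T ⟶ obj n)
  fac : ∀ (n : ℕ) {T : C} (t : Fin (n + 1) → (T ⟶ W')) (h : ∀ k, t k ≫ π = t 0 ≫ π) (k : Fin (n + 1)), lift n t h ≫ pr n k = t k
  ext : ∀ (n : ℕ) {T : C} (a b : T ⟶ obj n), (∀ k, a ≫ pr n k = b ≫ pr n k) → a = b

variable {W' W : C} {π : W' ⟶ W} (N : Nerve π)

/-- The faces. -/
def Nerve.face (n : ℕ) (i : Fin (n + 2)) : N.obj (n + 1) ⟶ N.obj n :=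
  N.lift n (fun k => N.pr (n + 1) (i.succAbove k)) fun k =>
    (N.w _ _).trans (N.w _ (i.succAbove 0)).symm

theorem Nerve.face_pr (n : ℕ) (i : Fin (n + 2)) (k : Fin (n + 1)) :
    N.face n i ≫ N.pr n k = N.pr (n + 1) (i.succAbove k) := N.fac _ _ _ k

/-- The Čech differential. -/
noncomputable def cechD (P : Cᵒᵖ ⥤ AddCommGrpCat.{u + 1}) (n : ℕ) :
    P.obj (op (N.obj n)) →+ P.obj (op (N.obj (n + 1))) :=
  ∑ i : Fin (n + 2), ((-1 : ℤ) ^ (i : ℕ)) • (P.map (N.face n i).op).hom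

theorem cechD_apply (P : Cᵒᵖ ⥤ AddCommGrpCat.{u + 1}) (n : ℕ) (x : P.obj (op (N.obj n))) :
    cechD N P n x = ∑ i : Fin (n + 2), ((-1 : ℤ) ^ (i : ℕ)) • P.map (N.face n i).op x := by
  simp [cechD, AddMonoidHom.finsetSum_apply]

theorem cechD_natural {P Q : Cᵒᵖ ⥤ AddCommGrpCat.{u + 1}} (φ : P ⟶ Q) (n : ℕ) (x : P.obj (op (N.obj n))) :
    φ.app (op (N.obj (n + 1))) (cechD N P n x) = cechD N Q n (φ.app (op (N.obj n)) x) := by
  simp only [cechD_apply, map_sum, map_zsmul, NatTrans.naturality_apply]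

/-- Exactness of the Čech complex in degree `n + 1`. -/
def HExact (P : Cᵒᵖ ⥤ AddCommGrpCat.{u + 1}) (n : ℕ) : Prop :=
  ∀ x : P.obj (op (N.obj (n + 1))), cechD N P (n + 1) x = 0 → ∃ y, cechD N P n y = x

/-- The free presheaf on a power. -/
noncomputable abbrev Q (n : ℕ) : Cᵒᵖ ⥤ AddCommGrpCat.{u + 1} :=
  uliftYoneda.{u + 1}.obj (N.obj n) ⋙ AddCommGrpCat.free.{u + 1}

/-- The boundary. -/
noncomputable def bd (n : ℕ) : Q N (n + 1) ⟶ Q N n :=
  ∑ i : Fin (n + 2), ((-1 : ℤ) ^ (i : ℕ)) • Functor.whiskerRight (uliftYoneda.{u + 1}.map (N.face n i)) AddCommGrpCat.free.{u + 1}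

/-- A generator. -/
noncomputable def gen {n : ℕ} {V : C} (x : V ⟶ N.obj n) : (Q N n).obj (op V) :=
  FreeAbelianGroup.of (ULift.up x)

theorem bd_gen (n : ℕ) {V : C} (x : V ⟶ N.obj (n + 1)) :
    (bd N n).app (op V) (gen N x) = ∑ i : Fin (n + 2), ((-1 : ℤ) ^ (i : ℕ)) • gen N (x ≫ N.face n i) := by
  simp only [bd, NatTrans.app_sum]
  change AddCommGrpCat.homAddEquiv (∑ i : Fin (n + 2), _) (gen N x) = _
  rw [map_sum, AddMonoidHom.finsetSum_apply]
  refine Finset.sum_congr rfl fun i _ => ?_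
  rw [NatTrans.app_zsmul, map_zsmul, AddMonoidHom.zsmul_apply]
  show ((-1 : ℤ) ^ (i : ℕ)) • (FreeAbelianGroup.map _ (FreeAbelianGroup.of (ULift.up x))) = _
  rw [FreeAbelianGroup.map_of_apply]
  rfl

section Homotopy

variable {V : C} (s : (V ⟶ W) → (V ⟶ W')) (hs : ∀ a : V ⟶ W', s (a ≫ π) ≫ π = a ≫ π)

/-- Prepend the chosen vertex. -/
def prep (n : ℕ) (x : V ⟶ N.obj n) : V ⟶ N.obj (n + 1) :=
  N.lift (n + 1) (Fin.cons (s ((x ≫ N.pr n 0) ≫ π)) fun k => x ≫ N.pr n k) fun k => by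
    induction k using Fin.cases with
    | zero => rfl
    | succ k =>
      simp only [Fin.cons_zero, Fin.cons_succ, Category.assoc, N.w n k]
      simpa only [Category.assoc] using (hs (x ≫ N.pr n 0)).symm

theorem prep_face_zero (n : ℕ) (x : V ⟶ N.obj n) : prep N s hs n x ≫ N.face n 0 = x :=
  N.ext n _ _ fun k => by
    rw [Category.assoc, N.face_pr, prep, N.fac, Fin.succAbove_zero, Fin.cons_succ]

theorem prep_face_succ (n : ℕ) (x : V ⟶ N.obj (n + 1)) (i : Fin (n + 2)) :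
    prep N s hs (n + 1) x ≫ N.face (n + 1) i.succ = prep N s hs n (x ≫ N.face n i) := by
  refine N.ext (n + 1) _ _ fun k => ?_
  rw [Category.assoc, N.face_pr, prep, N.fac, prep, N.fac]
  induction k using Fin.cases with
  | zero =>
    rw [Fin.succ_succAbove_zero, Fin.cons_zero, Fin.cons_zero]
    simp only [Category.assoc]
    rw [reassoc_of% (N.face_pr n i 0), N.w (n + 1) (i.succAbove 0)]
  | succ k => rw [Fin.succ_succAbove_succ, Fin.cons_succ, Fin.cons_succ, Category.assoc, N.face_pr]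

/-- The contracting homotopy. -/
noncomputable def hom' (n : ℕ) : (Q N n).obj (op V) →+ (Q N (n + 1)).obj (op V) :=
  FreeAbelianGroup.map fun x => ULift.up (prep N s hs n x.down)

theorem hom'_gen (n : ℕ) (x : V ⟶ N.obj n) : hom' N s hs n (gen N x) = gen N (prep N s hs n x) :=
  FreeAbelianGroup.map_of_apply _

theorem bd_hom' (n : ℕ) (z : (Q N (n + 1)).obj (op V)) :
    (bd N (n + 1)).app (op V) (hom' N s hs (n + 1) z) = z - hom' N s hs n ((bd N n).app (op V) z) := by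
  have e : ((bd N (n + 1)).app (op V)).hom.comp (hom' N s hs (n + 1)) =
      AddMonoidHom.id _ - (hom' N s hs n).comp ((bd N n).app (op V)).hom := by
    refine FreeAbelianGroup.lift_ext _ _ fun x => ?_
    obtain ⟨x⟩ := x
    show (bd N (n + 1)).app (op V) (hom' N s hs (n + 1) (gen N x)) = gen N x - hom' N s hs n ((bd N n).app (op V) (gen N x))
    rw [hom'_gen, bd_gen, bd_gen, map_sum, Fin.sum_univ_succ, prep_face_zero, sub_eq_add_neg, ← Finset.sum_neg_distrib]
    simp only [Fin.val_zero, pow_zero, one_smul, Fin.val_succ, map_zsmul, hom'_gen, prep_face_succ]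
    refine congrArg (gen N x + ·) (Finset.sum_congr rfl fun i _ => ?_)
    rw [pow_succ, mul_neg_one, neg_smul]
  exact DFunLike.congr_fun e z

end Homotopy

/-- A chosen section on the image. -/
theorem exists_section_choice (V : C) (a₀ : V ⟶ W') :
    ∃ s : (V ⟶ W) → (V ⟶ W'), (∀ a : V ⟶ W', s (a ≫ π) ≫ π = a ≫ π) ∧ s (a₀ ≫ π) = a₀ := by
  classical
  refine ⟨fun b => if b = a₀ ≫ π then a₀ else if h : ∃ a : V ⟶ W', a ≫ π = b then h.choose else a₀, fun a => ?_, by simp⟩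
  dsimp only
  by_cases h : a ≫ π = a₀ ≫ π
  · rw [if_pos h, h]
  · rw [if_neg h, dif_pos ⟨a, rfl⟩]
    exact (⟨a, rfl⟩ : ∃ a' : V ⟶ W', a' ≫ π = a ≫ π).choose_spec

theorem exists_bd_eq (n : ℕ) {V : C} (z : (Q N (n + 1)).obj (op V)) (hz : (bd N n).app (op V) z = 0) :
    ∃ w, (bd N (n + 1)).app (op V) w = z := by
  rcases isEmpty_or_nonempty (V ⟶ W') with h | ⟨⟨a₀⟩⟩
  · haveI : IsEmpty (ULift.{u + 1} (V ⟶ N.obj (n + 1))) := ⟨fun x => h.elim (x.down ≫ N.pr _ 0)⟩
    haveI : Subsingleton ((Q N (n + 1)).obj (op V)) :=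
      inferInstanceAs (Subsingleton (FreeAbelianGroup (ULift.{u + 1} (V ⟶ N.obj (n + 1)))))
    exact ⟨0, Subsingleton.elim _ _⟩
  · obtain ⟨s, hs, -⟩ := exists_section_choice (π := π) V a₀
    exact ⟨hom' N s hs (n + 1) z, by rw [bd_hom', hz, map_zero, sub_zero]⟩

theorem bd_zero_hom' {V : C} (s : (V ⟶ W) → (V ⟶ W')) (hs : ∀ a : V ⟶ W', s (a ≫ π) ≫ π = a ≫ π) (x : V ⟶ N.obj 0) :
    (bd N 0).app (op V) (hom' N s hs 0 (gen N x)) =
      gen N x - gen N (N.lift 0 (fun _ => s ((x ≫ N.pr 0 0) ≫ π)) fun _ => rfl) := by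
  have e1 : prep N s hs 0 x ≫ N.face 0 (1 : Fin 2) = N.lift 0 (fun _ => s ((x ≫ N.pr 0 0) ≫ π)) fun _ => rfl :=
    N.ext 0 _ _ fun k => by
      obtain rfl : k = 0 := Fin.eq_zero k
      rw [Category.assoc, N.face_pr, N.fac, prep, N.fac, show ((1 : Fin 2).succAbove 0) = 0 from rfl, Fin.cons_zero]
  rw [hom'_gen, bd_gen, Fin.sum_univ_two, prep_face_zero, e1]
  simp [sub_eq_add_neg]

theorem bd_bd (n : ℕ) {V : C} (z : (Q N (n + 2)).obj (op V)) :
    (bd N n).app (op V) ((bd N (n + 1)).app (op V) z) = 0 := by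
  induction n with
  | zero =>
    have e : ((bd N 0).app (op V)).hom.comp ((bd N 1).app (op V)).hom = 0 := by
      refine FreeAbelianGroup.lift_ext _ _ fun x => ?_
      obtain ⟨x⟩ := x
      obtain ⟨s, hs, hs₀⟩ := exists_section_choice (π := π) V (x ≫ N.pr 2 0)
      let y := x ≫ N.face 1 0
      have hx : prep N s hs 1 y = x := N.ext 2 _ _ fun k => by
        rw [prep, N.fac]
        induction k using Fin.cases with
        | zero =>
          rw [Fin.cons_zero]
          simp only [y, Category.assoc]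
          rw [reassoc_of% (N.face_pr 1 0 0), N.w 2 _, ← Category.assoc]
          exact hs₀
        | succ k => rw [Fin.cons_succ]; simp only [y, Category.assoc, N.face_pr, Fin.succAbove_zero]
      show (bd N 0).app (op V) ((bd N 1).app (op V) (gen N x)) = 0
      rw [← hx, ← hom'_gen, bd_hom', map_sub, bd_gen, map_sum, map_sum, Fin.sum_univ_two, Fin.sum_univ_two]
      simp only [Fin.val_zero, pow_zero, one_smul, Fin.val_one, pow_one, neg_smul, map_neg, bd_zero_hom']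
      have ek : ((y ≫ N.face 0 0) ≫ N.pr 0 0) ≫ π = ((y ≫ N.face 0 1) ≫ N.pr 0 0) ≫ π := by
        simp only [Category.assoc, reassoc_of% (N.face_pr 0 (0 : Fin 2) 0), reassoc_of% (N.face_pr 0 (1 : Fin 2) 0)]
        rw [N.w 1 ((0 : Fin 2).succAbove 0), N.w 1 ((1 : Fin 2).succAbove 0)]
      have el : N.lift 0 (fun _ => s (((y ≫ N.face 0 0) ≫ N.pr 0 0) ≫ π)) (fun _ => rfl) =
          N.lift 0 (fun _ => s (((y ≫ N.face 0 1) ≫ N.pr 0 0) ≫ π)) (fun _ => rfl) :=
        N.ext 0 _ _ fun k => by rw [N.fac, N.fac, ek]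
      rw [el]
      abel
    exact DFunLike.congr_fun e z
  | succ n ih =>
    have e : ((bd N (n + 1)).app (op V)).hom.comp ((bd N (n + 2)).app (op V)).hom = 0 := by
      refine FreeAbelianGroup.lift_ext _ _ fun x => ?_
      obtain ⟨x⟩ := x
      obtain ⟨s, hs, hs₀⟩ := exists_section_choice (π := π) V (x ≫ N.pr (n + 3) 0)
      let y := x ≫ N.face (n + 2) 0
      have hx : prep N s hs (n + 2) y = x := N.ext (n + 3) _ _ fun k => by
        rw [prep, N.fac]
        induction k using Fin.cases with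
        | zero =>
          rw [Fin.cons_zero]
          simp only [y, Category.assoc]
          rw [reassoc_of% (N.face_pr (n + 2) 0 0), N.w (n + 3) _, ← Category.assoc]
          exact hs₀
        | succ k => rw [Fin.cons_succ]; simp only [y, Category.assoc, N.face_pr, Fin.succAbove_zero]
      show (bd N (n + 1)).app (op V) ((bd N (n + 2)).app (op V) (gen N x)) = 0
      rw [← hx, ← hom'_gen, bd_hom', map_sub, bd_hom', ih, map_zero, sub_zero, sub_self]
    exact DFunLike.congr_fun e z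

/-- The section of a map out of a free presheaf. -/
noncomputable def el {n : ℕ} {P : Cᵒᵖ ⥤ AddCommGrpCat.{u + 1}} (φ : Q N n ⟶ P) : P.obj (op (N.obj n)) :=
  φ.app (op (N.obj n)) (gen N (𝟙 _))

theorem app_gen {n : ℕ} {P : Cᵒᵖ ⥤ AddCommGrpCat.{u + 1}} (φ : Q N n ⟶ P) {V : C} (x : V ⟶ N.obj n) :
    φ.app (op V) (gen N x) = P.map x.op (el N φ) := by
  rw [el, ← NatTrans.naturality_apply φ x.op]
  refine congrArg (φ.app (op V)) ?_
  show gen N x = FreeAbelianGroup.map _ (FreeAbelianGroup.of (ULift.up (𝟙 _)))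
  rw [FreeAbelianGroup.map_of_apply]
  exact congrArg (fun m => FreeAbelianGroup.of (ULift.up m)) (Category.comp_id x).symm

theorem exists_el_eq {n : ℕ} {P : Cᵒᵖ ⥤ AddCommGrpCat.{u + 1}} (s : P.obj (op (N.obj n))) :
    ∃ φ : Q N n ⟶ P, el N φ = s := by
  refine ⟨((AddCommGrpCat.adj.{u + 1}.whiskerRight Cᵒᵖ).homEquiv _ P).symm
    ((uliftYonedaEquiv.{u + 1} (F := P ⋙ forget AddCommGrpCat.{u + 1})).symm s), ?_⟩
  let ψ := (uliftYonedaEquiv.{u + 1} (F := P ⋙ forget AddCommGrpCat.{u + 1})).symm s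
  have e := congr_arg (fun k : uliftYoneda.{u + 1}.obj (N.obj n) ⟶ P ⋙ forget AddCommGrpCat.{u + 1} =>
      k.app (op (N.obj n)) (ULift.up (𝟙 (N.obj n))))
    (((AddCommGrpCat.adj.{u + 1}.whiskerRight Cᵒᵖ).homEquiv _ P).apply_symm_apply ψ)
  refine e.trans ?_
  show P.map (𝟙 (N.obj n)).op s = s
  rw [op_id, P.map_id]
  rfl

theorem el_bd {n : ℕ} {P : Cᵒᵖ ⥤ AddCommGrpCat.{u + 1}} (φ : Q N n ⟶ P) :
    el N (bd N n ≫ φ) = cechD N P n (el N φ) := by
  show φ.app _ ((bd N n).app _ (gen N (𝟙 _))) = _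
  rw [bd_gen, map_sum, cechD_apply]
  refine Finset.sum_congr rfl fun i _ => ?_
  rw [map_zsmul, Category.id_comp, app_gen]

theorem cechD_cechD (P : Cᵒᵖ ⥤ AddCommGrpCat.{u + 1}) (n : ℕ) (x : P.obj (op (N.obj n))) :
    cechD N P (n + 1) (cechD N P n x) = 0 := by
  obtain ⟨φ, rfl⟩ := exists_el_eq N (P := P) x
  rw [← el_bd, ← el_bd]
  show φ.app _ ((bd N n).app _ ((bd N (n + 1)).app _ _)) = 0
  rw [bd_bd, map_zero]

theorem hExact_of_injective (P : Cᵒᵖ ⥤ AddCommGrpCat.{u + 1}) [Injective P] (n : ℕ) : HExact N P n := by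
  intro x hx
  obtain ⟨φ, rfl⟩ := exists_el_eq N (P := P) x
  rw [← el_bd] at hx
  have h0 : bd N (n + 1) ≫ φ = 0 := by
    apply ((AddCommGrpCat.adj.{u + 1}.whiskerRight Cᵒᵖ).homEquiv _ P).injective
    apply (uliftYonedaEquiv.{u + 1} (F := P ⋙ forget AddCommGrpCat.{u + 1})).injective
    exact hx.trans rfl
  have h1 : kernel.ι (bd N n) ≫ φ = 0 := by
    ext V z
    have hz : (bd N n).app V ((kernel.ι (bd N n)).app V z) = 0 :=
      ConcreteCategory.congr_hom (congr_arg (fun k => k.app V) (kernel.condition (bd N n))) z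
    obtain ⟨w, hw⟩ := exists_bd_eq N n (V := V.unop) _ hz
    show φ.app V ((kernel.ι (bd N n)).app V z) = 0
    rw [← hw]
    exact ConcreteCategory.congr_hom (congr_arg (fun k => k.app V) h0) w
  let g : Abelian.coimage (bd N n) ⟶ P := cokernel.desc (kernel.ι (bd N n)) φ h1
  refine ⟨el N (Injective.factorThru g (Abelian.factorThruCoimage (bd N n))), ?_⟩
  rw [← el_bd]
  refine congrArg (el N) ?_
  refine (congrArg (· ≫ Injective.factorThru g (Abelian.factorThruCoimage (bd N n))) (Abelian.coimage.fac (bd N n)).symm).trans ?_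
  rw [Category.assoc, Injective.comp_factorThru]
  exact cokernel.π_desc _ _ _

end Groth.Agent.EpsLib
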