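import Groth.Agent.EpsLib.Transfer
import Groth.Agent.WEtIndEtLib.Refine
import Mathlib.CategoryTheory.Filtered.Final
import Mathlib.CategoryTheory.Comma.Basic
import Mathlib.CategoryTheory.ObjectProperty.FullSubcategory
import Mathlib.CategoryTheory.Limits.Preserves.Over
import Mathlib.AlgebraicGeometry.Morphisms.Etale

/-! Approximations of affine objects of the pro-étale site by étale objects. -/

set_option autoImplicit false
set_option linter.style.haveILetI false
set_option backward.isDefEq.respectTransparency false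
set_option synthInstance.maxHeartbeats 400000
universe u

open CategoryTheory CategoryTheory.Limits AlgebraicGeometry Opposite

namespace Groth.Agent.EpsLib

open ProEtPtsLib WCSiteLib

variable {X : Scheme.{u}}

/-- A presentation as a cofiltered limit of affine étale objects. -/
structure Approx (W : X.ProEt) where
  /-- The index category. -/
  I : Type u
  /-- Its category structure. -/
  [cat : SmallCategory I]
  [cofiltered : IsCofiltered I]
  /-- The system. -/
  D : I ⥤ X.Etale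
  affine : ∀ i, IsAffine (D.obj i).left
  /-- The legs. -/
  π : (Functor.const I).obj W ⟶ D ⋙ ProEtS.eps X
  /-- It is a limit of schemes. -/
  isLimit : IsLimit ((undF X).mapCone (Cone.mk W π))

attribute [instance] Approx.cat Approx.cofiltered

/-- Objects having an approximation. -/
def IsApprox (W : X.ProEt) : Prop := Nonempty (Approx W)

theorem isAffineHom_of_affines {A B : X.ProEt} (f : A ⟶ B) [IsAffine A.left] [IsAffine B.left] :
    IsAffineHom (und f) := isAffineHom_of_isAffine _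

theorem Approx.isAffine {W : X.ProEt} (Φ : Approx W) : IsAffine W.left := by
  haveI : ∀ i, IsAffine (((Φ.D ⋙ ProEtS.eps X) ⋙ undF X).obj i) := Φ.affine
  exact Scheme.isAffine_of_isLimit _ Φ.isLimit

variable {W : X.ProEt} (Φ : Approx W)

theorem Approx.exists_factor (V : X.Etale) (a : W ⟶ (ProEtS.eps X).obj V) :
    ∃ (i : Φ.I) (g : Φ.D.obj i ⟶ V), Φ.π.app i ≫ (ProEtS.eps X).map g = a := by
  haveI : ∀ i, IsAffine (((Φ.D ⋙ ProEtS.eps X) ⋙ undF X).obj i) := Φ.affine
  haveI : ∀ {i j : Φ.I} (f : i ⟶ j), IsAffineHom (((Φ.D ⋙ ProEtS.eps X) ⋙ undF X).map f) :=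
    fun f => isAffineHom_of_isAffine _
  haveI : Etale V.hom := V.prop
  let t : (Φ.D ⋙ ProEtS.eps X) ⋙ undF X ⟶ (Functor.const Φ.I).obj X :=
    { app := fun i => (Φ.D.obj i).hom
      naturality := fun i j f => by
        simp only [Functor.const_obj_obj, Functor.const_obj_map, Category.comp_id]
        exact MorphismProperty.Over.w (Φ.D.map f) }
  obtain ⟨i, g, hg, hg'⟩ := Scheme.exists_π_app_comp_eq_of_locallyOfFinitePresentation _ t V.hom _ Φ.isLimit (und a)
    (by
      ext i : 2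
      show und (Φ.π.app i) ≫ ((ProEtS.eps X).obj (Φ.D.obj i)).hom = und a ≫ ((ProEtS.eps X).obj V).hom
      exact (und_w (Φ.π.app i)).trans (und_w a).symm)
  exact ⟨i, MorphismProperty.Over.homMk g hg' trivial, hom_ext_und hg⟩

theorem Approx.exists_equalize (V : X.Etale) {i : Φ.I} (g g' : Φ.D.obj i ⟶ V)
    (h : Φ.π.app i ≫ (ProEtS.eps X).map g = Φ.π.app i ≫ (ProEtS.eps X).map g') :
    ∃ (k : Φ.I) (a : k ⟶ i), Φ.D.map a ≫ g = Φ.D.map a ≫ g' := by
  haveI : ∀ i, IsAffine (((Φ.D ⋙ ProEtS.eps X) ⋙ undF X).obj i) := Φ.affine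
  haveI : ∀ {i j : Φ.I} (f : i ⟶ j), IsAffineHom (((Φ.D ⋙ ProEtS.eps X) ⋙ undF X).map f) :=
    fun f => isAffineHom_of_isAffine _
  haveI : Etale V.hom := V.prop
  let t : (Φ.D ⋙ ProEtS.eps X) ⋙ undF X ⟶ (Functor.const Φ.I).obj X :=
    { app := fun i => (Φ.D.obj i).hom
      naturality := fun i j f => by
        simp only [Functor.const_obj_obj, Functor.const_obj_map, Category.comp_id]
        exact MorphismProperty.Over.w (Φ.D.map f) }
  obtain ⟨k, a, ha⟩ := Scheme.exists_hom_comp_eq_comp_of_locallyOfFiniteType _ t V.hom _ Φ.isLimit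
    g.left g'.left (MorphismProperty.Over.w g).symm (MorphismProperty.Over.w g').symm (congrArg (fun m => und m) h)
  exact ⟨k, a, MorphismProperty.Over.Hom.ext ha⟩

/-- An affine étale object is its own approximation. -/
theorem isApprox_eps (U : X.Etale) [IsAffine U.left] : IsApprox ((ProEtS.eps X).obj U) := by
  haveI : IsCofiltered (Discrete PUnit.{u + 1}) :=
    { cone_objs := fun a b => ⟨a, 𝟙 _, eqToHom (Subsingleton.elim _ _), trivial⟩
      cone_maps := fun a b f g => ⟨a, 𝟙 _, Subsingleton.elim _ _⟩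
      nonempty := ⟨⟨PUnit.unit⟩⟩ }
  refine ⟨{ I := Discrete PUnit.{u + 1}
            D := (Functor.const _).obj U
            affine := fun _ => ‹_›
            π := { app := fun _ => 𝟙 _, naturality := fun _ _ f => by simp }
            isLimit :=
              { lift := fun s => s.π.app ⟨PUnit.unit⟩
                fac := fun s j => by
                  obtain ⟨⟨⟩⟩ := j
                  exact Category.comp_id _
                uniq := fun s m hm => (Category.comp_id m).symm.trans (hm ⟨PUnit.unit⟩) } }⟩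

/-- An approximation of an arrow. -/
structure ArrowApprox {W' W : X.ProEt} (π : W' ⟶ W) where
  /-- The index category. -/
  K : Type u
  /-- Its category structure. -/
  [cat : SmallCategory K]
  [cofiltered : IsCofiltered K]
  /-- The source system. -/
  D' : K ⥤ X.Etale
  /-- The target system. -/
  D : K ⥤ X.Etale
  /-- The levels of the arrow. -/
  q : D' ⟶ D
  affine' : ∀ k, IsAffine (D'.obj k).left
  affine : ∀ k, IsAffine (D.obj k).left
  /-- The source legs. -/
  π' : (Functor.const K).obj W' ⟶ D' ⋙ ProEtS.eps X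
  /-- The target legs. -/
  π₀ : (Functor.const K).obj W ⟶ D ⋙ ProEtS.eps X
  comm : ∀ k, π'.app k ≫ (ProEtS.eps X).map (q.app k) = π ≫ π₀.app k
  /-- The source is a limit. -/
  isLimit' : IsLimit ((undF X).mapCone (Cone.mk W' π'))
  /-- The target is a limit. -/
  isLimit : IsLimit ((undF X).mapCone (Cone.mk W π₀))

attribute [instance] ArrowApprox.cat ArrowApprox.cofiltered

theorem nonempty_arrowApprox {W' W : X.ProEt} (π : W' ⟶ W) (Ψ : Approx W') (Φ : Approx W) :
    Nonempty (ArrowApprox π) := by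
  let P : ObjectProperty (Comma Ψ.D Φ.D) := fun o =>
    Ψ.π.app o.left ≫ (ProEtS.eps X).map o.hom = π ≫ Φ.π.app o.right
  let K := P.FullSubcategory
  let L : K ⥤ Ψ.I := P.ι ⋙ Comma.fst Ψ.D Φ.D
  let R : K ⥤ Φ.I := P.ι ⋙ Comma.snd Ψ.D Φ.D
  have hπΨ : ∀ {i j : Ψ.I} (a : i ⟶ j), Ψ.π.app i ≫ (ProEtS.eps X).map (Ψ.D.map a) = Ψ.π.app j := fun a =>
    (Ψ.π.naturality a).symm.trans (Category.id_comp _)
  have hπΦ : ∀ {i j : Φ.I} (a : i ⟶ j), Φ.π.app i ≫ (ProEtS.eps X).map (Φ.D.map a) = Φ.π.app j := fun a =>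
    (Φ.π.naturality a).symm.trans (Category.id_comp _)
  have core : ∀ (o : K) (i : Φ.I) (a : i ⟶ R.obj o) (j₀ : Ψ.I) (b : j₀ ⟶ L.obj o),
      ∃ (o' : K) (φ : o' ⟶ o) (e : L.obj o' ⟶ j₀) (hi : R.obj o' = i), L.map φ = e ≫ b ∧ R.map φ = eqToHom hi ≫ a := by
    intro o i a j₀ b
    obtain ⟨j, g, hg⟩ := Ψ.exists_factor (Φ.D.obj i) (π ≫ Φ.π.app i)
    obtain ⟨j₁, u, v, -⟩ := IsCofilteredOrEmpty.cone_objs j j₀
    obtain ⟨k, w, hw⟩ := Ψ.exists_equalize (Φ.D.obj o.obj.right) (i := j₁) (Ψ.D.map u ≫ g ≫ Φ.D.map a)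
      (Ψ.D.map (v ≫ b) ≫ o.obj.hom) (by
        simp only [Functor.map_comp, ← Category.assoc, hπΨ]
        rw [hg, Category.assoc, hπΦ]
        exact o.property.symm)
    refine ⟨⟨{ left := k, right := i, hom := Ψ.D.map (w ≫ u) ≫ g }, ?_⟩, ObjectProperty.homMk { left := w ≫ v ≫ b, right := a, w := ?_ },
      w ≫ v, rfl, (Category.assoc _ _ _).symm, (show a = eqToHom rfl ≫ a from (Category.id_comp a).symm)⟩
    · show Ψ.π.app k ≫ (ProEtS.eps X).map (Ψ.D.map (w ≫ u) ≫ g) = π ≫ Φ.π.app i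
      rw [Functor.map_comp, ← Category.assoc, hπΨ, hg]
    · simp only [Functor.map_comp, Category.assoc] at hw ⊢
      exact hw.symm
  have hne : ∀ i : Φ.I, ∃ o : K, R.obj o = i := fun i => by
    obtain ⟨j, g, hg⟩ := Ψ.exists_factor (Φ.D.obj i) (π ≫ Φ.π.app i)
    exact ⟨⟨{ left := j, right := i, hom := g }, hg⟩, rfl⟩
  haveI : IsCofiltered K :=
    { nonempty := (hne IsCofiltered.nonempty.some).nonempty
      cone_objs := fun o₁ o₂ => by
        obtain ⟨i, a₁, a₂, -⟩ := IsCofilteredOrEmpty.cone_objs (R.obj o₁) (R.obj o₂)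
        obtain ⟨j, b₁, b₂, -⟩ := IsCofilteredOrEmpty.cone_objs (L.obj o₁) (L.obj o₂)
        obtain ⟨o, φ₁, e, hi, -, hR₁⟩ := core o₁ i a₁ j b₁
        let o' := o
        obtain ⟨k, w, hw⟩ := Ψ.exists_equalize (Φ.D.obj o₂.obj.right) (i := o.obj.left)
          (o.obj.hom ≫ Φ.D.map (eqToHom hi ≫ a₂)) (Ψ.D.map (e ≫ b₂) ≫ o₂.obj.hom) (by
            simp only [Functor.map_comp, ← Category.assoc, hπΨ, hπΦ]
            rw [show Ψ.π.app o.obj.left ≫ (ProEtS.eps X).map o.obj.hom = π ≫ Φ.π.app o.obj.right from o.property]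
            simp only [Category.assoc, hπΦ]
            exact o₂.property.symm)
        refine ⟨⟨{ left := k, right := o.obj.right, hom := Ψ.D.map w ≫ o.obj.hom }, ?_⟩,
          ObjectProperty.homMk { left := w, right := 𝟙 _, w := by simp } ≫ φ₁,
          ObjectProperty.homMk { left := w ≫ e ≫ b₂, right := eqToHom hi ≫ a₂, w := ?_ }, trivial⟩
        · show Ψ.π.app k ≫ (ProEtS.eps X).map (Ψ.D.map w ≫ o.obj.hom) = π ≫ Φ.π.app o.obj.right
          rw [Functor.map_comp, ← Category.assoc, hπΨ]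
          exact o.property
        · simp only [Functor.map_comp, Category.assoc] at hw ⊢
          exact hw.symm
      cone_maps := fun o₁ o₂ f g => by
        obtain ⟨i, a, ha⟩ := IsCofilteredOrEmpty.cone_maps (R.map f) (R.map g)
        obtain ⟨j, b, hb⟩ := IsCofilteredOrEmpty.cone_maps (L.map f) (L.map g)
        obtain ⟨o, φ, e, hi, hL, hR⟩ := core o₁ i a j b
        refine ⟨o, φ, ObjectProperty.hom_ext _ (CommaMorphism.ext ?_ ?_)⟩
        · show L.map φ ≫ L.map f = L.map φ ≫ L.map g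
          rw [hL, Category.assoc, Category.assoc, hb]
        · show R.map φ ≫ R.map f = R.map φ ≫ R.map g
          rw [hR, Category.assoc, Category.assoc, ha] }
  haveI : R.Initial := by
    refine Functor.initial_of_exists_of_isCofiltered R (fun d => ?_) fun {d o} s s' => ?_
    · obtain ⟨o, rfl⟩ := hne d
      exact ⟨o, ⟨𝟙 _⟩⟩
    · obtain ⟨i, a, ha⟩ := IsCofilteredOrEmpty.cone_maps s s'
      obtain ⟨o', φ, e, hi, -, hR⟩ := core o i a (L.obj o) (𝟙 _)
      exact ⟨o', φ, by rw [hR, Category.assoc, Category.assoc, ha]⟩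
  haveI : L.Initial := by
    refine Functor.initial_of_exists_of_isCofiltered L (fun d => ?_) fun {d o} s s' => ?_
    · obtain ⟨o⟩ := (inferInstance : IsCofiltered K).nonempty
      obtain ⟨j, b, b', -⟩ := IsCofilteredOrEmpty.cone_objs (L.obj o) d
      obtain ⟨o', -, e, -, -, -⟩ := core o (R.obj o) (𝟙 _) j b
      exact ⟨o', ⟨e ≫ b'⟩⟩
    · obtain ⟨j, b, hb⟩ := IsCofilteredOrEmpty.cone_maps s s'
      obtain ⟨o', φ, e, hi, hL, -⟩ := core o (R.obj o) (𝟙 _) j b
      exact ⟨o', φ, by rw [hL, Category.assoc, Category.assoc, hb]⟩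
  exact ⟨{ K := K
           D' := L ⋙ Ψ.D
           D := R ⋙ Φ.D
           q := { app := fun o => o.obj.hom, naturality := fun o o' f => f.hom.w }
           affine' := fun o => Ψ.affine _
           affine := fun o => Φ.affine _
           π' := Functor.whiskerLeft L Ψ.π
           π₀ := Functor.whiskerLeft R Φ.π
           comm := fun o => o.property
           isLimit' := (Functor.Initial.isLimitWhiskerEquiv L _).symm Ψ.isLimit
           isLimit := (Functor.Initial.isLimitWhiskerEquiv R _).symm Φ.isLimit }⟩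

/-- An affine weakly contractible approximated cover of an affine object over an affine étale one. -/
theorem exists_approx_cover_of_map {W : X.ProEt} [IsAffine W.left] (U : X.Etale) [IsAffine U.left]
    (p : W ⟶ (ProEtS.eps X).obj U) :
    ∃ (W' : X.ProEt) (π : W' ⟶ W),
      Sieve.ofArrows (fun _ : PUnit.{u + 1} => W') (fun _ => π) ∈ Scheme.ProEt.topology X W ∧
      ProEtS.IsWC W' ∧ IsApprox W' := by
  haveI : IsAffine ((ProEtS.eps X).obj U).left := ‹IsAffine U.left›
  haveI : AlgebraicGeometry.WeaklyEtale (und p) := weaklyEtale_und p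
  let ρ : Γ(U.left, ⊤) ⟶ Γ(W.left, ⊤) := (und p).appTop
  letI : Algebra ↥Γ(U.left, ⊤) ↥Γ(W.left, ⊤) := ρ.hom.toAlgebra
  haveI : Algebra.WeaklyEtale ↥Γ(U.left, ⊤) ↥Γ(W.left, ⊤) := by
    have e : (⊤ : W.left.Opens) ≤ (und p) ⁻¹ᵁ (⊤ : U.left.Opens) := le_of_eq rfl
    have h := WEtReducedLib.weaklyEtale_appLE (und p) (isAffineOpen_top W.left) (isAffineOpen_top U.left) e
    rw [show (und p).appLE ⊤ ⊤ e = ρ by simp [ρ, Scheme.Hom.appLE]] at h
    exact h
  obtain ⟨D₁, _, _, _, _, hff₁, hBD₁, hAD₁⟩ :=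
    WEtIndEtLib.exists_indEtale_refine ↥Γ(U.left, ⊤) ↥Γ(W.left, ⊤)
  obtain ⟨D₂, _, _, hff₂, hD₁D₂, hwc⟩ := WLocalLib.exists_wContractible D₁
  letI : Algebra ↥Γ(W.left, ⊤) D₂ := ((algebraMap D₁ D₂).comp (algebraMap ↥Γ(W.left, ⊤) D₁)).toAlgebra
  haveI : IsScalarTower ↥Γ(W.left, ⊤) D₁ D₂ := IsScalarTower.of_algebraMap_eq fun _ => rfl
  letI : Algebra ↥Γ(U.left, ⊤) D₂ := ((algebraMap D₁ D₂).comp (algebraMap ↥Γ(U.left, ⊤) D₁)).toAlgebra
  haveI : IsScalarTower ↥Γ(U.left, ⊤) D₁ D₂ := IsScalarTower.of_algebraMap_eq fun _ => rfl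
  have hAD₂ := Groth.Agent.S0734.result ↥Γ(U.left, ⊤) D₁ D₂ hAD₁ hD₁D₂
  have hBD₂ := Groth.Agent.S0734.result ↥Γ(W.left, ⊤) D₁ D₂ hBD₁ hD₁D₂
  haveI := Groth.Agent.S0736.result _ _ hBD₂
  haveI : Module.FaithfullyFlat ↥Γ(W.left, ⊤) D₂ := Module.FaithfullyFlat.trans ↥Γ(W.left, ⊤) D₁ D₂
  let φ : Γ(W.left, ⊤) ⟶ CommRingCat.of D₂ := CommRingCat.ofHom (algebraMap ↥Γ(W.left, ⊤) D₂)
  haveI : AlgebraicGeometry.WeaklyEtale (Spec.map φ) := weaklyEtale_specMap ↥Γ(W.left, ⊤) D₂
  haveI : Surjective (Spec.map φ) :=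
    ⟨PrimeSpectrum.comap_surjective_of_faithfullyFlat (A := ↥Γ(W.left, ⊤)) (B := D₂)⟩
  let g₀ : Spec (CommRingCat.of D₂) ⟶ W.left := Spec.map φ ≫ W.left.isoSpec.inv
  haveI : AlgebraicGeometry.WeaklyEtale W.hom := W.prop
  let W' : X.ProEt := Scheme.ProEt.mk (g₀ ≫ W.hom)
  let π : W' ⟶ W := MorphismProperty.Over.homMk g₀ rfl
  haveI hW'a : IsAffine W'.left := inferInstanceAs (IsAffine (Spec (CommRingCat.of D₂)))
  refine ⟨W', π, single_mem π (inferInstanceAs (Surjective g₀)), isWC_of_wContractible W' ?_, ?_⟩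
  · let e' : D₂ ≃+* ↥(Γ(W'.left, ⊤)) := (Scheme.ΓSpecIso (CommRingCat.of D₂)).commRingCatIsoToRingEquiv.symm
    letI : Algebra D₂ ↥(Γ(W'.left, ⊤)) := e'.toRingHom.toAlgebra
    have hb : Function.Surjective (algebraMap D₂ ↥(Γ(W'.left, ⊤))) := e'.surjective
    haveI : Module.Finite D₂ ↥(Γ(W'.left, ⊤)) := RingHom.Finite.of_surjective _ hb
    haveI : Algebra.FinitePresentation D₂ ↥(Γ(W'.left, ⊤)) := RingHom.FinitePresentation.of_bijective e'.bijective
    exact Groth.Agent.S0679.result D₂ _ hwc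
  obtain ⟨J, _, _, E, cE, hcE, het, ⟨e⟩⟩ := hAD₂
  let toU : ∀ j : Jᵒᵖ, Spec (E.obj j.unop).right ⟶ U.left := fun j => Spec.map (E.obj j.unop).hom ≫ U.left.isoSpec.inv
  have hu : ∀ j, Etale (toU j ≫ U.hom) := fun j => by
    haveI : Etale U.hom := U.prop
    haveI : Etale (Spec.map (E.obj j.unop).hom) :=
      (HasRingHomProperty.Spec_iff (P := @Etale)).2 (het j.unop)
    exact inferInstanceAs (Etale ((Spec.map (E.obj j.unop).hom ≫ U.left.isoSpec.inv) ≫ U.hom))
  have hcomp : ∀ {j k : Jᵒᵖ} (a : j ⟶ k), Spec.map (E.map a.unop).right ≫ toU k = toU j := fun {j k} a => by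
    show _ ≫ _ ≫ _ = _
    rw [← Category.assoc, ← Spec.map_comp, Under.w]
  let D' : Jᵒᵖ ⥤ X.Etale :=
    { obj := fun j => MorphismProperty.Over.mk ⊤ (toU j ≫ U.hom) (hu j)
      map := fun {j k} a => MorphismProperty.Over.homMk (Spec.map (E.map a.unop).right) (by
        show _ ≫ toU k ≫ U.hom = toU j ≫ U.hom
        rw [← Category.assoc, hcomp]) trivial
      map_id := fun j => MorphismProperty.Over.Hom.ext (by
        show Spec.map (E.map (𝟙 j.unop)).right = 𝟙 _
        rw [E.map_id, Under.id_right, Spec.map_id])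
      map_comp := fun {j k l} a b => MorphismProperty.Over.Hom.ext (by
        show Spec.map (E.map (b.unop ≫ a.unop)).right = Spec.map (E.map a.unop).right ≫ Spec.map (E.map b.unop).right
        rw [E.map_comp, Under.comp_right, Spec.map_comp]) }
  let c₁ : Cocone E := cE.extend e.hom
  have hc₁ : IsColimit c₁ := hcE.extendIso e.hom
  haveI : PreservesColimit E (Under.forget (CommRingCat.of ↥Γ(U.left, ⊤))) := inferInstance
  have hc₂ := isColimitOfPreserves (Under.forget (CommRingCat.of ↥Γ(U.left, ⊤))) hc₁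
  have hc₃ := isLimitOfPreserves Scheme.Spec hc₂.op
  have hleg : ∀ j : Jᵒᵖ, Spec.map (c₁.ι.app j.unop).right ≫ toU j = g₀ ≫ und p := fun j => by
    show _ ≫ _ ≫ _ = _
    rw [← Category.assoc, ← Spec.map_comp, Under.w (c₁.ι.app j.unop)]
    have e2 : CommRingCat.ofHom (algebraMap ↥Γ(U.left, ⊤) D₂) = ρ ≫ φ := by
      ext a
      show algebraMap D₁ D₂ (algebraMap ↥Γ(U.left, ⊤) D₁ a) = algebraMap D₁ D₂ (algebraMap ↥Γ(W.left, ⊤) D₁ (ρ.hom a))
      exact congrArg (algebraMap D₁ D₂) (IsScalarTower.algebraMap_apply ↥Γ(U.left, ⊤) ↥Γ(W.left, ⊤) D₁ a)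
    show Spec.map (CommRingCat.ofHom (algebraMap ↥Γ(U.left, ⊤) D₂)) ≫ U.left.isoSpec.inv = _
    rw [e2, Spec.map_comp, Category.assoc, Category.assoc]
    congr 1
    exact Scheme.isoSpec_inv_naturality (und p)
  refine ⟨{ I := Jᵒᵖ
            D := D'
            affine := fun j => inferInstanceAs (IsAffine (Spec _))
            π := { app := fun j => MorphismProperty.Over.homMk (Spec.map (c₁.ι.app j.unop).right) (by
                      show _ ≫ toU j ≫ U.hom = g₀ ≫ W.hom
                      rw [← Category.assoc, hleg, Category.assoc]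
                      exact congrArg (g₀ ≫ ·) (und_w p))
                   naturality := fun j k a => hom_ext_und (by
                      show 𝟙 _ ≫ Spec.map (c₁.ι.app k.unop).right = Spec.map (c₁.ι.app j.unop).right ≫ Spec.map (E.map a.unop).right
                      rw [Category.id_comp, ← Spec.map_comp, ← Under.comp_right, c₁.w a.unop]) }
            isLimit := IsLimit.ofIsoLimit hc₃ (Cone.ext (Iso.refl _) fun j => (Category.id_comp _).symm) }⟩

/-- An affine weakly contractible approximated cover. -/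
theorem exists_approx_cover {W : X.ProEt} (Φ : Approx W) :
    ∃ (W' : X.ProEt) (π : W' ⟶ W),
      Sieve.ofArrows (fun _ : PUnit.{u + 1} => W') (fun _ => π) ∈ Scheme.ProEt.topology X W ∧
      ProEtS.IsWC W' ∧ IsApprox W' := by
  obtain ⟨i₀⟩ := IsCofiltered.nonempty (C := Φ.I)
  haveI := Φ.isAffine
  haveI : IsAffine (Φ.D.obj i₀).left := Φ.affine i₀
  exact exists_approx_cover_of_map (Φ.D.obj i₀) (Φ.π.app i₀)

end Groth.Agent.EpsLib
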