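import Groth.Agent.WCSiteLib.EpsUnit
import Mathlib.AlgebraicGeometry.AffineTransitionLimit

/-! Fibre products in the small pro-étale site and base change of cofiltered systems. -/

set_option autoImplicit false
set_option linter.style.haveILetI false
set_option backward.isDefEq.respectTransparency false
universe u

open CategoryTheory CategoryTheory.Limits AlgebraicGeometry Opposite

namespace Groth.Agent.EpsLib

open ProEtPtsLib WCSiteLib

variable {X : Scheme.{u}}

/-- The fibre product of two objects over a third. -/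
noncomputable def fibObj {A B C : X.ProEt} (p : A ⟶ C) (q : B ⟶ C) : X.ProEt :=
  haveI := weaklyEtale_und q
  haveI : WeaklyEtale A.hom := A.prop
  Scheme.ProEt.mk (pullback.fst (und p) (und q) ≫ A.hom)

/-- The first projection. -/
noncomputable def fibFst {A B C : X.ProEt} (p : A ⟶ C) (q : B ⟶ C) : fibObj p q ⟶ A :=
  MorphismProperty.Over.homMk (pullback.fst (und p) (und q)) rfl

theorem und_w {A C : X.ProEt} (p : A ⟶ C) : und p ≫ C.hom = A.hom :=
  Over.w ((Scheme.ProEt.forget X).map p)

/-- The second projection. -/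
noncomputable def fibSnd {A B C : X.ProEt} (p : A ⟶ C) (q : B ⟶ C) : fibObj p q ⟶ B :=
  MorphismProperty.Over.homMk (pullback.snd (und p) (und q)) (by
    show pullback.snd (und p) (und q) ≫ B.hom = pullback.fst (und p) (und q) ≫ A.hom
    rw [← und_w q, ← und_w p, pullback.condition_assoc])

@[reassoc]
theorem fib_condition {A B C : X.ProEt} (p : A ⟶ C) (q : B ⟶ C) : fibFst p q ≫ p = fibSnd p q ≫ q :=
  hom_ext_und pullback.condition

/-- Lift to the fibre product. -/
noncomputable def fibLift {A B C T : X.ProEt} (p : A ⟶ C) (q : B ⟶ C) (a : T ⟶ A) (b : T ⟶ B) (h : a ≫ p = b ≫ q) :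
    T ⟶ fibObj p q :=
  MorphismProperty.Over.homMk (pullback.lift (und a) (und b) (congrArg (fun m => und m) h)) (by
    show pullback.lift _ _ _ ≫ pullback.fst (und p) (und q) ≫ A.hom = T.hom
    rw [pullback.lift_fst_assoc]
    exact und_w a)

@[reassoc]
theorem fibLift_fst {A B C T : X.ProEt} (p : A ⟶ C) (q : B ⟶ C) (a : T ⟶ A) (b : T ⟶ B) (h : a ≫ p = b ≫ q) :
    fibLift p q a b h ≫ fibFst p q = a :=
  hom_ext_und (pullback.lift_fst _ _ _)

@[reassoc]
theorem fibLift_snd {A B C T : X.ProEt} (p : A ⟶ C) (q : B ⟶ C) (a : T ⟶ A) (b : T ⟶ B) (h : a ≫ p = b ≫ q) :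
    fibLift p q a b h ≫ fibSnd p q = b :=
  hom_ext_und (pullback.lift_snd _ _ _)

theorem fib_ext {A B C T : X.ProEt} {p : A ⟶ C} {q : B ⟶ C} {a b : T ⟶ fibObj p q}
    (h₁ : a ≫ fibFst p q = b ≫ fibFst p q) (h₂ : a ≫ fibSnd p q = b ≫ fibSnd p q) : a = b :=
  hom_ext_und (pullback.hom_ext (congrArg (fun m => und m) h₁) (congrArg (fun m => und m) h₂))

theorem fib_isPullback {A B C : X.ProEt} (p : A ⟶ C) (q : B ⟶ C) :
    IsPullback (und (fibFst p q)) (und (fibSnd p q)) (und p) (und q) :=
  IsPullback.of_hasPullback _ _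

theorem fib_isPullback_hom {A B C : X.ProEt} (p : A ⟶ C) (q : B ⟶ C) :
    IsPullback (fibFst p q) (fibSnd p q) p q :=
  ⟨⟨fib_condition p q⟩, ⟨PullbackCone.IsLimit.mk _ (fun s => fibLift p q s.fst s.snd s.condition)
    (fun _ => fibLift_fst _ _ _ _ _) (fun _ => fibLift_snd _ _ _ _ _)
    fun s m h₁ h₂ => fib_ext (h₁.trans (fibLift_fst _ _ _ _ _).symm) (h₂.trans (fibLift_snd _ _ _ _ _).symm)⟩⟩

/-- An object qcqs. -/
structure IsQcqs (A : X.ProEt) : Prop where
  compact : CompactSpace ↥A.left
  qs : QuasiSeparatedSpace ↥A.left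

theorem isQcqs_of_isAffineHom {A B : X.ProEt} (f : A ⟶ B) [IsAffineHom (und f)] (hB : IsQcqs B) : IsQcqs A := by
  haveI := hB.compact
  haveI := hB.qs
  exact ⟨QuasiCompact.compactSpace_of_compactSpace (und f), quasiSeparatedSpace_of_quasiSeparated (und f)⟩

theorem isQcqs_of_isAffine (A : X.ProEt) [IsAffine A.left] : IsQcqs A :=
  ⟨inferInstance, inferInstance⟩

variable {I : Type u} [SmallCategory I]

/-- Base change of a system along `p : A ⟶ D i₀`. -/
noncomputable def bcSys (D : I ⥤ X.ProEt) {i₀ : I} {A : X.ProEt} (p : A ⟶ D.obj i₀) : Over i₀ ⥤ X.ProEt where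
  obj j := fibObj p (D.map j.hom)
  map {j k} a := fibLift _ _ (fibFst _ _) (fibSnd p (D.map j.hom) ≫ D.map a.left) (by
    rw [fib_condition, Category.assoc, ← D.map_comp, Over.w a])
  map_id j := by
    apply fib_ext
    · simp [fibLift_fst]
    · simp [fibLift_snd]
  map_comp a b := by
    apply fib_ext
    · simp [fibLift_fst]
    · simp [fibLift_snd, fibLift_snd_assoc]

variable {D : I ⥤ X.ProEt} (c : Cone D) {i₀ : I} {A : X.ProEt} (p : A ⟶ D.obj i₀)

/-- The base-changed cone. -/
noncomputable def bcCone : Cone (bcSys D p) where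
  pt := fibObj p (c.π.app i₀)
  π :=
    { app := fun j => fibLift _ _ (fibFst _ _) (fibSnd p (c.π.app i₀) ≫ c.π.app j.left) (by
        rw [fib_condition, Category.assoc, c.w])
      naturality := fun j k a => by
        simp only [Functor.const_obj_obj, Functor.const_obj_map, Category.id_comp, bcSys]
        apply fib_ext
        · simp [fibLift_fst]
        · simp [fibLift_snd, fibLift_snd_assoc, c.w] }

@[reassoc]
theorem bcCone_fst (j : Over i₀) : (bcCone c p).π.app j ≫ fibFst p (D.map j.hom) = fibFst p (c.π.app i₀) := by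
  simp [bcCone, fibLift_fst]

@[reassoc]
theorem bcCone_snd (j : Over i₀) :
    (bcCone c p).π.app j ≫ fibSnd p (D.map j.hom) = fibSnd p (c.π.app i₀) ≫ c.π.app j.left := by
  simp [bcCone, fibLift_snd]

/-- The underlying diagram of schemes. -/
noncomputable abbrev undF (X : Scheme.{u}) : X.ProEt ⥤ Scheme.{u} := Scheme.ProEt.forget X ⋙ Over.forget X

theorem bc_app_isPullback (j : Over i₀) :
    IsPullback (und ((bcCone c p).π.app j)) (und (fibSnd p (c.π.app i₀))) (und (fibSnd p (D.map j.hom)))
      (und (c.π.app j.left)) := by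
  refine IsPullback.of_right (h₁₂ := und (fibFst p (D.map j.hom))) (h₂₂ := und (D.map j.hom)) (v₁₃ := und p) ?_
    (congrArg (fun m => und m) (bcCone_snd c p j)) (fib_isPullback p (D.map j.hom))
  have e1 : und ((bcCone c p).π.app j) ≫ und (fibFst p (D.map j.hom)) = und (fibFst p (c.π.app i₀)) :=
    congrArg (fun m => und m) (bcCone_fst c p j)
  have e2 : und (c.π.app j.left) ≫ und (D.map j.hom) = und (c.π.app i₀) := congrArg (fun m => und m) (c.w j.hom)
  rw [e1, e2]
  exact fib_isPullback p (c.π.app i₀)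

attribute [local instance] CategoryTheory.isConnected_of_hasTerminal

/-- The base change of a limit cone is a limit cone. -/
noncomputable def isLimitBcCone [IsCofiltered I] (hc : IsLimit ((undF X).mapCone c)) :
    IsLimit ((undF X).mapCone (bcCone c p)) :=
  isLimitOfIsPullbackOfIsConnected
    ({ app := fun j => und (fibSnd p (D.map j.hom))
       naturality := fun j k a => by
         refine congrArg (fun m => und m) (?_ : (bcSys D p).map a ≫ fibSnd p (D.map k.hom) = fibSnd p (D.map j.hom) ≫ D.map a.left)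
         simp [bcSys, fibLift_snd] } : bcSys D p ⋙ undF X ⟶ Over.forget i₀ ⋙ D ⋙ undF X)
    _ _
    ({ hom := und (fibSnd p (c.π.app i₀))
       w := fun j => (bc_app_isPullback c p j).w.symm } : _ ⟶ ((undF X).mapCone c).whisker (Over.forget i₀))
    (fun j => by exact bc_app_isPullback c p j)
    ((Functor.Initial.isLimitWhiskerEquiv (Over.forget i₀) ((undF X).mapCone c)).symm hc)

theorem isAffineHom_bcSys [∀ (i j : I) (a : i ⟶ j), IsAffineHom (und (D.map a))] {j k : Over i₀} (a : j ⟶ k) :
    IsAffineHom (und ((bcSys D p).map a)) := by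
  refine MorphismProperty.of_isPullback (P := @IsAffineHom) (f' := und (fibSnd p (D.map j.hom)))
    (g := und (D.map a.left)) (f := und (fibSnd p (D.map k.hom))) ?_ inferInstance
  refine (IsPullback.of_right (h₁₂ := und (fibFst p (D.map k.hom))) (h₂₂ := und (D.map k.hom)) (v₁₃ := und p) ?_
    (congrArg (fun m => und m) (show (bcSys D p).map a ≫ fibSnd p (D.map k.hom) = fibSnd p (D.map j.hom) ≫ D.map a.left by
      simp [bcSys, fibLift_snd])) (fib_isPullback p (D.map k.hom))).flip
  have e1 : und ((bcSys D p).map a) ≫ und (fibFst p (D.map k.hom)) = und (fibFst p (D.map j.hom)) :=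
    congrArg (fun m => und m) (show (bcSys D p).map a ≫ fibFst p (D.map k.hom) = fibFst p (D.map j.hom) by
      simp [bcSys, fibLift_fst])
  have e2 : und (D.map a.left) ≫ und (D.map k.hom) = und (D.map j.hom) :=
    congrArg (fun m => und m) (show D.map a.left ≫ D.map k.hom = D.map j.hom by rw [← D.map_comp, Over.w a])
  show IsPullback (und ((bcSys D p).map a) ≫ und (fibFst p (D.map k.hom))) (und (fibSnd p (D.map j.hom))) (und p)
    (und (D.map a.left) ≫ und (D.map k.hom))
  rw [e1, e2]
  exact fib_isPullback p (D.map j.hom)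

theorem isAffineHom_fibFst {A B C : X.ProEt} (p : A ⟶ C) (q : B ⟶ C) [IsAffineHom (und q)] :
    IsAffineHom (und (fibFst p q)) :=
  MorphismProperty.of_isPullback (P := @IsAffineHom) (fib_isPullback p q).flip inferInstance

theorem isQcqs_bcSys [∀ (i j : I) (a : i ⟶ j), IsAffineHom (und (D.map a))] (hA : IsQcqs A) (j : Over i₀) :
    IsQcqs ((bcSys D p).obj j) :=
  haveI := isAffineHom_fibFst p (D.map j.hom)
  isQcqs_of_isAffineHom (fibFst p (D.map j.hom)) hA

end Groth.Agent.EpsLib
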