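import Groth.Agent.EpsLib.Acyclic
import Groth.Agent.CohLib.ExtShift
import Groth.Agent.RDerLib.LeftExact

/-! Higher cohomology of `ε⁻¹` of injectives and higher direct images along `ε`. -/

set_option autoImplicit false
set_option linter.style.haveILetI false
set_option backward.isDefEq.respectTransparency false
set_option synthInstance.maxHeartbeats 400000
universe u

open CategoryTheory CategoryTheory.Limits AlgebraicGeometry Opposite CategoryTheory.Abelian

namespace Groth.Agent.EpsLib

open ProEtPtsLib WCSiteLib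

variable {X : Scheme.{u}} [ProEtS.EpsCont X]

omit [ProEtS.EpsCont X] in
theorem lan_map_el (P Q : X.Etaleᵒᵖ ⥤ AddCommGrpCat.{u + 1}) (φ : P ⟶ Q) (W : X.ProEt) (V : X.Etale)
    (a : W ⟶ (ProEtS.eps X).obj V) (s : P.obj (op V)) :
    ((ProEtS.eps X).op.lan.map φ).app (op W) (lanElE P W V a s) = lanElE Q W V a (φ.app (op V) s) := by
  refine (NatTrans.naturality_apply ((ProEtS.eps X).op.lan.map φ) a.op _).trans ?_
  refine congrArg (((ProEtS.eps X).op.lan.obj Q).map a.op) ?_
  exact (congrArg (fun m : P ⟶ _ => m.app (op V) s) ((ProEtS.eps X).op.lanUnit.naturality φ)).symm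

omit [ProEtS.EpsCont X] in
theorem mono_lan_map (P Q : X.Etaleᵒᵖ ⥤ AddCommGrpCat.{u + 1}) (φ : P ⟶ Q) [Mono φ] :
    Mono ((ProEtS.eps X).op.lan.map φ) := by
  haveI hφ : ∀ V, Mono (φ.app V) := (NatTrans.mono_iff_mono_app φ).1 inferInstance
  refine (NatTrans.mono_iff_mono_app _).2 fun W => (AddCommGrpCat.mono_iff_injective _).2 ((injective_iff_map_eq_zero _).2 fun x hx => ?_)
  obtain ⟨V, a, s, rfl⟩ := lanElE_jointly_surjective P W.unop x
  obtain ⟨V', a', p, rfl, hps⟩ := lanElE_eq_zero Q W.unop a (φ.app (op V) s) ((lan_map_el P Q φ W.unop V a s).symm.trans hx)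
  rw [← NatTrans.naturality_apply] at hps
  rw [← lanElE_comp, (injective_iff_map_eq_zero _).1 ((AddCommGrpCat.mono_iff_injective _).1 (hφ (op V'))) _ hps]
  exact lanElE_zero P W.unop V' a'

theorem epsPull_preservesMono : (ProEtS.epsPull X).PreservesMonomorphisms := by
  haveI : (Functor.sheafPullbackConstruction.sheafPullback (ProEtS.eps X) AddCommGrpCat.{u + 1}
      X.smallEtaleTopology (Scheme.ProEt.topology X)).PreservesMonomorphisms := ⟨fun {A B} f _ => by
    haveI : Mono ((sheafToPresheaf X.smallEtaleTopology AddCommGrpCat.{u + 1}).map f) := inferInstance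
    haveI := mono_lan_map _ _ ((sheafToPresheaf X.smallEtaleTopology AddCommGrpCat.{u + 1}).map f)
    exact (presheafToSheaf (Scheme.ProEt.topology X) AddCommGrpCat.{u + 1}).map_mono
      ((ProEtS.eps X).op.lan.map ((sheafToPresheaf X.smallEtaleTopology AddCommGrpCat.{u + 1}).map f))⟩
  exact Functor.preservesMonomorphisms.of_iso (((ProEtS.epsAdj X).leftAdjointUniq
    (Functor.sheafPullbackConstruction.sheafAdjunctionContinuous (ProEtS.eps X) AddCommGrpCat.{u + 1}
      X.smallEtaleTopology (Scheme.ProEt.topology X))).symm)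

theorem epsPull_additive : (ProEtS.epsPull X).Additive := (ProEtS.epsAdj X).left_adjoint_additive

theorem epsPull_shortExact {S : ShortComplex (EtCoh.Ab X)} (hS : S.ShortExact) :
    haveI := epsPull_additive (X := X)
    (S.map (ProEtS.epsPull X)).ShortExact := by
  haveI := epsPull_additive (X := X)
  haveI := epsPull_preservesMono (X := X)
  haveI := (ProEtS.epsAdj X).leftAdjoint_preservesColimits
  haveI : PreservesFiniteColimits (ProEtS.epsPull X) := inferInstance
  haveI := hS.mono_f
  haveI := hS.epi_g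
  haveI : Mono (S.map (ProEtS.epsPull X)).f := (ProEtS.epsPull X).map_mono S.f
  haveI : Epi (S.map (ProEtS.epsPull X)).g := (ProEtS.epsPull X).map_epi S.g
  exact { exact := hS.exact.map_of_epi_of_preservesCokernel (ProEtS.epsPull X) hS.epi_g inferInstance }

theorem injective_epsPush (I : ProEtS.AbP X) [Injective I] : Injective ((ProEtS.epsPush X).obj I) := by
  haveI := epsPull_preservesMono (X := X)
  exact Injective.injective_of_adjoint (ProEtS.epsAdj X) I

theorem preservesFiniteLimits_epsPush : PreservesFiniteLimits (ProEtS.epsPush X) := by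
  haveI := (ProEtS.epsAdj X).rightAdjoint_preservesLimits
  infer_instance

theorem epi_epsPush_map {S : ShortComplex (ProEtS.AbP X)} (hS : S.ShortExact) (h : CechAcyclic (datum X) S.X₁) :
    Epi ((ProEtS.epsPush X).map S.g) := by
  refine (Sheaf.isLocallySurjective_iff_epi' (J := X.smallEtaleTopology) (A := AddCommGrpCat.{u + 1}) _).1 ⟨fun {U} s => ?_⟩
  have H : ∀ x : ↥U.left, ∃ A : U.left.Opens, IsAffineOpen A ∧ x ∈ A := fun x => by
    obtain ⟨A, hA, hx, -⟩ := exists_isAffineOpen_mem_and_subset (x := x) (U := ⊤) trivial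
    exact ⟨A, hA, hx⟩
  choose A hA hxA using H
  refine GrothendieckTopology.superset_covering _ ?_
    ((Scheme.ofArrows_mem_smallEtaleTopology_iff (fun x => etι U (A x))).2
      (Set.eq_univ_of_forall fun x => Set.mem_iUnion.2 ⟨x, ⟨x, hxA x⟩, rfl⟩))
  rw [Sieve.generate_le_iff]
  rintro _ _ ⟨x⟩
  haveI : IsAffine (etObj U (A x)).left := hA x
  exact surjective_of_cechAcyclic (datum X) hS h (isApprox_eps (etObj U (A x))) _

theorem isZero_RepsPush_of_cechAcyclic : ∀ (q : ℕ) (G : ProEtS.AbP X), CechAcyclic (datum X) G →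
    IsZero ((ProEtS.RepsPush X (q + 1)).obj G) := by
  haveI := preservesFiniteLimits_epsPush (X := X)
  intro q
  induction q with
  | zero =>
    intro G hG
    refine RDerLib.isZero_X₁_succ (F := ProEtS.epsPush X) (CohLib.injSC_shortExact G) 0
      ((ProEtS.epsPush X).isZero_rightDerived_obj_injective_succ 0 (Injective.under G)) ?_
    exact (RDerLib.epi_map_g_iff _).2 (epi_epsPush_map (CohLib.injSC_shortExact G) hG)
  | succ q ih =>
    intro G hG
    haveI : Injective (CohLib.injSC G).X₂ := inferInstanceAs (Injective (Injective.under G))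
    refine RDerLib.isZero_X₁_succ (F := ProEtS.epsPush X) (CohLib.injSC_shortExact G) (q + 1)
      ((ProEtS.epsPush X).isZero_rightDerived_obj_injective_succ (q + 1) (Injective.under G)) ?_
    exact ⟨fun a b _ => (ih _ (cechAcyclic_quotient (datum X) (CohLib.injSC_shortExact G) hG)).eq_of_src a b⟩

theorem isZero_RepsPush_epsPull : ∀ (q : ℕ) (F : EtCoh.Ab X),
    IsZero ((ProEtS.RepsPush X (q + 1)).obj ((ProEtS.epsPull X).obj F)) := by
  haveI := preservesFiniteLimits_epsPush (X := X)
  haveI := epsPull_additive (X := X)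
  intro q
  induction q with
  | zero =>
    intro F
    refine RDerLib.isZero_X₁_succ (F := ProEtS.epsPush X) (S := (CohLib.injSC F).map (ProEtS.epsPull X)) (epsPull_shortExact (CohLib.injSC_shortExact F)) 0
      (isZero_RepsPush_of_cechAcyclic 0 _ (cechAcyclic_epsPull_injective (Injective.under F))) ?_
    refine (RDerLib.epi_map_g_iff _).2 ?_
    haveI := isIso_unit X (CohLib.injSC F).X₃
    haveI : Epi (CohLib.injSC F).g := (CohLib.injSC_shortExact F).epi_g
    have e := (ProEtS.epsAdj X).unit.naturality (CohLib.injSC F).g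
    simp only [Functor.id_map, Functor.comp_map] at e
    haveI : Epi ((ProEtS.epsAdj X).unit.app (CohLib.injSC F).X₂ ≫
        (ProEtS.epsPush X).map ((CohLib.injSC F).map (ProEtS.epsPull X)).g) := by
      show Epi (_ ≫ (ProEtS.epsPush X).map ((ProEtS.epsPull X).map (CohLib.injSC F).g))
      rw [← e]; infer_instance
    exact epi_of_epi ((ProEtS.epsAdj X).unit.app (CohLib.injSC F).X₂) _
  | succ q ih =>
    intro F
    refine RDerLib.isZero_X₁_succ (F := ProEtS.epsPush X) (S := (CohLib.injSC F).map (ProEtS.epsPull X)) (epsPull_shortExact (CohLib.injSC_shortExact F)) (q + 1)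
      (isZero_RepsPush_of_cechAcyclic (q + 1) _ (cechAcyclic_epsPull_injective (Injective.under F))) ?_
    exact ⟨fun a b _ => (ih _).eq_of_src a b⟩

omit [ProEtS.EpsCont X] in
/-- The terminal object. -/
noncomputable def isTerminalTop : IsTerminal (ProEtS.topP X) :=
  MorphismProperty.Over.mkIdTerminal (P := @WeaklyEtale) X

theorem subsingleton_HP_of_cechAcyclic : ∀ (p : ℕ) (G : ProEtS.AbP X), CechAcyclic (datum X) G →
    Injective ((ProEtS.epsPush X).obj G) → Subsingleton (ProEtS.HP X G (p + 1)) := by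
  haveI := preservesFiniteLimits_epsPush (X := X)
  have key : ∀ (G : ProEtS.AbP X), CechAcyclic (datum X) G → Injective ((ProEtS.epsPush X).obj G) →
      Injective ((ProEtS.epsPush X).obj (CohLib.injSC G).X₃) ∧
        Function.Surjective ((CohLib.injSC G).g.hom.app (op (ProEtS.topP X))) := by
    intro G hG hinj
    have hS := RDerLib.map_shortExact (CohLib.injSC_shortExact G) (epi_epsPush_map (CohLib.injSC_shortExact G) hG)
    haveI : Injective ((CohLib.injSC G).map (ProEtS.epsPush X)).X₁ := hinj
    let σ := hS.splittingOfInjective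
    haveI : Injective ((ProEtS.epsPush X).obj (CohLib.injSC G).X₂) := by
      haveI : Injective (CohLib.injSC G).X₂ := inferInstanceAs (Injective (Injective.under G))
      exact injective_epsPush _
    haveI : Injective ((CohLib.injSC G).map (ProEtS.epsPush X)).X₂ := ‹Injective ((ProEtS.epsPush X).obj (CohLib.injSC G).X₂)›
    refine ⟨Retract.injective { i := σ.s, r := ((CohLib.injSC G).map (ProEtS.epsPush X)).g, retract := σ.s_g } , fun x => ?_⟩
    refine ⟨σ.s.hom.app (op (EtCoh.top X)) x, ?_⟩
    exact congrArg (fun m : (ProEtS.epsPush X).obj (CohLib.injSC G).X₃ ⟶ _ => m.hom.app (op (EtCoh.top X)) x) σ.s_g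
  intro p
  induction p with
  | zero =>
    intro G hG hinj
    haveI : Injective (CohLib.injSC G).X₂ := inferInstanceAs (Injective (Injective.under G))
    haveI := CohLib.subsingleton_ext_injective.{u + 1} ((constantSheaf (Scheme.ProEt.topology X) AddCommGrpCat.{u + 1}).obj
      (AddCommGrpCat.of (ULift.{u + 1} ℤ))) (CohLib.injSC G).X₂ 0
    refine CohLib.subsingleton_ext_one_of_lift (CohLib.injSC_shortExact G) fun s => ?_
    obtain ⟨t, ht⟩ := (key G hG hinj).2 (Sheaf.H.equiv₀ (CohLib.injSC G).X₃ isTerminalTop (Ext.mk₀ s))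
    refine ⟨Ext.addEquiv₀ ((Sheaf.H.equiv₀ (CohLib.injSC G).X₂ isTerminalTop).symm t), ?_⟩
    rw [← Sheaf.H.addEquiv₀_map, Sheaf.H.equiv₀_symm_naturality, ht, AddEquiv.symm_apply_apply]
    exact Ext.addEquiv₀.symm.injective (by simp)
  | succ p ih =>
    intro G hG hinj
    haveI : Injective (CohLib.injSC G).X₂ := inferInstanceAs (Injective (Injective.under G))
    haveI := CohLib.subsingleton_ext_injective.{u + 1} ((constantSheaf (Scheme.ProEt.topology X) AddCommGrpCat.{u + 1}).obj
      (AddCommGrpCat.of (ULift.{u + 1} ℤ))) (CohLib.injSC G).X₂ (p + 1)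
    haveI := ih _ (cechAcyclic_quotient (datum X) (CohLib.injSC_shortExact G) hG) (key G hG hinj).1
    exact CohLib.subsingleton_ext_of_shift (CohLib.injSC_shortExact G)

theorem subsingleton_HP_epsPull_injective (I : EtCoh.Ab X) [Injective I] (p : ℕ) :
    Subsingleton (ProEtS.HP X ((ProEtS.epsPull X).obj I) (p + 1)) := by
  refine subsingleton_HP_of_cechAcyclic p _ (cechAcyclic_epsPull_injective I) ?_
  haveI := isIso_unit X I
  exact Injective.of_iso (asIso ((ProEtS.epsAdj X).unit.app I)) ‹Injective I›

end Groth.Agent.EpsLib
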