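import Groth.Agent.EpsLib.Cohomology

/-! Étale and pro-étale cohomology agree. -/

set_option autoImplicit false
set_option linter.style.haveILetI false
set_option backward.isDefEq.respectTransparency false
set_option synthInstance.maxHeartbeats 400000
universe w v u

open CategoryTheory CategoryTheory.Limits AlgebraicGeometry Opposite CategoryTheory.Abelian

namespace Groth.Agent.EpsLib

open WCSiteLib

section

variable {A : Type*} [Category.{v} A] [Abelian A] [HasExt.{w} A] {S : ShortComplex A} (hS : S.ShortExact) (Z : A)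

/-- The connecting map. -/
noncomputable def connecting (n : ℕ) : Ext.{w} Z S.X₃ n →+ Ext.{w} Z S.X₁ (n + 1) :=
  hS.extClass.postcomp Z rfl

theorem connecting_surjective (n : ℕ) [Subsingleton (Ext.{w} Z S.X₂ (n + 1))] :
    Function.Surjective (connecting hS Z n) := fun x => by
  obtain ⟨y, hy⟩ := Ext.covariant_sequence_exact₁ Z hS x (Subsingleton.elim _ _) (n₀ := n) rfl
  exact ⟨y, hy⟩

theorem connecting_eq_zero_iff (n : ℕ) (x : Ext.{w} Z S.X₃ n) :
    connecting hS Z n x = 0 ↔ ∃ y : Ext.{w} Z S.X₂ n, y.comp (Ext.mk₀ S.g) (add_zero n) = x := by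
  refine ⟨fun h => Ext.covariant_sequence_exact₃ Z hS x (n₁ := n + 1) rfl h, ?_⟩
  rintro ⟨y, rfl⟩
  show (y.comp (Ext.mk₀ S.g) (add_zero n)).comp hS.extClass rfl = 0
  rw [Ext.comp_assoc_of_second_deg_zero, ShortComplex.ShortExact.comp_extClass, Ext.comp_zero]

end

theorem nonempty_addEquiv_of_surjections {B B' C C' : Type*} [AddCommGroup B] [AddCommGroup B'] [AddCommGroup C]
    [AddCommGroup C'] (e : B ≃+ B') (f : B →+ C) (f' : B' →+ C') (hf : Function.Surjective f) (hf' : Function.Surjective f')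
    (h : ∀ b, f b = 0 ↔ f' (e b) = 0) : Nonempty (C ≃+ C') := by
  have hk : f.ker = (f'.comp e.toAddMonoidHom).ker := by ext b; exact h b
  exact ⟨((QuotientAddGroup.quotientKerEquivOfSurjective f hf).symm.trans (QuotientAddGroup.quotientAddEquivOfEq hk)).trans
    (QuotientAddGroup.quotientKerEquivOfSurjective _ (hf'.comp e.surjective))⟩

variable {X : Scheme.{u}} [ProEtS.EpsCont X]

theorem nonempty_H_equiv_HP : ∀ (i : ℕ) (F : EtCoh.Ab X),
    Nonempty (EtCoh.H X F i ≃+ ProEtS.HP X ((ProEtS.epsPull X).obj F) i) := by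
  haveI := epsPull_additive (X := X)
  let hE : IsTerminal (EtCoh.top X) := MorphismProperty.Over.mkIdTerminal (P := EtCoh.etaleMP.{u}) X
  let e₀ : ∀ F : EtCoh.Ab X, EtCoh.H X F 0 ≃+ ProEtS.HP X ((ProEtS.epsPull X).obj F) 0 := fun F =>
    haveI := isIso_unit X F
    (Sheaf.H.equiv₀ F hE).trans ((((sheafToPresheaf _ _).mapIso (asIso ((ProEtS.epsAdj X).unit.app F))).app
      (op (EtCoh.top X))).addCommGroupIsoToAddEquiv.trans (Sheaf.H.equiv₀ ((ProEtS.epsPull X).obj F) isTerminalTop).symm)
  have e₀_nat : ∀ {F F' : EtCoh.Ab X} (g : F ⟶ F') (x : EtCoh.H X F 0),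
      e₀ F' (Sheaf.H.map g 0 x) = Sheaf.H.map ((ProEtS.epsPull X).map g) 0 (e₀ F x) := fun {F F'} g x => by
    show (Sheaf.H.equiv₀ _ isTerminalTop).symm _ = Sheaf.H.map _ 0 ((Sheaf.H.equiv₀ _ isTerminalTop).symm _)
    rw [Sheaf.H.equiv₀_symm_naturality]
    refine congrArg _ ?_
    show ((ProEtS.epsAdj X).unit.app F').hom.app (op (EtCoh.top X)) (Sheaf.H.equiv₀ F' hE (Sheaf.H.map g 0 x)) = _
    rw [← Sheaf.H.equiv₀_naturality]
    exact congrArg (fun m : F ⟶ _ => m.hom.app (op (EtCoh.top X)) (Sheaf.H.equiv₀ F hE x)) ((ProEtS.epsAdj X).unit.naturality g)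
  intro i
  induction i with
  | zero => exact fun F => ⟨e₀ F⟩
  | succ i ih =>
    intro F
    let S := CohLib.injSC F
    have hS : S.ShortExact := CohLib.injSC_shortExact F
    let P := S.map (ProEtS.epsPull X)
    have hP : P.ShortExact := epsPull_shortExact hS
    let ZE := (constantSheaf X.smallEtaleTopology AddCommGrpCat.{u + 1}).obj (AddCommGrpCat.of (ULift.{u + 1} ℤ))
    let ZP := (constantSheaf (Scheme.ProEt.topology X) AddCommGrpCat.{u + 1}).obj (AddCommGrpCat.of (ULift.{u + 1} ℤ))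
    haveI : Injective S.X₂ := inferInstanceAs (Injective (Injective.under F))
    haveI : ∀ n, Subsingleton (Ext.{u + 1} ZE S.X₂ (n + 1)) := fun n => CohLib.subsingleton_ext_injective.{u + 1} ZE S.X₂ n
    haveI : ∀ n, Subsingleton (Ext.{u + 1} ZP P.X₂ (n + 1)) := fun n =>
      subsingleton_HP_epsPull_injective (Injective.under F) n
    cases i with
    | zero =>
      refine nonempty_addEquiv_of_surjections (B := EtCoh.H X S.X₃ 0) (B' := ProEtS.HP X P.X₃ 0) (e₀ S.X₃)
        (connecting hS ZE 0) (connecting hP ZP 0) (connecting_surjective hS ZE 0) (connecting_surjective hP ZP 0) fun b => ?_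
      refine (connecting_eq_zero_iff hS ZE _ b).trans (Iff.trans ?_ (connecting_eq_zero_iff hP ZP _ _).symm)
      constructor
      · rintro ⟨y, rfl⟩
        exact ⟨e₀ S.X₂ y, (e₀_nat S.g y).symm⟩
      · rintro ⟨y, hy⟩
        refine ⟨(e₀ S.X₂).symm y, (e₀ S.X₃).injective ?_⟩
        refine (e₀_nat S.g _).trans ?_
        rw [AddEquiv.apply_symm_apply]
        exact hy
    | succ j =>
      obtain ⟨e⟩ := ih S.X₃
      refine nonempty_addEquiv_of_surjections (B := EtCoh.H X S.X₃ (j + 1)) (B' := ProEtS.HP X P.X₃ (j + 1)) e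
        (connecting hS ZE (j + 1)) (connecting hP ZP (j + 1)) (connecting_surjective hS ZE (j + 1))
        (connecting_surjective hP ZP (j + 1)) fun b => ?_
      refine (connecting_eq_zero_iff hS ZE _ b).trans (Iff.trans ?_ (connecting_eq_zero_iff hP ZP _ _).symm)
      constructor
      · rintro ⟨y, rfl⟩
        exact ⟨0, by rw [Subsingleton.elim y 0, Ext.zero_comp, Ext.zero_comp]; exact (map_zero e).symm⟩
      · rintro ⟨y, hy⟩
        refine ⟨0, e.injective ?_⟩
        rw [Ext.zero_comp, map_zero]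
        refine Eq.trans ?_ hy
        rw [Subsingleton.elim y 0, Ext.zero_comp]

end Groth.Agent.EpsLib
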