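import Mathlib.CategoryTheory.Sites.Over
import Mathlib.CategoryTheory.Sites.ConstantSheaf
import Mathlib.CategoryTheory.Sites.LocallyBijective
import Mathlib.Algebra.Category.ModuleCat.Limits
import Mathlib.Algebra.Category.ModuleCat.Colimits
import Mathlib.CategoryTheory.Sites.LeftExact
import Mathlib.CategoryTheory.Sites.CompatibleSheafification

/-! Sheaves of modules which are constant over an object, in terms of local generation and separation. -/

set_option autoImplicit false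
set_option linter.style.haveILetI false
set_option backward.isDefEq.respectTransparency false
set_option synthInstance.maxHeartbeats 400000
set_option maxHeartbeats 800000
universe u

open CategoryTheory CategoryTheory.Limits Opposite

namespace Groth.Agent.EpsLib.CO

variable {Λ : Type (u + 1)} [CommRing Λ] {C : Type (u + 1)} [Category.{u} C] {J : GrothendieckTopology C}

/-- Restriction of sections. -/
noncomputable abbrev res (G : Sheaf J (ModuleCat.{u + 1} Λ)) {Y Z : C} (h : Z ⟶ Y) :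
    G.obj.obj (op Y) →ₗ[Λ] G.obj.obj (op Z) := (G.obj.map h.op).hom

theorem res_res (G : Sheaf J (ModuleCat.{u + 1} Λ)) {Y Z Z' : C} (h : Z ⟶ Y) (h' : Z' ⟶ Z) (x : G.obj.obj (op Y)) :
    res G h' (res G h x) = res G (h' ≫ h) x := by
  rw [res, res, res, op_comp, G.obj.map_comp]
  rfl

theorem res_id (G : Sheaf J (ModuleCat.{u + 1} Λ)) {Y : C} (x : G.obj.obj (op Y)) : res G (𝟙 Y) x = x := by
  rw [res, op_id, G.obj.map_id]
  rfl

theorem sep_ext (G : Sheaf J (ModuleCat.{u + 1} Λ)) {Y : C} {R : Sieve Y} (hR : R ∈ J Y) {x y : G.obj.obj (op Y)}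
    (h : ∀ (Z : C) (q : Z ⟶ Y), R.arrows q → res G q x = res G q y) : x = y :=
  (((isSheaf_iff_isSheaf_of_type _ _).1
    ((Presheaf.isSheaf_iff_isSheaf_forget J G.obj (forget (ModuleCat.{u + 1} Λ))).1 G.property))
      R hR).isSeparatedFor.ext fun Z q hq => h Z q hq

theorem glue (G : Sheaf J (ModuleCat.{u + 1} Λ)) {ι : Type*} {Y : C} {Z : ι → C} (g : ∀ i, Z i ⟶ Y)
    (hg : Sieve.ofArrows Z g ∈ J Y) (x : ∀ i, G.obj.obj (op (Z i)))
    (hx : ∀ (i j : ι) (P : C) (a : P ⟶ Z i) (b : P ⟶ Z j), a ≫ g i = b ≫ g j → res G a (x i) = res G b (x j)) :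
    ∃ y : G.obj.obj (op Y), ∀ i, res G (g i) y = x i := by
  have hsh : (Presieve.ofArrows Z g).IsSheafFor (G.obj ⋙ forget (ModuleCat.{u + 1} Λ)) := by
    rw [Presieve.isSheafFor_iff_generate]
    exact ((isSheaf_iff_isSheaf_of_type _ _).1
      ((Presheaf.isSheaf_iff_isSheaf_forget J G.obj (forget (ModuleCat.{u + 1} Λ))).1 G.property)) _ hg
  exact ((Presieve.isSheafFor_arrows_iff _ _).1 hsh x hx).exists

/-- Local generation. -/
def Gen (G : Sheaf J (ModuleCat.{u + 1} Λ)) (U : C) {M : ModuleCat.{u + 1} Λ} (η : M →ₗ[Λ] G.obj.obj (op U)) : Prop :=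
  ∀ (Y : C) (b : Y ⟶ U) (x : G.obj.obj (op Y)),
    ∃ R ∈ J Y, ∀ (Z : C) (h : Z ⟶ Y), R.arrows h → ∃ m : M, res G h x = res G (h ≫ b) (η m)

/-- Separation: a constant section vanishes only over negligible objects. -/
def Sep (G : Sheaf J (ModuleCat.{u + 1} Λ)) (U : C) {M : ModuleCat.{u + 1} Λ} (η : M →ₗ[Λ] G.obj.obj (op U)) : Prop :=
  ∀ (Y : C) (b : Y ⟶ U) (m : M), res G b (η m) = 0 → (⊥ : Sieve Y) ∈ J Y ∨ m = 0

theorem Gen.map {G : Sheaf J (ModuleCat.{u + 1} Λ)} {U V : C} {M : ModuleCat.{u + 1} Λ}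
    {η : M →ₗ[Λ] G.obj.obj (op U)} (h : Gen G U η) (a : V ⟶ U) : Gen G V (res G a ∘ₗ η) := fun Y b x => by
  obtain ⟨R, hR, hR'⟩ := h Y (b ≫ a) x
  refine ⟨R, hR, fun Z q hq => ?_⟩
  obtain ⟨m, hm⟩ := hR' Z q hq
  exact ⟨m, by rw [hm, LinearMap.comp_apply, res_res, Category.assoc]⟩

theorem Sep.map {G : Sheaf J (ModuleCat.{u + 1} Λ)} {U V : C} {M : ModuleCat.{u + 1} Λ}
    {η : M →ₗ[Λ] G.obj.obj (op U)} (h : Sep G U η) (a : V ⟶ U) : Sep G V (res G a ∘ₗ η) := fun Y b m hm =>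
  h Y (b ≫ a) m (by rw [← res_res]; exact hm)

section Over

variable (G : Sheaf J (ModuleCat.{u + 1} Λ)) (U : C) [HasSheafify (J.over U) (ModuleCat.{u + 1} Λ)]
  [(J.over U).WEqualsLocallyBijective (ModuleCat.{u + 1} Λ)]

/-- The adjunction defining constant sheaves over `U`. -/
noncomputable abbrev adjO : constantSheaf (J.over U) (ModuleCat.{u + 1} Λ) ⊣
    (sheafSections (J.over U) (ModuleCat.{u + 1} Λ)).obj (op (Over.mk (𝟙 U))) :=
  constantSheafAdj (J.over U) (ModuleCat.{u + 1} Λ) (Over.mkIdTerminal (X := U))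

variable {U}

/-- The map out of the constant sheaf. -/
noncomputable def cmap {M : ModuleCat.{u + 1} Λ} (η : M →ₗ[Λ] G.obj.obj (op U)) :
    (constantSheaf (J.over U) (ModuleCat.{u + 1} Λ)).obj M ⟶ G.over U :=
  ((adjO (Λ := Λ) (J := J) U).homEquiv M (G.over U)).symm (ModuleCat.ofHom η)

/-- The unit of the constant sheaf over `U`. -/
noncomputable def cunit (M : ModuleCat.{u + 1} Λ) :
    M →ₗ[Λ] ((constantSheaf (J.over U) (ModuleCat.{u + 1} Λ)).obj M).obj.obj (op (Over.mk (𝟙 U))) :=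
  ((adjO (Λ := Λ) (J := J) U).unit.app M).hom

theorem cmap_cunit {M : ModuleCat.{u + 1} Λ} (η : M →ₗ[Λ] G.obj.obj (op U)) (m : M) :
    ((cmap G η).hom.app (op (Over.mk (𝟙 U)))).hom (cunit M m) = η m := by
  have h := ((adjO (Λ := Λ) (J := J) U).homEquiv M (G.over U)).apply_symm_apply (ModuleCat.ofHom η)
  rw [Adjunction.homEquiv_unit] at h
  exact congrArg (fun t => t.hom m) h

theorem cmap_toSheafify {M : ModuleCat.{u + 1} Λ} (η : M →ₗ[Λ] G.obj.obj (op U)) (Y : Over U) (m : M) :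
    ((cmap G η).hom.app (op Y)).hom
      (((toSheafify (J.over U) ((Functor.const (Over U)ᵒᵖ).obj M)).app (op Y)).hom m) = res G Y.hom (η m) := by
  let ψ := toSheafify (J.over U) ((Functor.const (Over U)ᵒᵖ).obj M) ≫ (cmap G η).hom
  have h1 : ∀ y : M, (ψ.app (op (Over.mk (𝟙 U)))).hom y = η y := fun y => by
    refine Eq.trans ?_ (cmap_cunit G η y)
    refine congrArg (((cmap G η).hom.app (op (Over.mk (𝟙 U)))).hom) ?_
    rfl
  refine (congrArg (fun t => t.hom m) (ψ.naturality (Over.homMk Y.hom (Category.comp_id _) : Y ⟶ Over.mk (𝟙 U)).op)).trans ?_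
  show res G Y.hom ((ψ.app (op (Over.mk (𝟙 U)))).hom m) = _
  rw [h1]

theorem gen_of_isIso {M : ModuleCat.{u + 1} Λ} {η : M →ₗ[Λ] G.obj.obj (op U)} [IsIso (cmap G η)] : Gen G U η := by
  intro Y b x
  let P := (Functor.const (Over U)ᵒᵖ).obj M
  let ψ := toSheafify (J.over U) P ≫ (cmap G η).hom
  haveI : IsIso (cmap G η).hom := inferInstanceAs (IsIso ((sheafToPresheaf (J.over U) (ModuleCat.{u + 1} Λ)).map (cmap G η)))
  haveI : Presheaf.IsLocallySurjective (J.over U) ψ := inferInstance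
  refine ⟨Sieve.overEquiv _ (Presheaf.imageSieve ψ (U := Over.mk b) x),
    (GrothendieckTopology.mem_over_iff _ _).1 (Presheaf.imageSieve_mem _ ψ (U := op (Over.mk b)) x), fun Z h hh => ?_⟩
  obtain ⟨m, hm⟩ := (Sieve.overEquiv_iff _ _).1 hh
  exact ⟨m, hm.symm.trans (cmap_toSheafify G η (Over.mk (h ≫ b)) m)⟩

theorem sep_of_isIso {M : ModuleCat.{u + 1} Λ} {η : M →ₗ[Λ] G.obj.obj (op U)} [IsIso (cmap G η)] : Sep G U η := by
  intro Y b m hm
  let P := (Functor.const (Over U)ᵒᵖ).obj M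
  let ψ := toSheafify (J.over U) P ≫ (cmap G η).hom
  haveI : IsIso (cmap G η).hom := inferInstanceAs (IsIso ((sheafToPresheaf (J.over U) (ModuleCat.{u + 1} Λ)).map (cmap G η)))
  haveI : Presheaf.IsLocallyInjective (J.over U) ψ := inferInstance
  have h := Presheaf.equalizerSieve_mem (J.over U) ψ (X := op (Over.mk b)) m (0 : M) (by
    rw [map_zero]
    exact (cmap_toSheafify G η (Over.mk b) m).trans hm)
  by_cases hm0 : m = 0
  · exact Or.inr hm0
  · refine Or.inl (GrothendieckTopology.superset_covering _ (fun Z q hq => ?_) ((GrothendieckTopology.mem_over_iff _ _).1 h))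
    exact absurd ((Sieve.overEquiv_iff _ _).1 hq) hm0

theorem isIso_cmap {M : ModuleCat.{u + 1} Λ} {η : M →ₗ[Λ] G.obj.obj (op U)} (hg : Gen G U η) (hs : Sep G U η) :
    IsIso (cmap G η) := by
  let P := (Functor.const (Over U)ᵒᵖ).obj M
  let ψ := toSheafify (J.over U) P ≫ (cmap G η).hom
  haveI : Presheaf.IsLocallySurjective (J.over U) ψ := ⟨fun {Y} x => by
    obtain ⟨R, hR, hR'⟩ := hg Y.left Y.hom x
    rw [GrothendieckTopology.mem_over_iff]
    refine GrothendieckTopology.superset_covering _ (fun Z q hq => ?_) hR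
    rw [Sieve.overEquiv_iff]
    obtain ⟨m, hm⟩ := hR' Z q hq
    exact ⟨m, (cmap_toSheafify G η _ m).trans hm.symm⟩⟩
  haveI : Presheaf.IsLocallyInjective (J.over U) ψ := ⟨fun {Y} m m' h => by
    have h0 : res G Y.unop.hom (η (m - m')) = 0 := by
      rw [map_sub, map_sub, sub_eq_zero]
      exact (cmap_toSheafify G η Y.unop m).symm.trans (h.trans (cmap_toSheafify G η Y.unop m'))
    rw [GrothendieckTopology.mem_over_iff]
    rcases hs _ _ _ h0 with hbot | h'
    · exact GrothendieckTopology.superset_covering _ bot_le hbot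
    · refine GrothendieckTopology.superset_covering _ (fun Z q _ => ?_) ((GrothendieckTopology.top_mem J _))
      rw [Sieve.overEquiv_iff]
      exact sub_eq_zero.1 h'⟩
  haveI : Presheaf.IsLocallySurjective (J.over U) (cmap G η).hom :=
    Presheaf.isLocallySurjective_of_isLocallySurjective (J.over U) (toSheafify (J.over U) P) (cmap G η).hom
  haveI : Presheaf.IsLocallyInjective (J.over U) (cmap G η).hom :=
    Presheaf.isLocallyInjective_of_isLocallyInjective_of_isLocallySurjective_fac (J.over U)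
      (f₁ := toSheafify (J.over U) P) (f₂ := (cmap G η).hom) (f₃ := ψ) rfl
  exact (Sheaf.isLocallyBijective_iff_isIso (A := ModuleCat.{u + 1} Λ) _).1 ⟨‹_›, ‹_›⟩

theorem exists_of_iso {M : ModuleCat.{u + 1} Λ}
    (e : G.over U ≅ (constantSheaf (J.over U) (ModuleCat.{u + 1} Λ)).obj M) :
    ∃ η : M →ₗ[Λ] G.obj.obj (op U), Gen G U η ∧ Sep G U η := by
  let η : M →ₗ[Λ] G.obj.obj (op U) := ((adjO (Λ := Λ) (J := J) U).homEquiv M (G.over U) e.inv).hom
  have h : cmap G η = e.inv := ((adjO (Λ := Λ) (J := J) U).homEquiv M (G.over U)).symm_apply_apply e.inv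
  haveI : IsIso (cmap G η) := by rw [h]; infer_instance
  exact ⟨η, gen_of_isIso G, sep_of_isIso G⟩

theorem nonempty_iso {M : ModuleCat.{u + 1} Λ} {η : M →ₗ[Λ] G.obj.obj (op U)} (hg : Gen G U η) (hs : Sep G U η) :
    Nonempty (G.over U ≅ (constantSheaf (J.over U) (ModuleCat.{u + 1} Λ)).obj M) :=
  haveI := isIso_cmap G hg hs
  ⟨(asIso (cmap G η)).symm⟩

variable {G}

/-- Sections over an object over `U`, of a map of restricted sheaves. -/
noncomputable def ovApp {K H : Sheaf J (ModuleCat.{u + 1} Λ)} (φ : K.over U ⟶ H.over U) {Y : C} (b : Y ⟶ U) :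
    K.obj.obj (op Y) →ₗ[Λ] H.obj.obj (op Y) := (φ.hom.app (op (Over.mk b))).hom

omit [HasSheafify (J.over U) (ModuleCat.{u + 1} Λ)] [(J.over U).WEqualsLocallyBijective (ModuleCat.{u + 1} Λ)] in
theorem res_ovApp {K H : Sheaf J (ModuleCat.{u + 1} Λ)} (φ : K.over U ⟶ H.over U) {Y Z : C} (b : Y ⟶ U) (h : Z ⟶ Y)
    (x : K.obj.obj (op Y)) : res H h (ovApp φ b x) = ovApp φ (h ≫ b) (res K h x) :=
  (congrArg (fun t => t.hom x) (φ.hom.naturality (Over.homMk h : Over.mk (h ≫ b) ⟶ Over.mk b).op)).symm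

theorem exists_ext {K H : Sheaf J (ModuleCat.{u + 1} Λ)} {M : ModuleCat.{u + 1} Λ} {η : M →ₗ[Λ] K.obj.obj (op U)}
    (hg : Gen K U η) (hs : Sep K U η) (θ : M →ₗ[Λ] H.obj.obj (op U)) :
    ∃ φ : K.over U ⟶ H.over U, ∀ (Y : C) (b : Y ⟶ U) (m : M), ovApp φ b (res K b (η m)) = res H b (θ m) := by
  haveI := isIso_cmap K hg hs
  refine ⟨inv (cmap K η) ≫ cmap H θ, fun Y b m => ?_⟩
  show ovApp _ b (res K (Over.mk b).hom (η m)) = res H (Over.mk b).hom (θ m)
  rw [← cmap_toSheafify K η (Over.mk b) m, ← cmap_toSheafify H θ (Over.mk b) m]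
  exact congrArg (fun t => (t.hom.app (op (Over.mk b))).hom
    (((toSheafify (J.over U) ((Functor.const (Over U)ᵒᵖ).obj M)).app (op (Over.mk b))).hom m))
    (IsIso.hom_inv_id_assoc (cmap K η) (cmap H θ))

omit [HasSheafify (J.over U) (ModuleCat.{u + 1} Λ)] [(J.over U).WEqualsLocallyBijective (ModuleCat.{u + 1} Λ)] in
theorem ovApp_ext {K H : Sheaf J (ModuleCat.{u + 1} Λ)} {M : ModuleCat.{u + 1} Λ} {η : M →ₗ[Λ] K.obj.obj (op U)}
    (hg : Gen K U η) (φ φ' : K.over U ⟶ H.over U) {Y : C} (b : Y ⟶ U)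
    (h : ∀ (Z : C) (c : Z ⟶ Y) (m : M), ovApp φ (c ≫ b) (res K (c ≫ b) (η m)) = ovApp φ' (c ≫ b) (res K (c ≫ b) (η m)))
    (x : K.obj.obj (op Y)) : ovApp φ b x = ovApp φ' b x := by
  obtain ⟨R, hR, hR'⟩ := hg Y b x
  refine sep_ext H hR fun Z q hq => ?_
  obtain ⟨m, hm⟩ := hR' Z q hq
  rw [res_ovApp, res_ovApp, hm, h]

theorem ext_bijective {K H : Sheaf J (ModuleCat.{u + 1} Λ)} {M : ModuleCat.{u + 1} Λ} {η : M →ₗ[Λ] K.obj.obj (op U)}
    (hg : Gen K U η) (φ : K.over U ⟶ H.over U) {θ : M →ₗ[Λ] H.obj.obj (op U)}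
    (hφ : ∀ (Y : C) (b : Y ⟶ U) (m : M), ovApp φ b (res K b (η m)) = res H b (θ m))
    {V : C} (a : V ⟶ U) (hgθ : Gen H V (res H a ∘ₗ θ)) (hsθ : Sep H V (res H a ∘ₗ θ))
    [HasSheafify (J.over V) (ModuleCat.{u + 1} Λ)] [(J.over V).WEqualsLocallyBijective (ModuleCat.{u + 1} Λ)]
    {Y : C} (b : Y ⟶ V) :
    Function.Bijective (ovApp φ (b ≫ a)) := by
  obtain ⟨ψ, hψ⟩ := exists_ext hgθ hsθ (res K a ∘ₗ η)
  have hψ' : ∀ (Z : C) (c : Z ⟶ V) (m : M), ovApp ψ c (res H (c ≫ a) (θ m)) = res K (c ≫ a) (η m) := fun Z c m => by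
    have := hψ Z c m
    rwa [LinearMap.comp_apply, LinearMap.comp_apply, res_res, res_res] at this
  have h1 : ∀ x, ovApp ψ b (ovApp φ (b ≫ a) x) = x := fun x => by
    obtain ⟨R, hR, hR'⟩ := hg Y (b ≫ a) x
    refine sep_ext K hR fun Z q hq => ?_
    obtain ⟨m, hm⟩ := hR' Z q hq
    rw [res_ovApp, res_ovApp, hm, hφ, ← Category.assoc, hψ']
  have h2 : ∀ y, ovApp φ (b ≫ a) (ovApp ψ b y) = y := fun y => by
    obtain ⟨R, hR, hR'⟩ := hgθ Y b y
    refine sep_ext H hR fun Z q hq => ?_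
    obtain ⟨m, hm⟩ := hR' Z q hq
    rw [res_ovApp, res_ovApp, hm, LinearMap.comp_apply, res_res, hψ', ← Category.assoc, hφ]
  exact Function.bijective_iff_has_inverse.2 ⟨ovApp ψ b, h1, h2⟩

end Over

section Const

variable [HasSheafify J (ModuleCat.{u + 1} Λ)] [J.WEqualsLocallyBijective (ModuleCat.{u + 1} Λ)]

variable (J) in
/-- The constant section maps. -/
noncomputable def constη (M : ModuleCat.{u + 1} Λ) (U : C) :
    M →ₗ[Λ] ((constantSheaf J (ModuleCat.{u + 1} Λ)).obj M).obj.obj (op U) :=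
  ((toSheafify J ((Functor.const Cᵒᵖ).obj M)).app (op U)).hom

theorem res_constη (M : ModuleCat.{u + 1} Λ) {U V : C} (a : V ⟶ U) (m : M) :
    res ((constantSheaf J (ModuleCat.{u + 1} Λ)).obj M) a (constη J M U m) = constη J M V m :=
  (congrArg (fun t => t.hom m) ((toSheafify J ((Functor.const Cᵒᵖ).obj M)).naturality a.op)).symm

theorem gen_constη (M : ModuleCat.{u + 1} Λ) (U : C) :
    Gen ((constantSheaf J (ModuleCat.{u + 1} Λ)).obj M) U (constη J M U) := fun Y b x => by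
  refine ⟨_, Presheaf.imageSieve_mem J (toSheafify J ((Functor.const Cᵒᵖ).obj M)) (U := op Y) x, fun Z h hh => ?_⟩
  obtain ⟨m, hm⟩ := hh
  exact ⟨m, by rw [res_constη]; exact hm.symm⟩

theorem sep_constη (M : ModuleCat.{u + 1} Λ) (U : C) :
    Sep ((constantSheaf J (ModuleCat.{u + 1} Λ)).obj M) U (constη J M U) := fun Y b m hm => by
  rw [res_constη] at hm
  by_cases hm0 : m = 0
  · exact Or.inr hm0
  · refine Or.inl (GrothendieckTopology.superset_covering _ (fun Z q hq => absurd hq hm0)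
      (Presheaf.equalizerSieve_mem J (toSheafify J ((Functor.const Cᵒᵖ).obj M)) (X := op Y) m (0 : M)
        (by rw [map_zero]; exact hm)))

end Const

end Groth.Agent.EpsLib.CO
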