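import Groth.Agent.EpsLib.CoprodSect
import Groth.Agent.EpsLib.Flasque
import Groth.Agent.EpsLib.Compare
import Mathlib.Algebra.Homology.DerivedCategory.Ext.EnoughInjectives

/-! Cohomology of quasi-compact quasi-separated schemes commutes with coproducts on the pro-étale site. -/

set_option autoImplicit false
set_option linter.style.haveILetI false
set_option backward.isDefEq.respectTransparency false
set_option synthInstance.maxHeartbeats 400000
set_option maxHeartbeats 1000000
universe u

open CategoryTheory CategoryTheory.Limits AlgebraicGeometry Opposite CategoryTheory.Abelian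

namespace Groth.Agent.EpsLib

open ProEtPtsLib WCSiteLib

variable {X : Scheme.{u}}

theorem sum_app {A B : ProEtS.AbP X} {κ : Type*} (J : Finset κ) (g : κ → (A ⟶ B)) (T : X.ProEt)
    (a : ProEtS.sectP A T) : (∑ i ∈ J, g i).hom.app (op T) a = ∑ i ∈ J, (g i).hom.app (op T) a := by
  classical
  induction J using Finset.induction_on with
  | empty => rfl
  | insert i J hi ih => rw [Finset.sum_insert hi, Finset.sum_insert hi, ← ih]; rfl

variable {ι : Type u} (F : ι → ProEtS.AbP X)

theorem good_injective (I : ProEtS.AbP X) [Injective I] : Good I :=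
  ⟨fun W hW n => hExact_injective_sheaf I (datum X W hW).N n, flasque_injective I⟩

theorem hExact_coproduct {W' W : X.ProEt} {π : W' ⟶ W} (N : Nerve π) (n : ℕ) (hc : CompactSpace ↥(N.obj (n + 1)).left)
    (h : ∀ i, HExact N (F i).obj n) : HExact N (∐ F).obj n := by
  intro x hx
  haveI := hc
  obtain ⟨J, hJ, -⟩ := sections_coproduct F (N.obj (n + 1)) x
  choose y hy using fun i => h i ((coprodProj F i).hom.app (op (N.obj (n + 1))) x) (by
    rw [← cechD_natural, hx, map_zero])
  refine ⟨∑ i ∈ J, (Sigma.ι F i).hom.app (op (N.obj n)) (y i), ?_⟩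
  rw [map_sum]
  refine (Finset.sum_congr rfl fun i _ => ?_).trans hJ.symm
  rw [← cechD_natural, hy]

theorem flasque_coproduct (h : ∀ i, Flasque (F i)) : Flasque (∐ F) := fun T Φ i O hO t => by
  haveI : CompactSpace ↥(openObj T (Φ.pre i O)).left := by
    haveI : ∀ (j k : (Φ.openG i O hO).I) (a : j ⟶ k), IsAffineHom (und (((Φ.openG i O hO).D ⋙ ProEtS.eps X).map a)) :=
      (Φ.openG i O hO).affineHom
    let c : Cone ((Φ.openG i O hO).D ⋙ ProEtS.eps X) := Cone.mk _ (Φ.openG i O hO).π
    haveI : IsAffineHom (und (c.π.app (Over.mk (𝟙 i)))) := isAffineHom_leg c (Φ.openG i O hO).isLimit _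
    exact (isQcqs_of_isAffineHom (c.π.app (Over.mk (𝟙 i))) ((Φ.openG i O hO).qcqs _)).compact
  obtain ⟨J, hJ, -⟩ := sections_coproduct F _ t
  choose y hy using fun j => h j T Φ i O hO ((coprodProj F j).hom.app _ t)
  refine ⟨∑ j ∈ J, (Sigma.ι F j).hom.app (op T) (y j), ?_⟩
  rw [map_sum]
  refine (Finset.sum_congr rfl fun j _ => ?_).trans hJ.symm
  rw [← NatTrans.naturality_apply, hy]

theorem good_coproduct (h : ∀ i, Good (F i)) : Good (∐ F) := by
  refine ⟨fun W hW n => hExact_coproduct F (datum X W hW).N n ?_ fun i => (h i).1 W hW n,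
    flasque_coproduct F fun i => (h i).2⟩
  obtain ⟨Φ⟩ := (datum X W hW).powers (n + 1)
  haveI := Φ.isAffine
  infer_instance

theorem sections_eq_zero_of_proj {T : X.ProEt} (s : ProEtS.sectP (∐ F) T)
    (h : ∀ i, (coprodProj F i).hom.app (op T) s = 0) : s = 0 := by
  haveI := isLocallySurjective_coprodEta F
  refine sheaf_sect_ext (∐ F) _ (Presheaf.imageSieve_mem (Scheme.ProEt.topology X) (coprodEta F) (U := op T) s) s 0
    fun P g hg => ?_
  obtain ⟨z, hz⟩ := hg
  obtain ⟨J, hJ, -⟩ := coprodEta_form F P z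
  rw [map_zero, ← hz]
  refine hJ.trans (Finset.sum_eq_zero fun i _ => ?_)
  rw [hz, NatTrans.naturality_apply, h i, map_zero, map_zero]

theorem mono_sigmaMap {G : ι → ProEtS.AbP X} (a : ∀ i, F i ⟶ G i) [∀ i, Mono (a i)] :
    Mono (Limits.Sigma.map a) := by
  have hcomm : ∀ i, Limits.Sigma.map a ≫ coprodProj G i = coprodProj F i ≫ a i := fun i => by
    refine Sigma.hom_ext _ _ fun j => ?_
    rw [Sigma.ι_map_assoc]
    by_cases h : j = i
    · subst h
      rw [ι_coprodProj_self, ι_coprodProj_self_assoc, Category.comp_id]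
    · rw [ι_coprodProj_ne _ h, ← Category.assoc, ι_coprodProj_ne _ h, comp_zero, zero_comp]
  refine Preadditive.mono_of_cancel_zero _ fun {P} g hg => ?_
  have hq : ∀ i, g ≫ coprodProj F i = 0 := fun i => by
    rw [← cancel_mono (a i), Category.assoc, ← hcomm, reassoc_of% hg, zero_comp, zero_comp]
  apply Sheaf.hom_ext
  ext ⟨T⟩ p
  exact sections_eq_zero_of_proj F _ fun i => congrArg (fun m : P ⟶ F i => m.hom.app (op T) p) (hq i)

/-- The coproduct of short complexes. -/
noncomputable abbrev sigmaSC (S : ι → ShortComplex (ProEtS.AbP X)) : ShortComplex (ProEtS.AbP X) :=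
  ShortComplex.mk (Limits.Sigma.map fun i => (S i).f) (Limits.Sigma.map fun i => (S i).g)
    (Sigma.hom_ext _ _ fun i => by rw [Sigma.ι_map_assoc, Sigma.ι_map, comp_zero, reassoc_of% (S i).zero, zero_comp])

theorem sigma_shortExact {S : ι → ShortComplex (ProEtS.AbP X)} (hS : ∀ i, (S i).ShortExact) :
    (sigmaSC S).ShortExact := by
  haveI := fun i => (hS i).mono_f
  haveI := fun i => (hS i).epi_g
  haveI := mono_sigmaMap _ fun i => (S i).f
  haveI : Epi (Limits.Sigma.map fun i => (S i).g) := ⟨fun u v huv => Sigma.hom_ext _ _ fun i => by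
    have := congrArg (Sigma.ι (fun i => (S i).X₂) i ≫ ·) huv
    simp only [Sigma.ι_map_assoc] at this
    exact (cancel_epi (S i).g).1 this⟩
  exact {
    exact := ShortComplex.exact_of_g_is_cokernel _
      (CokernelCofork.IsColimit.ofπ' _ _ fun {A} k hk => by
        have hk' : ∀ i, (S i).f ≫ Sigma.ι (fun i => (S i).X₂) i ≫ k = 0 := fun i => by
          have := congrArg (Sigma.ι (fun i => (S i).X₁) i ≫ ·) hk
          simpa only [Sigma.ι_map_assoc, comp_zero] using this
        exact ⟨Sigma.desc fun i => ((hS i).exact.desc _ (hk' i)), Sigma.hom_ext _ _ fun i => by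
          rw [Sigma.ι_map_assoc, Sigma.ι_desc, ShortComplex.Exact.g_desc]⟩) }

section Cohomology

/-- The constant sheaf `ℤ`. -/
noncomputable abbrev ZP (X : Scheme.{u}) : ProEtS.AbP X :=
  (constantSheaf (Scheme.ProEt.topology X) AddCommGrpCat.{u + 1}).obj (AddCommGrpCat.of (ULift.{u + 1} ℤ))

/-- The presentation of a quasi-compact quasi-separated scheme by itself. -/
theorem exists_gApprox_top [CompactSpace ↥X] [QuasiSeparatedSpace ↥X] : Nonempty (GApprox (ProEtS.topP X)) := by
  haveI : IsCofiltered (Discrete PUnit.{u + 1}) :=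
    { cone_objs := fun a b => ⟨a, 𝟙 _, eqToHom (Subsingleton.elim _ _), trivial⟩
      cone_maps := fun a b f g => ⟨a, 𝟙 _, Subsingleton.elim _ _⟩
      nonempty := ⟨⟨PUnit.unit⟩⟩ }
  exact ⟨{ I := Discrete PUnit.{u + 1}
           D := (Functor.const _).obj (EtCoh.top X)
           qcqs := fun _ => ⟨‹CompactSpace ↥X›, ‹QuasiSeparatedSpace ↥X›⟩
           affineHom := fun i j a => inferInstanceAs (IsAffineHom (𝟙 X))
           π := { app := fun _ => MorphismProperty.Over.homMk (𝟙 X) (by exact Category.id_comp _)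
                  naturality := fun i j a => hom_ext_und (by exact rfl) }
           isLimit :=
            { lift := fun s => s.π.app ⟨PUnit.unit⟩
              fac := fun s j => by
                obtain ⟨⟨⟩⟩ := j
                exact Category.comp_id _
              uniq := fun s m hm => (Category.comp_id m).symm.trans (hm ⟨PUnit.unit⟩) } }⟩

variable [CompactSpace ↥X] [QuasiSeparatedSpace ↥X]

theorem subsingleton_HP_good : ∀ (p : ℕ) (G : ProEtS.AbP X), Good G →
    Subsingleton (Ext.{u + 1} (ZP X) G (p + 1))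
  | 0, G, hG => by
    haveI : Injective (CohLib.injSC G).X₂ := inferInstanceAs (Injective (Injective.under G))
    haveI := CohLib.subsingleton_ext_injective.{u + 1} (ZP X) (CohLib.injSC G).X₂ 0
    refine CohLib.subsingleton_ext_one_of_lift (CohLib.injSC_shortExact G) fun s => ?_
    obtain ⟨t, ht⟩ := surjective_of_good (CohLib.injSC_shortExact G) hG exists_gApprox_top.some
      (Sheaf.H.equiv₀ (CohLib.injSC G).X₃ isTerminalTop (Ext.mk₀ s))
    refine ⟨Ext.addEquiv₀ ((Sheaf.H.equiv₀ (CohLib.injSC G).X₂ isTerminalTop).symm t), ?_⟩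
    rw [← Sheaf.H.addEquiv₀_map, Sheaf.H.equiv₀_symm_naturality, ht, AddEquiv.symm_apply_apply]
    exact Ext.addEquiv₀.symm.injective (by simp)
  | p + 1, G, hG => by
    haveI : Injective (CohLib.injSC G).X₂ := inferInstanceAs (Injective (Injective.under G))
    haveI := CohLib.subsingleton_ext_injective.{u + 1} (ZP X) (CohLib.injSC G).X₂ (p + 1)
    haveI := subsingleton_HP_good p _ (good_quotient (CohLib.injSC_shortExact G) hG)
    exact CohLib.subsingleton_ext_of_shift (CohLib.injSC_shortExact G)

theorem exists_HP_sum : ∀ (n : ℕ) (F : ι → ProEtS.AbP X) (x : Ext.{u + 1} (ZP X) (∐ F) n),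
    ∃ (J : Finset ι) (y : ∀ i, Ext.{u + 1} (ZP X) (F i) n),
      x = ∑ i ∈ J, (y i).comp (Ext.mk₀ (Sigma.ι F i)) (add_zero n)
  | 0, F, x => by
    haveI : CompactSpace ↥(ProEtS.topP X).left := ‹CompactSpace ↥X›
    obtain ⟨J, hJ, -⟩ := sections_coproduct F (ProEtS.topP X) (Sheaf.H.equiv₀ (∐ F) isTerminalTop x)
    refine ⟨J, fun i => (Sheaf.H.equiv₀ (F i) isTerminalTop).symm ((coprodProj F i).hom.app _
      (Sheaf.H.equiv₀ (∐ F) isTerminalTop x)), (Sheaf.H.equiv₀ (∐ F) isTerminalTop).injective ?_⟩
    rw [map_sum]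
    refine hJ.trans (Finset.sum_congr rfl fun i _ => ?_)
    refine Eq.trans ?_ (Sheaf.H.equiv₀_naturality (hT := isTerminalTop) (Sigma.ι F i) _)
    rw [AddEquiv.apply_symm_apply]
  | n + 1, F, x => by
    let S := fun i => CohLib.injSC (F i)
    have hS := fun i => CohLib.injSC_shortExact (F i)
    haveI : ∀ i, Injective (S i).X₂ := fun i => inferInstanceAs (Injective (Injective.under (F i)))
    have hσ := sigma_shortExact hS
    haveI := subsingleton_HP_good n _ (good_coproduct (fun i => (S i).X₂) fun i => good_injective _)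
    obtain ⟨e, rfl⟩ := Ext.covariant_sequence_exact₁ (ZP X) hσ x (Subsingleton.elim _ _) (n₀ := n) rfl
    obtain ⟨J, y, rfl⟩ := exists_HP_sum n (fun i => (S i).X₃) e
    refine ⟨J, fun i => (y i).comp (hS i).extClass rfl, ?_⟩
    refine (map_sum (connecting hσ (ZP X) n) _ _).trans (Finset.sum_congr rfl fun i _ => ?_)
    show ((y i).comp (Ext.mk₀ (Sigma.ι (fun i => (S i).X₃) i)) (add_zero n)).comp hσ.extClass rfl =
      ((y i).comp (hS i).extClass rfl).comp (Ext.mk₀ (Sigma.ι (fun i => (S i).X₁) i)) (add_zero (n + 1))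
    let φ : S i ⟶ sigmaSC S :=
      ShortComplex.homMk (Sigma.ι (fun i => (S i).X₁) i) (Sigma.ι (fun i => (S i).X₂) i) (Sigma.ι (fun i => (S i).X₃) i)
        (Sigma.ι_map (fun i => (S i).f) i) (Sigma.ι_map (fun i => (S i).g) i)
    rw [Ext.comp_assoc_of_second_deg_zero]
    refine (congrArg (fun t => (y i).comp t rfl) (ShortComplex.ShortExact.extClass_naturality (hS i) hσ φ).symm).trans ?_
    exact (Ext.comp_assoc_of_third_deg_zero _ _ _ rfl).symm

theorem HPF_preservesColimitsOfShape (n : ℕ) (ι : Type u) :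
    PreservesColimitsOfShape (Discrete ι) (ProEtS.HPF X n) := by
  haveI : ∀ F : ι → ProEtS.AbP X, PreservesColimit (Discrete.functor F) (ProEtS.HPF X n) := fun F => by
    classical
    haveI : IsIso (sigmaComparison (ProEtS.HPF X n) F) := by
      refine (ConcreteCategory.isIso_iff_bijective _).2 ⟨(injective_iff_map_eq_zero _).2 fun z hz => ?_, fun x => ?_⟩
      · obtain ⟨J, y, rfl⟩ := exists_finset_sum_of_isColimit _ (coproductIsCoproduct fun b => (ProEtS.HPF X n).obj (F b)) z
        have h1 : ∀ i, sigmaComparison (ProEtS.HPF X n) F ((Cofan.inj (Cofan.mk _ (Sigma.ι fun b => (ProEtS.HPF X n).obj (F b))) i) (y i)) =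
            (ProEtS.HPF X n).map (Sigma.ι F i) (y i) := fun i =>
          ConcreteCategory.congr_hom (ι_comp_sigmaComparison (ProEtS.HPF X n) F i) (y i)
        rw [map_sum, Finset.sum_congr rfl fun i _ => h1 i] at hz
        have h2 : ∀ i ∈ J, y i = 0 := fun i hi => by
          have h3 := congrArg ((ProEtS.HPF X n).map (coprodProj F i)) hz
          rw [map_sum, map_zero] at h3
          have e : ∀ j, (ProEtS.HPF X n).map (coprodProj F i) ((ProEtS.HPF X n).map (Sigma.ι F j) (y j)) =
              (ProEtS.HPF X n).map (Sigma.ι F j ≫ coprodProj F i) (y j) := fun j =>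
            (ConcreteCategory.congr_hom ((ProEtS.HPF X n).map_comp _ _) (y j)).symm
          rw [Finset.sum_congr rfl fun j _ => e j, Finset.sum_eq_single i (fun j _ hj => by
              rw [ι_coprodProj_ne F hj]
              show Ext.comp (y j) (Ext.mk₀ 0) (add_zero n) = (0 : Ext.{u + 1} (ZP X) (F i) n)
              rw [Ext.mk₀_zero, Ext.comp_zero]) (fun h => absurd hi h)] at h3
          rw [ι_coprodProj_self] at h3
          exact (ConcreteCategory.congr_hom ((ProEtS.HPF X n).map_id (F i)) (y i)).symm.trans h3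
        exact Finset.sum_eq_zero fun i hi => by rw [h2 i hi, map_zero]
      · obtain ⟨J, y, rfl⟩ := exists_HP_sum n F x
        refine ⟨∑ i ∈ J, Sigma.ι (fun b => (ProEtS.HPF X n).obj (F b)) i (y i), ?_⟩
        rw [map_sum]
        exact Finset.sum_congr rfl fun i _ =>
          ConcreteCategory.congr_hom (ι_comp_sigmaComparison (ProEtS.HPF X n) F i) (y i)
    exact PreservesCoproduct.of_iso_comparison _ _
  exact preservesColimitsOfShape_of_discrete _

end Cohomology

end Groth.Agent.EpsLib
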