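import Groth.Prelude.Def_ProEtS
import Groth.Agent.WCSiteLib.Coprod
import Mathlib.CategoryTheory.Sites.LocallyBijective
import Mathlib.Algebra.Category.Grp.Colimits
import Mathlib.Algebra.Category.Grp.EpiMono
import Mathlib.CategoryTheory.Limits.Shapes.Products

/-! Sections of coproducts of sheaves over quasi-compact objects. -/

set_option autoImplicit false
set_option linter.style.haveILetI false
set_option backward.isDefEq.respectTransparency false
set_option synthInstance.maxHeartbeats 400000
set_option maxHeartbeats 1000000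
universe u

open CategoryTheory CategoryTheory.Limits AlgebraicGeometry Opposite

namespace Groth.Agent.EpsLib

open ProEtPtsLib WCSiteLib

section Proj

variable {A : Type*} [Category A] [HasZeroMorphisms A] {ι : Type*} (G : ι → A) [HasCoproduct G]

open Classical in
/-- The projection of a coproduct to a summand. -/
noncomputable def coprodProj (i : ι) : ∐ G ⟶ G i :=
  Sigma.desc fun j => if h : j = i then eqToHom (congrArg G h) else 0

@[reassoc (attr := simp)]
theorem ι_coprodProj_self (i : ι) : Sigma.ι G i ≫ coprodProj G i = 𝟙 (G i) := by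
  simp [coprodProj]

theorem ι_coprodProj_ne {i j : ι} (h : j ≠ i) : Sigma.ι G j ≫ coprodProj G i = 0 := by
  simp [coprodProj, h]

end Proj

/-- Elements of coproducts of abelian groups are finite sums. -/
theorem exists_finset_sum_of_isColimit {ι : Type u} {G : ι → AddCommGrpCat.{u + 1}} (c : Cofan G) (hc : IsColimit c)
    (x : c.pt) : ∃ (J : Finset ι) (y : ∀ i, G i), x = ∑ i ∈ J, c.inj i (y i) := by
  classical
  let H : AddSubgroup c.pt :=
    { carrier := {x | ∃ (J : Finset ι) (y : ∀ i, G i), x = ∑ i ∈ J, c.inj i (y i)}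
      zero_mem' := ⟨∅, fun _ => 0, by simp⟩
      add_mem' := by
        rintro _ _ ⟨J, y, rfl⟩ ⟨J', y', rfl⟩
        refine ⟨J ∪ J', fun i => (if i ∈ J then y i else 0) + (if i ∈ J' then y' i else 0), ?_⟩
        simp only [map_add, Finset.sum_add_distrib]
        congr 1
        · refine (Finset.sum_congr rfl fun i hi => by rw [if_pos hi]).trans
            (Finset.sum_subset Finset.subset_union_left fun i _ hi => by rw [if_neg hi, map_zero])
        · refine (Finset.sum_congr rfl fun i hi => by rw [if_pos hi]).trans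
            (Finset.sum_subset Finset.subset_union_right fun i _ hi => by rw [if_neg hi, map_zero])
      neg_mem' := by
        rintro _ ⟨J, y, rfl⟩
        exact ⟨J, fun i => - y i, by simp⟩ }
  suffices hH : H = ⊤ from (hH ▸ AddSubgroup.mem_top x : x ∈ H)
  by_contra hne
  let q : c.pt ⟶ AddCommGrpCat.of (c.pt ⧸ H) := AddCommGrpCat.ofHom (QuotientAddGroup.mk' H)
  have hq : q = 0 := Cofan.IsColimit.hom_ext hc _ _ fun i => by
    ext y
    rw [comp_zero]
    refine (QuotientAddGroup.eq_zero_iff _).2 ⟨{i}, Function.update (fun j => (0 : G j)) i y, ?_⟩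
    rw [Finset.sum_singleton, Function.update_self]
    rfl
  exact hne (eq_top_iff.2 fun z _ => (QuotientAddGroup.eq_zero_iff z).1 (ConcreteCategory.congr_hom hq z))

variable {X : Scheme.{u}} {ι : Type u} (F : ι → ProEtS.AbP X)

/-- The presheaf coproduct mapping to the sheaf coproduct. -/
noncomputable def coprodEta : (∐ fun i => (F i).obj) ⟶ (∐ F).obj :=
  Sigma.desc fun i => (Sigma.ι F i).hom

theorem ι_coprodEta (i : ι) : Sigma.ι (fun i => (F i).obj) i ≫ coprodEta F = (Sigma.ι F i).hom :=
  Sigma.ι_desc _ _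

theorem isLocallySurjective_coprodEta :
    Presheaf.IsLocallySurjective (Scheme.ProEt.topology X) (coprodEta F) := by
  let J := Scheme.ProEt.topology X
  let L := presheafToSheaf J AddCommGrpCat.{u + 1}
  let adj := sheafificationAdjunction J AddCommGrpCat.{u + 1}
  let φ : L.obj (∐ fun i => (F i).obj) ⟶ ∐ F := (adj.homEquiv _ _).symm (coprodEta F)
  let ψ : ∐ F ⟶ L.obj (∐ fun i => (F i).obj) :=
    Sigma.desc fun i => (fullyFaithfulSheafToPresheaf J AddCommGrpCat.{u + 1}).preimage
      (Sigma.ι (fun i => (F i).obj) i ≫ adj.unit.app (∐ fun i => (F i).obj))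
  have hunit : adj.unit.app _ ≫ φ.hom = coprodEta F :=
    (Adjunction.homEquiv_unit adj _ _ φ).symm.trans (Equiv.apply_symm_apply _ _)
  have h1 : ψ ≫ φ = 𝟙 _ := Sigma.hom_ext _ _ fun i => by
    rw [Category.comp_id, Sigma.ι_desc_assoc]
    apply Sheaf.hom_ext
    rw [ObjectProperty.FullSubcategory.comp_hom]
    refine (congrArg (· ≫ φ.hom) ((fullyFaithfulSheafToPresheaf J AddCommGrpCat.{u + 1}).map_preimage _)).trans ?_
    rw [Category.assoc, hunit, ι_coprodEta]
  have h2 : φ ≫ ψ = 𝟙 _ := by
    apply (adj.homEquiv _ _).injective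
    rw [Adjunction.homEquiv_unit, Adjunction.homEquiv_id]
    refine Sigma.hom_ext _ _ fun i => ?_
    show Sigma.ι (fun i => (F i).obj) i ≫ adj.unit.app (∐ fun i => (F i).obj) ≫ (φ.hom ≫ ψ.hom) = _
    rw [reassoc_of% hunit, ← Category.assoc, ι_coprodEta]
    refine (congrArg (fun m => m.hom) (Sigma.ι_desc (fun i => (fullyFaithfulSheafToPresheaf J AddCommGrpCat.{u + 1}).preimage
      (Sigma.ι (fun i => (F i).obj) i ≫ adj.unit.app (∐ fun i => (F i).obj))) i)).trans ?_
    exact (fullyFaithfulSheafToPresheaf J AddCommGrpCat.{u + 1}).map_preimage _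
  haveI : IsIso φ := ⟨ψ, h2, h1⟩
  rw [← hunit]
  haveI : IsIso φ.hom := inferInstanceAs (IsIso ((sheafToPresheaf J AddCommGrpCat.{u + 1}).map φ))
  haveI : Presheaf.IsLocallySurjective J (adj.unit.app (∐ fun i => (F i).obj)) :=
    inferInstanceAs (Presheaf.IsLocallySurjective J (toSheafify J _))
  infer_instance

theorem coprodEta_proj (i : ι) : coprodEta F ≫ (coprodProj F i).hom = coprodProj (fun i => (F i).obj) i :=
  Sigma.hom_ext _ _ fun j => by
    rw [← Category.assoc, ι_coprodEta, ← ObjectProperty.FullSubcategory.comp_hom]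
    by_cases h : j = i
    · subst h
      rw [ι_coprodProj_self, ι_coprodProj_self]
      rfl
    · rw [ι_coprodProj_ne _ h, ι_coprodProj_ne _ h]
      rfl

theorem proj_ι_self (T : X.ProEt) (i : ι) (a : ProEtS.sectP (F i) T) :
    (coprodProj F i).hom.app (op T) ((Sigma.ι F i).hom.app (op T) a) = a := by
  rw [← ConcreteCategory.comp_apply]
  exact congrArg (fun m : F i ⟶ F i => m.hom.app (op T) a) (ι_coprodProj_self F i)

theorem proj_ι_ne (T : X.ProEt) {i j : ι} (h : j ≠ i) (a : ProEtS.sectP (F j) T) :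
    (coprodProj F i).hom.app (op T) ((Sigma.ι F j).hom.app (op T) a) = 0 := by
  rw [← ConcreteCategory.comp_apply]
  exact congrArg (fun m : F j ⟶ F i => m.hom.app (op T) a) (ι_coprodProj_ne F h)

theorem coprodEta_form (T : X.ProEt) (x : (∐ fun i => (F i).obj).obj (op T)) :
    ∃ J : Finset ι, (coprodEta F).app (op T) x =
      (∑ i ∈ J, (Sigma.ι F i).hom.app (op T) ((coprodProj F i).hom.app (op T) ((coprodEta F).app (op T) x))) ∧
      ∀ i ∉ J, (coprodProj F i).hom.app (op T) ((coprodEta F).app (op T) x) = 0 := by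
  classical
  let G : ι → AddCommGrpCat.{u + 1} := fun i => (F i).obj.obj (op T)
  have hc := isColimitCofanMkObjOfIsColimit ((evaluation _ _).obj (op T)) _ _ (coproductIsCoproduct (fun i => (F i).obj))
  obtain ⟨J, y, rfl⟩ := exists_finset_sum_of_isColimit (G := G) _ hc x
  have hi : ∀ j, (coprodEta F).app (op T) ((Sigma.ι (fun i => (F i).obj) j).app (op T) (y j)) =
      (Sigma.ι F j).hom.app (op T) (y j) := fun j => by
    rw [← ConcreteCategory.comp_apply, ← NatTrans.comp_app, ι_coprodEta]
  have hx : (coprodEta F).app (op T) (∑ j ∈ J, (Sigma.ι (fun i => (F i).obj) j).app (op T) (y j)) =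
      ∑ j ∈ J, (Sigma.ι F j).hom.app (op T) (y j) := by
    rw [map_sum]
    exact Finset.sum_congr rfl fun j _ => hi j
  have hp : ∀ i, (coprodProj F i).hom.app (op T) (∑ j ∈ J, (Sigma.ι F j).hom.app (op T) (y j)) =
      if i ∈ J then y i else 0 := fun i => by
    rw [map_sum]
    by_cases h : i ∈ J
    · rw [if_pos h, Finset.sum_eq_single i (fun j _ hj => proj_ι_ne F T hj (y j)) (fun h' => absurd h h')]
      exact proj_ι_self F T i (y i)
    · rw [if_neg h]
      exact Finset.sum_eq_zero fun j hj => proj_ι_ne F T (fun e => h (by rwa [← e])) (y j)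
  refine ⟨J, ?_, fun i hi' => ?_⟩
  · refine hx.trans (Finset.sum_congr rfl fun i hi' => ?_)
    exact congrArg _ ((if_pos hi').symm.trans ((hp i).symm.trans (congrArg ((coprodProj F i).hom.app (op T)) hx.symm)))
  · exact (congrArg ((coprodProj F i).hom.app (op T)) hx).trans ((hp i).trans (if_neg hi'))

/-- Sections over quasi-compact objects of a coproduct are finite sums. -/
theorem sections_coproduct (T : X.ProEt) [CompactSpace ↥T.left] (s : ProEtS.sectP (∐ F) T) :
    ∃ J : Finset ι, s = (∑ i ∈ J, (Sigma.ι F i).hom.app (op T) ((coprodProj F i).hom.app (op T) s)) ∧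
      ∀ i ∉ J, (coprodProj F i).hom.app (op T) s = 0 := by
  classical
  obtain ⟨V, g, hg, hVa, -⟩ := exists_affine_wc_cover T
  haveI := hVa
  haveI := isLocallySurjective_coprodEta F
  obtain ⟨n, Z, h, -, hmem, hcov, -⟩ := exists_finite_affine' _ ((Scheme.ProEt.topology X).pullback_stable g
    (Presheaf.imageSieve_mem (Scheme.ProEt.topology X) (coprodEta F) (U := op T) s))
  choose x hx using fun k => hmem k
  choose J hJ hJ0 using fun k => coprodEta_form F (Z k) (x k)
  let R : Sieve T := Sieve.ofArrows Z fun k => h k ≫ g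
  have hR : R ∈ Scheme.ProEt.topology X T := by
    refine (Scheme.ProEt.topology X).transitive hg _ ?_
    rintro Y _ ⟨_, a, _, ⟨⟩, rfl⟩
    rw [Sieve.pullback_comp]
    refine (Scheme.ProEt.topology X).pullback_stable a (GrothendieckTopology.superset_covering _ ?_ hcov)
    rw [Sieve.generate_le_iff]
    rintro _ _ ⟨k⟩
    exact Sieve.ofArrows_mk _ _ k
  have sep : ∀ (G : ProEtS.AbP X) (a b : ProEtS.sectP G T), (∀ k, G.obj.map (h k ≫ g).op a = G.obj.map (h k ≫ g).op b) →
      a = b := fun G a b hab =>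
    (((isSheaf_iff_isSheaf_of_type _ _).1
      ((Presheaf.isSheaf_iff_isSheaf_forget _ _ (forget AddCommGrpCat.{u + 1})).1 G.property)) _ hR).isSeparatedFor.ext
      fun Y q hq => by
        obtain ⟨k, c, rfl⟩ := (Sieve.mem_ofArrows_iff _ _ _).1 hq
        show G.obj.map (c ≫ h k ≫ g).op a = G.obj.map (c ≫ h k ≫ g).op b
        rw [op_comp, G.obj.map_comp, ConcreteCategory.comp_apply, ConcreteCategory.comp_apply, hab k]
  have hz : ∀ (k : Fin n) i, (F i).obj.map (h k ≫ g).op ((coprodProj F i).hom.app (op T) s) =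
      (coprodProj F i).hom.app (op (Z k)) ((coprodEta F).app (op (Z k)) (x k)) := fun k i =>
    (NatTrans.naturality_apply (coprodProj F i).hom (h k ≫ g).op s).symm.trans
      (congrArg ((coprodProj F i).hom.app (op (Z k))) (hx k).symm)
  refine ⟨Finset.univ.biUnion J, sep _ _ _ fun k => ?_, fun i hi => sep _ _ _ fun k => ?_⟩
  · rw [map_sum]
    refine ((hx k).symm.trans (hJ k)).trans ?_
    have e : ∀ i, (∐ F).obj.map (h k ≫ g).op ((Sigma.ι F i).hom.app (op T) ((coprodProj F i).hom.app (op T) s)) =
        (Sigma.ι F i).hom.app (op (Z k)) ((coprodProj F i).hom.app (op (Z k)) ((coprodEta F).app (op (Z k)) (x k))) :=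
      fun i => (NatTrans.naturality_apply (Sigma.ι F i).hom (h k ≫ g).op _).symm.trans (congrArg _ (hz k i))
    rw [Finset.sum_congr rfl fun i _ => e i]
    exact Finset.sum_subset (Finset.subset_biUnion_of_mem J (Finset.mem_univ k)) fun i _ hi => by
      rw [hJ0 k i hi, map_zero]
  · rw [map_zero, hz k i]
    exact hJ0 k i fun h' => hi (Finset.mem_biUnion.2 ⟨k, Finset.mem_univ k, h'⟩)

end Groth.Agent.EpsLib
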