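import Groth.Agent.EpsLib.DCAlg
import Mathlib.RingTheory.Filtration
import Mathlib.RingTheory.Flat.EquationalCriterion
import Mathlib.RingTheory.MvPolynomial.Ideal
import Mathlib.RingTheory.Polynomial.Basic
import Mathlib.Data.Finsupp.Fin
import Mathlib.Data.Finsupp.Weight

/-! Series in `a_1, …, a_r` with coefficients in a flat module, and their sums in derived complete modules. -/

set_option autoImplicit false
universe w

open MvPolynomial

namespace Groth.Agent.EpsLib.DC

variable {Λ : Type w} [CommRing Λ]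

section Flat

variable {r : ℕ} (a : Fin r → Λ) {M : Type w} [AddCommGroup M] [Module Λ M]

/-- The monomial `a^α`. -/
def mon (α : Fin r →₀ ℕ) : Λ := ∏ k, a k ^ α k

theorem mon_mem {I : Ideal Λ} (ha : ∀ k, a k ∈ I) (α : Fin r →₀ ℕ) : mon a α ∈ I ^ Finsupp.degree α := by
  rw [Finsupp.degree_eq_sum, ← Finset.prod_pow_eq_pow_sum]
  exact Ideal.prod_mem_prod fun k _ => Ideal.pow_mem_pow (ha k) _

/-- Evaluation of finitely supported series. -/
noncomputable def evalS : ((Fin r →₀ ℕ) →₀ M) →ₗ[Λ] M := Finsupp.lsum Λ fun α => mon a α • LinearMap.id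

theorem evalS_eq (h : (Fin r →₀ ℕ) →₀ M) (s : Finset (Fin r →₀ ℕ)) (hs : h.support ⊆ s) :
    evalS a h = ∑ α ∈ s, mon a α • h α := by
  rw [evalS, Finsupp.lsum_apply, Finsupp.sum_of_support_subset h hs _ fun α _ => map_zero _]
  rfl

theorem evalS_mem (h : (Fin r →₀ ℕ) →₀ M) (n : ℕ) (hn : ∀ α, Finsupp.degree α < n → h α = 0) :
    evalS a h ∈ Ideal.span (Set.range a) ^ n • (⊤ : Submodule Λ M) := by
  rw [evalS_eq a h _ subset_rfl]
  refine Submodule.sum_mem _ fun α hα => Submodule.smul_mem_smul ?_ Submodule.mem_top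
  refine Ideal.pow_le_pow_right (le_of_not_gt fun h' => Finsupp.mem_support_iff.1 hα (hn α h')) ?_
  exact mon_mem a (fun k => Ideal.subset_span (Set.mem_range_self k)) α

theorem map_eval_pow (n : ℕ) :
    (idealOfVars (Fin r) Λ ^ n).map (eval a) = Ideal.span (Set.range a) ^ n := by
  rw [Ideal.map_pow, idealOfVars, Ideal.map_span, ← Set.range_comp]
  congr 2
  exact congrArg Set.range (funext fun k => eval_X k)

theorem exists_evalS_eq (n : ℕ) {c : M} (hc : c ∈ Ideal.span (Set.range a) ^ n • (⊤ : Submodule Λ M)) :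
    ∃ h : (Fin r →₀ ℕ) →₀ M, (∀ α, Finsupp.degree α < n → h α = 0) ∧ evalS a h = c := by
  refine Submodule.smul_induction_on hc (fun t ht m _ => ?_) fun x y ⟨h, h1, h2⟩ ⟨h', h1', h2'⟩ =>
    ⟨h + h', fun α hα => by rw [Finsupp.add_apply, h1 α hα, h1' α hα, add_zero], by rw [map_add, h2, h2']⟩
  rw [← map_eval_pow] at ht
  obtain ⟨p, hp, rfl⟩ := (Ideal.mem_map_iff_of_surjective (eval a) (show Function.Surjective (eval a) from fun t => ⟨C t, eval_C t⟩)).1 ht
  refine ⟨Finsupp.onFinset p.support (fun α => p.coeff α • m) fun α hα => mem_support_iff.2 fun h => hα (by rw [h, zero_smul]),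
    fun α hα => ?_, ?_⟩
  · rw [Finsupp.onFinset_apply, (mem_pow_idealOfVars_iff' n p).1 hp α hα, zero_smul]
  · rw [evalS_eq a _ _ Finsupp.support_onFinset_subset, eval_eq', Finset.sum_smul]
    exact Finset.sum_congr rfl fun α _ => by rw [Finsupp.onFinset_apply, smul_smul, mul_comm]; rfl

theorem ker_eval : RingHom.ker (eval a) = Ideal.span (Set.range fun k => X k - C (a k)) := by
  refine le_antisymm (fun p hp => ?_) (Ideal.span_le.2 ?_)
  · have h : ∀ q : MvPolynomial (Fin r) Λ, q - C (eval a q) ∈ Ideal.span (Set.range fun k => X k - C (a k)) := fun q => by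
      induction q using MvPolynomial.induction_on with
      | C t => simp
      | add p q hp hq =>
        rw [map_add, map_add, add_sub_add_comm]
        exact add_mem hp hq
      | mul_X p k hp =>
        rw [map_mul, eval_X, map_mul, show p * X k - C (eval a p) * C (a k) =
          (p - C (eval a p)) * X k + C (eval a p) * (X k - C (a k)) by ring]
        exact add_mem (Ideal.mul_mem_right _ _ hp) (Ideal.mul_mem_left _ _ (Ideal.subset_span ⟨k, rfl⟩))
    have := h p
    rwa [(RingHom.mem_ker).1 hp, map_zero, sub_zero] at this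
  · rintro _ ⟨k, rfl⟩
    simp [RingHom.mem_ker]

variable (Λ M) in
/-- Multiplication by `T_k` on series. -/
noncomputable def shiftS (k : Fin r) : ((Fin r →₀ ℕ) → M) →ₗ[Λ] ((Fin r →₀ ℕ) → M) where
  toFun g α := if α k = 0 then 0 else g (α - Finsupp.single k 1)
  map_add' g g' := funext fun α => by by_cases h : α k = 0 <;> simp [h]
  map_smul' c g := funext fun α => by by_cases h : α k = 0 <;> simp [h]

theorem coeff_X_sub_C_mul (k : Fin r) (c : Λ) (q : MvPolynomial (Fin r) Λ) (α : Fin r →₀ ℕ) :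
    coeff α (q * (X k - C c)) = shiftS Λ Λ k (fun β => coeff β q) α - c * coeff α q := by
  rw [mul_comm, sub_mul, coeff_sub, coeff_X_mul', coeff_C_mul]
  by_cases h : α k = 0 <;> simp [shiftS, h]

theorem exists_step [IsNoetherianRing Λ] [Module.Flat Λ M] : ∃ c : ℕ, ∀ (n : ℕ) (x : (Fin r →₀ ℕ) →₀ M),
    (∀ α, Finsupp.degree α < n → x α = 0) → evalS a x = 0 →
      ∃ q : Fin r → (Fin r →₀ ℕ) → M, (∀ k α, Finsupp.degree α + c < n → q k α = 0) ∧
        ∀ α, x α = ∑ k, (shiftS Λ M k (q k) α - a k • q k α) := by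
  classical
  let J := idealOfVars (Fin r) Λ
  let K := RingHom.ker (eval a)
  obtain ⟨c, hc⟩ := Ideal.exists_pow_inf_eq_pow_smul J (M := MvPolynomial (Fin r) Λ) K
  have key : ∀ (n : ℕ) (p : MvPolynomial (Fin r) Λ), p ∈ J ^ n → p ∈ K →
      ∃ q : Fin r → MvPolynomial (Fin r) Λ, (∀ k, q k ∈ J ^ (n - c)) ∧ p = ∑ k, q k * (X k - C (a k)) := by
    intro n p hp hpK
    have h1 : p ∈ J ^ (n - c) • K := by
      by_cases hn : c ≤ n
      · have h2 : p ∈ J ^ n • ⊤ ⊓ K := ⟨by rw [smul_eq_mul, Ideal.mul_top]; exact hp, hpK⟩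
        rw [hc n hn] at h2
        exact Submodule.smul_mono le_rfl inf_le_right h2
      · rw [show n - c = 0 by omega, pow_zero, Ideal.one_eq_top, Submodule.top_smul]
        exact hpK
    rw [show K = _ from ker_eval a] at h1
    obtain ⟨q, hq, rfl⟩ := (Submodule.mem_ideal_smul_span_iff_exists_sum _ _ _).1 h1
    exact ⟨q, hq, Finsupp.sum_fintype _ _ fun k => zero_smul _ _⟩
  refine ⟨c, fun n x hx h0 => ?_⟩
  rw [evalS_eq a x _ subset_rfl, ← Finset.sum_coe_sort] at h0
  obtain ⟨l, b, y, hxy, hb⟩ := Module.Flat.isTrivialRelation_of_sum_smul_eq_zero h0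
  let p : Fin l → MvPolynomial (Fin r) Λ := fun j => ∑ α : x.support, monomial α.1 (b α j)
  have hp : ∀ j α, coeff α (p j) = if h : α ∈ x.support then b ⟨α, h⟩ j else 0 := fun j α => by
    simp only [p, coeff_sum, coeff_monomial]
    split_ifs with h
    · rw [Finset.sum_eq_single ⟨α, h⟩] <;> simp +contextual [Subtype.ext_iff]
    · exact Finset.sum_eq_zero fun β _ => if_neg fun e => h (by subst e; exact β.2)
  choose q hq hpq using fun j => key n (p j) ((mem_pow_idealOfVars_iff' n _).2 fun α hα => by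
      rw [hp, dif_neg fun h => Finsupp.mem_support_iff.1 h (hx α hα)])
    (show eval a (p j) = 0 by
      simp only [p, map_sum, eval_monomial, Finsupp.prod_fintype _ _ fun k => pow_zero (a k)]
      exact (Finset.sum_congr rfl fun α _ => mul_comm _ _).trans (hb j))
  refine ⟨fun k α => ∑ j, coeff α (q j k) • y j, fun k α hα => Finset.sum_eq_zero fun j _ => ?_, fun α => ?_⟩
  · rw [(mem_pow_idealOfVars_iff' _ _).1 (hq j k) α (by omega), zero_smul]
  · have h1 : x α = ∑ j, coeff α (p j) • y j := by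
      by_cases h : α ∈ x.support
      · exact (hxy ⟨α, h⟩).trans (Finset.sum_congr rfl fun j _ => by rw [hp, dif_pos h])
      · rw [Finsupp.notMem_support_iff.1 h]
        exact (Finset.sum_eq_zero fun j _ => by rw [hp, dif_neg h, zero_smul]).symm
    rw [h1]
    simp only [hpq, coeff_sum, coeff_X_sub_C_mul, Finset.sum_smul]
    rw [Finset.sum_comm]
    refine Finset.sum_congr rfl fun k _ => ?_
    simp only [sub_smul, Finset.sum_sub_distrib, Finset.smul_sum, smul_smul]
    congr 1
    by_cases h : α k = 0 <;> simp [shiftS, h]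

/-- The set of exponents of degree `< n`. -/
noncomputable def degLT (r n : ℕ) : Finset (Fin r →₀ ℕ) :=
  ((Finsupp.finite_of_degree_le n).subset (fun α (h : Finsupp.degree α < n) => h.le)).toFinset

theorem mem_degLT {n : ℕ} {α : Fin r →₀ ℕ} : α ∈ degLT r n ↔ Finsupp.degree α < n := Set.Finite.mem_toFinset _

/-- Truncated evaluation. -/
noncomputable def evN (n : ℕ) (g : (Fin r →₀ ℕ) → M) : M := ∑ α ∈ degLT r n, mon a α • g α

/-- Truncation. -/
noncomputable def truncS (n : ℕ) (g : (Fin r →₀ ℕ) → M) : (Fin r →₀ ℕ) →₀ M :=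
  Finsupp.indicator (degLT r n) fun α _ => g α

theorem truncS_apply (n : ℕ) (g : (Fin r →₀ ℕ) → M) (α : Fin r →₀ ℕ) :
    truncS n g α = if Finsupp.degree α < n then g α else 0 := by
  rw [truncS]
  by_cases h : Finsupp.degree α < n
  · rw [Finsupp.indicator_of_mem (mem_degLT.2 h), if_pos h]
  · rw [Finsupp.indicator_of_notMem (fun h' => h (mem_degLT.1 h')), if_neg h]

theorem evalS_truncS (n : ℕ) (g : (Fin r →₀ ℕ) → M) : evalS a (truncS n g) = evN a n g := by
  rw [evalS_eq a (truncS n g) (degLT r n) (Finsupp.support_indicator_subset _ _)]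
  exact Finset.sum_congr rfl fun α h => by rw [truncS_apply, if_pos (mem_degLT.1 h)]

theorem exists_series_of_evN_mem [IsNoetherianRing Λ] [Module.Flat Λ M] (g : (Fin r →₀ ℕ) → M)
    (hg : ∀ n, evN a n g ∈ Ideal.span (Set.range a) ^ n • (⊤ : Submodule Λ M)) :
    ∃ Q : Fin r → (Fin r →₀ ℕ) → M, g = ∑ k, (shiftS Λ M k (Q k) - a k • Q k) := by
  classical
  obtain ⟨c, hc⟩ := exists_step a (M := M)
  choose h hh1 hh2 using fun n => exists_evalS_eq a n (hg n)
  let P : ℕ → (Fin r →₀ ℕ) →₀ M := fun n => truncS n g - h n + if n = 0 then h 0 else 0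
  have hE : ∀ n, evalS a (P n) = 0 := fun n => by
    simp only [P, map_add, map_sub, evalS_truncS, hh2]
    rw [sub_self, zero_add]
    split_ifs with hn
    · rw [hh2]
      exact Finset.sum_eq_zero fun α hα => absurd (mem_degLT.1 hα) (by omega)
    · exact map_zero _
  have hP0 : P 0 = 0 := Finsupp.ext fun α => by simp [P, truncS_apply]
  have hlow : ∀ n α, Finsupp.degree α < n → P n α = g α := fun n α hα => by
    simp [P, truncS_apply, hα, hh1 n α hα, show n ≠ 0 by omega]
  choose q hq1 hq2 using fun n => hc n (P (n + 1) - P n) (fun α hα => by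
    rw [Finsupp.sub_apply, hlow _ α (by omega), hlow _ α hα, sub_self]) (by rw [map_sub, hE, hE, sub_self])
  let Q : Fin r → (Fin r →₀ ℕ) → M := fun k α => ∑ n ∈ Finset.range (Finsupp.degree α + c + 1), q n k α
  have hQ : ∀ k α N, Finsupp.degree α + c + 1 ≤ N → Q k α = ∑ n ∈ Finset.range N, q n k α := fun k α N hN =>
    Finset.sum_subset (Finset.range_mono hN) fun n _ hn => hq1 n k α (by rw [Finset.mem_range] at hn; omega)
  refine ⟨Q, funext fun α => ?_⟩
  let N := Finsupp.degree α + c + 1
  rw [← hlow N α (by omega), show P N α = ∑ n ∈ Finset.range N, (P (n + 1) α - P n α) by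
    rw [Finset.sum_range_sub (fun n => P n α), hP0, Finsupp.zero_apply, sub_zero]]
  simp only [← Finsupp.sub_apply, hq2]
  rw [Finset.sum_apply, Finset.sum_comm]
  refine Finset.sum_congr rfl fun k _ => ?_
  rw [Finset.sum_sub_distrib, Pi.sub_apply, Pi.smul_apply, hQ k α N le_rfl, Finset.smul_sum]
  congr 1
  by_cases hk : α k = 0
  · simp [shiftS, hk]
  · simp only [shiftS, LinearMap.coe_mk, AddHom.coe_mk, if_neg hk]
    exact (hQ k _ N (Nat.succ_le_succ (Nat.add_le_add_right (Finsupp.degree_mono tsub_le_self) c))).symm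

theorem exists_series_of_approx (m : ℕ → M) (h0 : m 0 = 0)
    (hm : ∀ n, m (n + 1) - m n ∈ Ideal.span (Set.range a) ^ n • (⊤ : Submodule Λ M)) :
    ∃ g : (Fin r →₀ ℕ) → M, ∀ n, evN a n g - m n ∈ Ideal.span (Set.range a) ^ n • (⊤ : Submodule Λ M) := by
  classical
  choose h hh1 hh2 using fun n => exists_evalS_eq a n (hm n)
  let g : (Fin r →₀ ℕ) → M := fun α => ∑ n ∈ Finset.range (Finsupp.degree α + 1), h n α
  refine ⟨g, fun N => ?_⟩
  have hsum : m N = evalS a (∑ n ∈ Finset.range N, h n) := by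
    simp only [map_sum, hh2, Finset.sum_range_sub, h0, sub_zero]
  rw [← evalS_truncS, hsum, ← map_sub]
  refine evalS_mem a _ N fun α hα => ?_
  rw [Finsupp.sub_apply, truncS_apply, if_pos hα, Finsupp.finsetSum_apply, sub_eq_zero]
  exact Finset.sum_subset (Finset.range_mono (by omega)) fun n _ hn => hh1 n α (by
    rw [Finset.mem_range] at hn; omega)

end Flat

section Sum

variable {N : Type w} [AddCommGroup N] [Module Λ N]

/-- The sum `∑ f^n y_n` in a derived complete module. -/
noncomputable def sum₁ (f : Λ) (hf : Function.Bijective (phi f N)) : (ℕ → N) →ₗ[Λ] N :=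
  -((LinearMap.proj 0).comp (LinearEquiv.ofBijective (phi f N) hf).symm.toLinearMap)

theorem sum₁_eq {f : Λ} (hf : Function.Bijective (phi f N)) (y : ℕ → N) (x : ℕ → N) (hx : phi f N x = y) :
    sum₁ f hf y = -x 0 := by
  subst hx
  show -((LinearEquiv.ofBijective (phi f N) hf).symm (LinearEquiv.ofBijective (phi f N) hf x) 0) = _
  rw [LinearEquiv.symm_apply_apply]

theorem sum₁_succ {f : Λ} (hf : Function.Bijective (phi f N)) (y : ℕ → N) :
    sum₁ f hf y = y 0 + f • sum₁ f hf fun n => y (n + 1) := by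
  obtain ⟨x, hx⟩ := hf.2 y
  rw [sum₁_eq hf y x hx, sum₁_eq hf _ (fun n => x (n + 1)) (funext fun n => congrFun hx (n + 1)), ← congrFun hx 0]
  show -x 0 = f • x 1 - x 0 + f • -x 1
  rw [smul_neg]
  abel

/-- The sum `∑ a^α g_α` in a derived complete module. -/
noncomputable def sumS : {r : ℕ} → (a : Fin r → Λ) → (∀ k, Function.Bijective (phi (a k) N)) →
    ((Fin r →₀ ℕ) → N) →ₗ[Λ] N
  | 0, _, _ => LinearMap.proj 0
  | _ + 1, a, ha => (sum₁ (a 0) (ha 0)).comp (LinearMap.pi fun n =>
      (sumS (Fin.tail a) (fun k => ha k.succ)).comp (LinearMap.funLeft Λ N (Finsupp.cons n)))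

theorem sumS_succ {r : ℕ} (a : Fin (r + 1) → Λ) (ha : ∀ k, Function.Bijective (phi (a k) N))
    (g : (Fin (r + 1) →₀ ℕ) → N) : sumS a ha g =
      sum₁ (a 0) (ha 0) fun n => sumS (Fin.tail a) (fun k => ha k.succ) fun β => g (Finsupp.cons n β) := rfl

theorem sumS_shift {r : ℕ} (a : Fin r → Λ) (ha : ∀ k, Function.Bijective (phi (a k) N)) (k : Fin r)
    (g : (Fin r →₀ ℕ) → N) : sumS a ha (shiftS Λ N k g) = a k • sumS a ha g := by
  induction r with
  | zero => exact k.elim0
  | succ r ih =>
    rw [sumS_succ, sumS_succ]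
    refine Fin.cases ?_ (fun j => ?_) k
    · rw [sum₁_succ]
      have h0 : (fun β => shiftS Λ N 0 g (Finsupp.cons 0 β)) = 0 := funext fun β => by simp [shiftS]
      have h1 : ∀ n, (fun β => shiftS Λ N 0 g (Finsupp.cons (n + 1) β)) = fun β => g (Finsupp.cons n β) :=
        fun n => funext fun β => by
          have e : Finsupp.cons (n + 1) β - Finsupp.single 0 1 = Finsupp.cons n β := Finsupp.ext fun i => by
            refine Fin.cases ?_ (fun j => ?_) i
            · simp
            · simp [Finsupp.single_eq_of_ne]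
          simp [shiftS, e]
      simp only [h0, h1, map_zero, zero_add]
    · have h1 : ∀ n, (fun β => shiftS Λ N j.succ g (Finsupp.cons n β)) = shiftS Λ N j fun β => g (Finsupp.cons n β) :=
        fun n => funext fun β => by
          have e : Finsupp.cons n β - Finsupp.single j.succ 1 = Finsupp.cons n (β - Finsupp.single j 1) :=
            Finsupp.ext fun i => by
              refine Fin.cases ?_ (fun i' => ?_) i
              · simp
              · simp [Finsupp.single_apply]
          simp [shiftS, e]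
      simp only [h1]
      exact (congrArg _ (funext fun n => ih (Fin.tail a) (fun k => ha k.succ) j _)).trans
        (map_smul (sum₁ (a 0) (ha 0)) (a j.succ) _)

theorem sumS_single {r : ℕ} (a : Fin r → Λ) (ha : ∀ k, Function.Bijective (phi (a k) N)) (m : N) :
    sumS a ha (fun α => if α = 0 then m else 0) = m := by
  induction r with
  | zero => simp [sumS]
  | succ r ih =>
    rw [sumS_succ, sum₁_succ]
    have h0 : (fun β : Fin r →₀ ℕ => if Finsupp.cons 0 β = 0 then m else 0) = fun β => if β = 0 then m else 0 :=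
      funext fun β => by
        by_cases h : β = 0
        · subst h; simp [Finsupp.cons_zero_zero]
        · simp [h, Finsupp.cons_ne_zero_of_right h]
    have h1 : ∀ n : ℕ, (fun β : Fin r →₀ ℕ => if Finsupp.cons (n + 1) β = 0 then m else 0) = 0 := fun n =>
      funext fun β => by simp [Finsupp.cons_ne_zero_of_left]
    simp only [h0, h1, map_zero]
    rw [ih (Fin.tail a) fun k => ha k.succ]
    rw [show (fun _ : ℕ => (0 : N)) = 0 from rfl, map_zero, smul_zero, add_zero]

theorem sumS_natural {r : ℕ} (a : Fin r → Λ) (ha : ∀ k, Function.Bijective (phi (a k) N))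
    {N' : Type w} [AddCommGroup N'] [Module Λ N'] (ha' : ∀ k, Function.Bijective (phi (a k) N'))
    (φ : N →ₗ[Λ] N') (g : (Fin r →₀ ℕ) → N) : φ (sumS a ha g) = sumS a ha' fun α => φ (g α) := by
  induction r with
  | zero => rfl
  | succ r ih =>
    rw [sumS_succ, sumS_succ]
    obtain ⟨x, hx⟩ := (ha 0).2 fun n => sumS (Fin.tail a) (fun k => ha k.succ) fun β => g (Finsupp.cons n β)
    rw [sum₁_eq (ha 0) _ x hx, sum₁_eq (ha' 0) _ (fun n => φ (x n)) ?_, map_neg]
    rw [phi_comp, hx]
    exact funext fun n => ih (Fin.tail a) _ (fun k => ha' k.succ) _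

end Sum

end Groth.Agent.EpsLib.DC
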