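import Groth.Agent.EpsLib.DCResults
import Groth.Agent.EpsLib.DCSeries

/-! Sections of constant sheaves over weakly contractible objects. -/

set_option autoImplicit false
set_option linter.style.haveILetI false
set_option backward.isDefEq.respectTransparency false
set_option synthInstance.maxHeartbeats 400000
set_option maxHeartbeats 1000000
universe u

open CategoryTheory CategoryTheory.Limits AlgebraicGeometry Opposite

namespace Groth.Agent.EpsLib.DC

variable (Λ : Type (u + 1)) [CommRing Λ] {X : Scheme.{u}}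

/-- Constant sheaves. -/
noncomputable abbrev cst (X : Scheme.{u}) : ModuleCat.{u + 1} Λ ⥤ EtModW.ModP Λ X :=
  constantSheaf (Scheme.ProEt.topology X) (ModuleCat.{u + 1} Λ)

variable {Λ}

theorem cst_map_smul {A B : ModuleCat.{u + 1} Λ} (c : Λ) (f : A ⟶ B) :
    (cst Λ X).map (c • f) = c • (cst Λ X).map f := by
  let adj := sheafificationAdjunction (Scheme.ProEt.topology X) (ModuleCat.{u + 1} Λ)
  apply (adj.homEquiv ((Functor.const X.ProEtᵒᵖ).obj A) _).injective
  rw [Adjunction.homEquiv_unit, Adjunction.homEquiv_unit]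
  have h1 : ∀ g : A ⟶ B, adj.unit.app ((Functor.const X.ProEtᵒᵖ).obj A) ≫ ((cst Λ X).map g).hom =
      (Functor.const X.ProEtᵒᵖ).map g ≫ adj.unit.app ((Functor.const X.ProEtᵒᵖ).obj B) := fun g =>
    (adj.unit.naturality ((Functor.const X.ProEtᵒᵖ).map g)).symm
  show adj.unit.app _ ≫ ((cst Λ X).map (c • f)).hom = adj.unit.app _ ≫ (c • (cst Λ X).map f).hom
  rw [h1, show (c • (cst Λ X).map f).hom = c • ((cst Λ X).map f).hom from rfl, Linear.comp_smul, h1]
  rw [← Linear.smul_comp]
  rfl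

instance cst_preservesFiniteLimits : PreservesFiniteLimits (cst Λ X) :=
  comp_preservesFiniteLimits _ _

instance cst_preservesFiniteColimits : PreservesFiniteColimits (cst Λ X) :=
  comp_preservesFiniteColimits _ _

instance cst_additive : (cst Λ X).Additive :=
  Functor.additive_of_preserves_binary_products _

theorem cst_map_smul_id (c : Λ) (A : ModuleCat.{u + 1} Λ) : (cst Λ X).map (c • 𝟙 A) = c • 𝟙 _ := by
  rw [cst_map_smul, CategoryTheory.Functor.map_id]

theorem evM_exact_mid {W : X.ProEt} (hW : ProEtS.IsWC W) {S : ShortComplex (EtModW.ModP Λ X)} (hS : S.Exact)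
    {x : (evM Λ W).obj S.X₂} (hx : ((evM Λ W).map S.g).hom x = 0) : ∃ z, ((evM Λ W).map S.f).hom z = x := by
  haveI : Epi (kernel.lift S.g S.f S.zero) := (S.exact_iff_epi_kernel_lift).1 hS
  have hex := (ShortComplex.ShortExact.moduleCat_exact_iff_function_exact _).1
    ((ShortComplex.exact_of_f_is_kernel (ShortComplex.mk (kernel.ι S.g) S.g (kernel.condition S.g))
      (kernelIsKernel S.g)).map_of_mono_of_preservesKernel (evM Λ W) inferInstance inferInstance)
  obtain ⟨y, rfl⟩ := (hex x).1 hx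
  obtain ⟨z, rfl⟩ := evM_surjective hW (kernel.lift S.g S.f S.zero) y
  refine ⟨z, ?_⟩
  conv_lhs => rw [← kernel.lift_ι S.g S.f S.zero, Functor.map_comp]
  rfl

variable (Λ) in
/-- Sections of the constant sheaf with value `Λ`. -/
noncomputable abbrev MW (W : X.ProEt) : ModuleCat.{u + 1} Λ := (evM Λ W).obj ((cst Λ X).obj (ModuleCat.of Λ Λ))

/-- Sections of constant sheaves along a linear map. -/
noncomputable def secMap (W : X.ProEt) {A B : Type (u + 1)} [AddCommGroup A] [Module Λ A] [AddCommGroup B] [Module Λ B]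
    (L : A →ₗ[Λ] B) : (evM Λ W).obj ((cst Λ X).obj (ModuleCat.of Λ A)) →ₗ[Λ]
      (evM Λ W).obj ((cst Λ X).obj (ModuleCat.of Λ B)) :=
  ((evM Λ W).map ((cst Λ X).map (ModuleCat.ofHom L))).hom

section Sec

variable (W : X.ProEt) {A B C : Type (u + 1)} [AddCommGroup A] [Module Λ A] [AddCommGroup B] [Module Λ B]
  [AddCommGroup C] [Module Λ C]

theorem secMap_id (z) : secMap (X := X) W (LinearMap.id : A →ₗ[Λ] A) z = z := by
  rw [secMap, show ModuleCat.ofHom (LinearMap.id : A →ₗ[Λ] A) = 𝟙 _ from rfl, CategoryTheory.Functor.map_id, CategoryTheory.Functor.map_id]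
  rfl

theorem secMap_comp (L : A →ₗ[Λ] B) (L' : B →ₗ[Λ] C) (z) :
    secMap W (L' ∘ₗ L) z = secMap W L' (secMap W L z) := by
  rw [secMap, ModuleCat.ofHom_comp, Functor.map_comp, Functor.map_comp]
  rfl

theorem secMap_smul (c : Λ) (L : A →ₗ[Λ] B) (z) : secMap W (c • L) z = c • secMap W L z := by
  rw [secMap, show ModuleCat.ofHom (c • L) = c • ModuleCat.ofHom L from rfl, cst_map_smul]
  rfl

theorem secMap_sum {ι : Type*} (s : Finset ι) (L : ι → (A →ₗ[Λ] B)) (z) :
    secMap W (∑ i ∈ s, L i) z = ∑ i ∈ s, secMap W (L i) z := by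
  rw [secMap, show ModuleCat.ofHom (∑ i ∈ s, L i) = ∑ i ∈ s, ModuleCat.ofHom (L i) from
    (ModuleCat.hom_ext (by rw [ModuleCat.hom_sum]; rfl)), Functor.map_sum, Functor.map_sum, ModuleCat.hom_sum,
    LinearMap.sum_apply]
  rfl

variable {W}

theorem secMap_surjective (hW : ProEtS.IsWC W) {L : A →ₗ[Λ] B} (hL : Function.Surjective L) :
    Function.Surjective (secMap (X := X) W L) := by
  haveI : Epi (ModuleCat.ofHom L) := (ModuleCat.epi_iff_surjective _).2 hL
  exact evM_surjective hW _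

theorem secMap_exact (hW : ProEtS.IsWC W) {L : A →ₗ[Λ] B} {L' : B →ₗ[Λ] C} (h : Function.Exact L L')
    {z : (evM Λ W).obj ((cst Λ X).obj (ModuleCat.of Λ B))} (hz : secMap W L' z = 0) : ∃ w, secMap W L w = z := by
  let S : ShortComplex (ModuleCat.{u + 1} Λ) := ShortComplex.mk (ModuleCat.ofHom L) (ModuleCat.ofHom L')
    (ModuleCat.hom_ext h.linearMap_comp_eq_zero)
  have hS : S.Exact := (ShortComplex.ShortExact.moduleCat_exact_iff_function_exact S).2 h
  exact evM_exact_mid hW (hS.map (cst Λ X)) hz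

theorem secMap_apply_pi {ι : Type} [Fintype ι] [DecidableEq ι] (G : (ι → Λ) →ₗ[Λ] B)
    (w : (evM Λ W).obj ((cst Λ X).obj (ModuleCat.of Λ (ι → Λ)))) :
    secMap W G w = ∑ j, secMap W (LinearMap.toSpanSingleton Λ B (G (Pi.single j 1))) (secMap W (LinearMap.proj j) w) := by
  conv_lhs => rw [show G = ∑ j, LinearMap.toSpanSingleton Λ B (G (Pi.single j 1)) ∘ₗ LinearMap.proj j from
    LinearMap.ext fun x => by
      rw [LinearMap.sum_apply]
      conv_lhs => rw [pi_eq_sum_univ' x, map_sum]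
      exact Finset.sum_congr rfl fun j _ => map_smul G (x j) _]
  rw [secMap_sum]
  exact Finset.sum_congr rfl fun j _ => secMap_comp _ _ _ _

theorem secMap_toSpanSingleton (c : Λ) (m : MW Λ W) : secMap W (LinearMap.toSpanSingleton Λ Λ c) m = c • m := by
  rw [show LinearMap.toSpanSingleton Λ Λ c = c • LinearMap.id from LinearMap.ext fun x => by simp [mul_comm],
    secMap_smul, secMap_id]

theorem flat_MW [IsNoetherianRing Λ] (hW : ProEtS.IsWC W) : Module.Flat Λ (MW Λ W) := by
  classical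
  refine Module.Flat.of_forall_isTrivialRelation fun {l f x} hfx => ?_
  let L : (Fin l → Λ) →ₗ[Λ] Λ := ∑ i, f i • LinearMap.proj i
  let z : (evM Λ W).obj ((cst Λ X).obj (ModuleCat.of Λ (Fin l → Λ))) :=
    ∑ i, secMap W (LinearMap.single Λ (fun _ => Λ) i) (x i)
  have hp : ∀ i, secMap W (LinearMap.proj i) z = x i := fun i => by
    simp only [z, map_sum, ← secMap_comp]
    rw [Finset.sum_eq_single i]
    · rw [LinearMap.proj_comp_single_same, secMap_id]
    · intro j _ hj
      rw [LinearMap.proj_comp_single_ne _ _ _ _ hj.symm]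
      simpa using secMap_smul W (0 : Λ) (0 : Λ →ₗ[Λ] Λ) (x j)
    · simp
  have hLz : secMap W L z = 0 := by
    simp only [L, secMap_sum, secMap_smul, hp]
    exact hfx
  obtain ⟨k, v, hv⟩ := (Submodule.fg_iff_exists_fin_linearMap _ _).1 (IsNoetherian.noetherian (LinearMap.ker L))
  obtain ⟨w, hw⟩ := secMap_exact hW (LinearMap.exact_iff.2 hv.symm) hLz
  refine ⟨k, fun i j => v (Pi.single j 1) i, fun j => secMap W (LinearMap.proj j) w, fun i => ?_, fun j => ?_⟩
  · rw [← hp i, ← hw, ← secMap_comp, secMap_apply_pi]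
    simp only [secMap_toSpanSingleton]
    rfl
  · have h1 : L (v (Pi.single j 1)) = 0 := LinearMap.mem_ker.1 (hv ▸ LinearMap.mem_range_self v _)
    simpa [L, LinearMap.sum_apply] using h1

theorem mem_smul_top_of_mkQ_eq_zero [IsNoetherianRing Λ] (hW : ProEtS.IsWC W) (J : Ideal Λ) (m : MW Λ W)
    (h : secMap W (J • ⊤ : Submodule Λ Λ).mkQ m = 0) : m ∈ J • (⊤ : Submodule Λ (MW Λ W)) := by
  classical
  obtain ⟨k, v, hv⟩ := (Submodule.fg_iff_exists_fin_linearMap _ _).1 (IsNoetherian.noetherian (J • ⊤ : Submodule Λ Λ))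
  obtain ⟨w, rfl⟩ := secMap_exact hW (L := v) (LinearMap.exact_iff.2 (by rw [Submodule.ker_mkQ, hv])) h
  rw [secMap_apply_pi]
  refine Submodule.sum_mem _ fun j _ => ?_
  rw [secMap_toSpanSingleton]
  refine Submodule.smul_mem_smul ?_ Submodule.mem_top
  have h1 : v (Pi.single j 1) ∈ (J • ⊤ : Submodule Λ Λ) := hv ▸ LinearMap.mem_range_self v _
  rwa [smul_eq_mul, Ideal.mul_top] at h1

theorem mkQ_eq_zero_of_mem_smul_top (J : Ideal Λ) {m : MW Λ W} (h : m ∈ J • (⊤ : Submodule Λ (MW Λ W))) :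
    secMap W (J • ⊤ : Submodule Λ Λ).mkQ m = 0 := by
  refine Submodule.smul_induction_on h (fun c hc y _ => ?_) fun x y hx hy => by rw [map_add, hx, hy, add_zero]
  rw [map_smul, ← secMap_smul, show c • (J • ⊤ : Submodule Λ Λ).mkQ = (0 : Λ) • (J • ⊤ : Submodule Λ Λ).mkQ from
    LinearMap.ext fun x => by
      rw [zero_smul, LinearMap.zero_apply, LinearMap.smul_apply, ← map_smul]
      exact (Submodule.Quotient.mk_eq_zero _).2 (Submodule.smul_mem_smul hc Submodule.mem_top),
    secMap_smul, zero_smul]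

end Sec

end Groth.Agent.EpsLib.DC
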