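import Groth.Agent.EpsLib.DCExt
import Groth.Agent.EpsLib.DCSheaf

/-! Derived completeness of a sheaf in terms of its sections over weakly contractible objects. -/

set_option autoImplicit false
set_option linter.style.haveILetI false
set_option backward.isDefEq.respectTransparency false
set_option synthInstance.maxHeartbeats 400000
set_option maxHeartbeats 1000000
universe u

open CategoryTheory CategoryTheory.Limits AlgebraicGeometry Opposite Abelian

namespace Groth.Agent.EpsLib.DC

variable {Λ : Type (u + 1)} [CommRing Λ] {X : Scheme.{u}}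

/-- Mapping out of `j_{W!} Λ_f`. -/
theorem exists_hom_locExt (W : X.ProEt) (f : Λ) {F : EtModW.ModP Λ X} {x : ℕ → (evM Λ W).obj F}
    (hx : phi f _ x = 0) : ∃ h : ProEtDC.locExt Λ W f ⟶ F,
      ∀ n, ((adjW Λ W).homEquiv _ _ h).hom (invPow f n) = x n := by
  obtain ⟨φ, hφ⟩ := exists_lift f hx
  refine ⟨((adjW Λ W).homEquiv (ModuleCat.of Λ (Localization.Away f)) F).symm (ModuleCat.ofHom φ), fun n => ?_⟩
  rw [Equiv.apply_symm_apply]
  exact hφ n

theorem homEquiv_locExt_comp (W : X.ProEt) (f : Λ) {F G : EtModW.ModP Λ X} (h : ProEtDC.locExt Λ W f ⟶ F)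
    (g : F ⟶ G) (n : ℕ) : ((adjW Λ W).homEquiv _ _ (h ≫ g)).hom (invPow f n) =
      ((evM Λ W).map g).hom (((adjW Λ W).homEquiv _ _ h).hom (invPow f n)) := by
  rw [Adjunction.homEquiv_naturality_right]
  rfl

theorem phi_homEquiv_locExt (W : X.ProEt) (f : Λ) {F : EtModW.ModP Λ X} (h : ProEtDC.locExt Λ W f ⟶ F) :
    phi f ((evM Λ W).obj F) (fun n => ((adjW Λ W).homEquiv _ _ h).hom (invPow f n)) = 0 :=
  phi_of_linearMap f ((adjW Λ W).homEquiv _ _ h).hom

theorem hom_locExt_ext (W : X.ProEt) (f : Λ) {F : EtModW.ModP Λ X} (h h' : ProEtDC.locExt Λ W f ⟶ F)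
    (H : ∀ n, ((adjW Λ W).homEquiv _ _ h).hom (invPow f n) = ((adjW Λ W).homEquiv _ _ h').hom (invPow f n)) : h = h' :=
  ((adjW Λ W).homEquiv _ _).injective (ModuleCat.hom_ext (lift_unique f _ _ H))

theorem phi_surjective_evM_injective (W : X.ProEt) (f : Λ) (I : EtModW.ModP Λ X) [Injective I] :
    Function.Surjective (phi f ((evM Λ W).obj I)) := by
  haveI := injective_evM_obj W I
  exact phi_surjective_of_injective f _

theorem subsingleton_ext_locExt {W : X.ProEt} (hW : ProEtS.IsWC W) (f : Λ) :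
    ∀ (n : ℕ) (F : EtModW.ModP Λ X), Function.Surjective (phi f ((evM Λ W).obj F)) →
      Subsingleton (Ext.{u + 1} (ProEtDC.locExt Λ W f) F (n + 1))
  | 0, F, hF => (subsingleton_ext_one_iff _ _).2 fun h => by
      have hS := embSeq_shortExact F
      obtain ⟨hi, hex⟩ := evM_exact W hS
      choose e he using fun n => evM_surjective hW (embSeq F).g (((adjW Λ W).homEquiv _ _ h).hom (invPow f n))
      have h0 : ∀ n, ((evM Λ W).map (embSeq F).g).hom (phi f _ e n) = 0 := fun n => by
        rw [← congrFun (phi_comp f ((evM Λ W).map (embSeq F).g).hom e) n]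
        simp only [he]
        exact congrFun (phi_homEquiv_locExt W f h) n
      choose d hd using fun n => (hex _).1 (h0 n)
      obtain ⟨z, hz⟩ := hF d
      have hx : phi f _ (e - fun n => ((evM Λ W).map (embSeq F).f).hom (z n)) = 0 := by
        rw [map_sub, phi_comp, hz]
        exact funext fun n => sub_eq_zero.2 (hd n).symm
      obtain ⟨l, hl⟩ := exists_hom_locExt W f hx
      refine ⟨l, hom_locExt_ext W f _ _ fun n => ?_⟩
      rw [homEquiv_locExt_comp, hl, Pi.sub_apply, map_sub, hex.apply_apply_eq_zero, sub_zero, he]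
  | n + 1, F, hF => (subsingleton_ext_succ_iff _ _ n).2 (subsingleton_ext_locExt hW f n _
      (phi_surjective_of_epi f ((evM Λ W).map (embSeq F).g).hom (evM_surjective hW _)
        (phi_surjective_evM_injective W f _)))

/-- Sheaves on which `f` is invertible are `Ext`-orthogonal to `F`. -/
theorem subsingleton_ext_of_inverse (f : Λ) {F : EtModW.ModP Λ X}
    (hF : ∀ W, ProEtS.IsWC W → Function.Bijective (phi f ((evM Λ W).obj F))) :
    ∀ (n : ℕ) (K : EtModW.ModP Λ X) (ν : K ⟶ K), f • ν = 𝟙 K → Subsingleton (Ext.{u + 1} K F n)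
  | 0, K, ν, hν => (subsingleton_ext_zero_iff _ _).2 fun h => hom_eq_zero_of_wc _ fun W hW k => by
      let m := ((evM Λ W).map ν).hom
      have hm : ∀ a, f • m a = a := fun a => congrArg (fun t => ((evM Λ W).map t).hom a) hν
      have hx : phi f _ (fun n => ((evM Λ W).map h).hom (m^[n] k)) = 0 := (phi_eq_zero_iff f _).2 fun n => by
        rw [← map_smul, Function.iterate_succ_apply', hm]
      exact congrFun ((hF W hW).1 (hx.trans (map_zero _).symm)) 0
  | n + 1, K, ν, hν => by
      classical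
      let ι := Σ W : { W : X.ProEt // ProEtS.IsWC W }, (evM Λ W.1).obj K
      let P : ι → EtModW.ModP Λ X := fun i => ProEtDC.locExt Λ i.1.1 f
      have hν' : ∀ (W : X.ProEt) a, f • ((evM Λ W).map ν).hom a = a := fun W a =>
        congrArg (fun t => ((evM Λ W).map t).hom a) hν
      have hcomp : ∀ i : ι, ∃ h : P i ⟶ K, ((adjW Λ i.1.1).homEquiv _ _ h).hom (invPow f 0) = i.2 := fun i => by
        obtain ⟨h, hh⟩ := exists_hom_locExt i.1.1 f (F := K) (x := fun n => (((evM Λ i.1.1).map ν).hom)^[n] i.2)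
          ((phi_eq_zero_iff f _).2 fun n => by rw [Function.iterate_succ_apply', hν'])
        exact ⟨h, hh 0⟩
      choose g hg using hcomp
      let π : ∐ P ⟶ K := Sigma.desc g
      haveI : Epi π := ⟨fun a b hab => by
        rw [← sub_eq_zero]
        refine hom_eq_zero_of_wc _ fun W hW k => ?_
        have h1 : g ⟨⟨W, hW⟩, k⟩ ≫ (a - b) = 0 := by
          rw [← Sigma.ι_desc g, Category.assoc, Preadditive.comp_sub, hab, sub_self, comp_zero]
        have h2 := homEquiv_locExt_comp W f (g ⟨⟨W, hW⟩, k⟩) (a - b) 0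
        refine ((congrArg ((evM Λ W).map (a - b)).hom (hg ⟨⟨W, hW⟩, k⟩)).symm.trans h2.symm).trans ?_
        rw [h1, Adjunction.homEquiv_unit, (evM Λ W).map_zero, comp_zero]
        rfl⟩
      let μ : ModuleCat.of Λ (Localization.Away f) ⟶ ModuleCat.of Λ (Localization.Away f) :=
        ModuleCat.ofHom (LinearMap.mulLeft Λ (invPow f 1))
      have hμ : f • μ = 𝟙 _ := by
        ext z : 2
        show f • (invPow f 1 * z) = z
        rw [← smul_mul_assoc, (phi_eq_zero_iff f _).1 (phi_invPow f) 0, invPow, IsLocalization.mk'_eq_mul_mk'_one]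
        simp
      let νP : ∐ P ⟶ ∐ P := Sigma.desc fun i => (GW Λ i.1.1).map μ ≫ Sigma.ι P i
      have hνP : f • νP = 𝟙 _ := Sigma.hom_ext _ _ fun i => by
        rw [Linear.comp_smul, Sigma.ι_desc, ← Linear.smul_comp, exists_inverse_GW i.1.1 f μ hμ]
        exact (Category.id_comp _).trans (Category.comp_id _).symm
      have hcomm : νP ≫ π = π ≫ ν := by
        calc νP ≫ π = νP ≫ π ≫ (f • ν) := by rw [hν, Category.comp_id]
          _ = (f • νP) ≫ π ≫ ν := by rw [Linear.comp_smul, Linear.comp_smul, Linear.smul_comp]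
          _ = π ≫ ν := by rw [hνP, Category.id_comp]
      let νK : kernel π ⟶ kernel π := kernel.lift π (kernel.ι π ≫ νP)
        (by rw [Category.assoc, hcomm, kernel.condition_assoc, zero_comp])
      have hνK : f • νK = 𝟙 _ := by
        rw [← cancel_mono (kernel.ι π), Linear.smul_comp, kernel.lift_ι, ← Linear.comp_smul, hνP, Category.comp_id,
          Category.id_comp]
      let S : ShortComplex (EtModW.ModP Λ X) := ShortComplex.mk (kernel.ι π) π (kernel.condition π)
      have hS : S.ShortExact := { exact := ShortComplex.exact_of_f_is_kernel _ (kernelIsKernel π) }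
      have hP : Subsingleton (Ext.{u + 1} (∐ P) F (n + 1)) :=
        subsingleton_ext_coproduct P (n + 1) F fun i => subsingleton_ext_locExt i.1.2 f n F (hF i.1.1 i.1.2).2
      have hK := subsingleton_ext_of_inverse f hF n (kernel π) νK hνK
      refine subsingleton_of_forall_eq 0 fun x => ?_
      obtain ⟨y, rfl⟩ := Ext.contravariant_sequence_exact₃ hS F x (hP.elim _ _) (show 1 + n = n + 1 by omega)
      rw [show y = 0 from hK.elim _ _, Ext.comp_zero]

theorem phi_bijective_of_isDCSheaf {I : Ideal Λ} {F : EtModW.ModP Λ X} (hF : ProEtDC.IsDCSheaf Λ I F) (W : X.ProEt)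
    {f : Λ} (hf : f ∈ I) : Function.Bijective (phi f ((evM Λ W).obj F)) := by
  refine ⟨LinearMap.ker_eq_bot.1 (LinearMap.ker_eq_bot'.2 fun x hx => ?_), fun y => ?_⟩
  · obtain ⟨h, hh⟩ := exists_hom_locExt W f hx
    rw [(subsingleton_ext_zero_iff _ _).1 (hF W f hf 0) h] at hh
    funext n
    rw [← hh n, Adjunction.homEquiv_unit, (evM Λ W).map_zero, comp_zero]
    rfl
  · have hS := embSeq_shortExact F
    obtain ⟨hi, hex⟩ := evM_exact W hS
    obtain ⟨x, hx⟩ := phi_surjective_evM_injective W f (embSeq F).X₂ fun n => ((evM Λ W).map (embSeq F).f).hom (y n)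
    have h0 : phi f _ (fun n => ((evM Λ W).map (embSeq F).g).hom (x n)) = 0 := by
      rw [phi_comp, hx]
      exact funext fun n => hex.apply_apply_eq_zero (y n)
    obtain ⟨h, hh⟩ := exists_hom_locExt W f h0
    obtain ⟨l, rfl⟩ := (subsingleton_ext_one_iff _ _).1 (hF W f hf 1) h
    let x' : ℕ → (evM Λ W).obj (embSeq F).X₂ := fun n => ((adjW Λ W).homEquiv _ _ l).hom (invPow f n)
    have h1 : ∀ n, ((evM Λ W).map (embSeq F).g).hom (x n - x' n) = 0 := fun n => by
      rw [map_sub, ← homEquiv_locExt_comp, hh, sub_self]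
    choose z hz using fun n => (hex _).1 (h1 n)
    refine ⟨z, funext fun n => hi ?_⟩
    rw [← congrFun (phi_comp f ((evM Λ W).map (embSeq F).f).hom z) n, ← congrFun hx n]
    simp only [hz]
    exact congrFun (show phi f _ (x - x') = phi f _ x by rw [map_sub, phi_homEquiv_locExt, sub_zero]) n

theorem isDCSheaf_iff (I : Ideal Λ) (F : EtModW.ModP Λ X) : ProEtDC.IsDCSheaf Λ I F ↔
    ∀ W, ProEtS.IsWC W → ∀ f ∈ I, Function.Bijective (phi f ((evM Λ W).obj F)) := by
  refine ⟨fun h W _ f hf => phi_bijective_of_isDCSheaf h W hf, fun h U f hf n => ?_⟩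
  refine subsingleton_ext_of_inverse f (fun W hW => h W hW f hf) n _
    ((GW Λ U).map (ModuleCat.ofHom (LinearMap.mulLeft Λ (invPow f 1)))) ?_
  refine exists_inverse_GW U f _ ?_
  ext z : 2
  show f • (invPow f 1 * z) = z
  rw [← smul_mul_assoc, (phi_eq_zero_iff f _).1 (phi_invPow f) 0, invPow, IsLocalization.mk'_eq_mul_mk'_one]
  simp

end Groth.Agent.EpsLib.DC
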