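import Groth.Agent.EpsLib.DCResults
import Groth.Agent.EpsLib.DCConst
import Groth.Agent.DerLib.KInjRes
import Groth.Agent.DerLib.KInjUse
import Mathlib.Algebra.Homology.DerivedCategory.KInjective

/-! Derived completeness of a complex and of its cohomology sheaves. -/

set_option autoImplicit false
set_option linter.style.haveILetI false
set_option linter.unusedSectionVars false
set_option backward.isDefEq.respectTransparency false
set_option synthInstance.maxHeartbeats 400000
set_option maxHeartbeats 1000000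
universe u

open CategoryTheory CategoryTheory.Limits AlgebraicGeometry Opposite HomologicalComplex

namespace Groth.Agent.EpsLib.DC

variable {Λ : Type (u + 1)} [CommRing Λ] {X : Scheme.{u}}

/-- The sheaf whose maps to `F` are the sections over `W`. -/
noncomputable abbrev genW (Λ : Type (u + 1)) [CommRing Λ] (W : X.ProEt) : EtModW.ModP Λ X :=
  (GW Λ W).obj (ModuleCat.of Λ Λ)

/-- The section attached to a map. -/
noncomputable def secOf {W : X.ProEt} {F : EtModW.ModP Λ X} (a : genW Λ W ⟶ F) : (evM Λ W).obj F :=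
  ((adjW Λ W).homEquiv _ _ a).hom (1 : Λ)

theorem secOf_bijective (W : X.ProEt) (F : EtModW.ModP Λ X) :
    Function.Bijective (secOf : (genW Λ W ⟶ F) → (evM Λ W).obj F) := by
  refine ⟨fun a b h => ((adjW Λ W).homEquiv _ _).injective (ModuleCat.hom_ext (LinearMap.ext_ring h)), fun x => ?_⟩
  refine ⟨((adjW Λ W).homEquiv _ F).symm (ModuleCat.ofHom (LinearMap.toSpanSingleton Λ _ x)), ?_⟩
  rw [secOf, Equiv.apply_symm_apply]
  exact one_smul Λ x

theorem secOf_comp {W : X.ProEt} {F G : EtModW.ModP Λ X} (a : genW Λ W ⟶ F) (g : F ⟶ G) :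
    secOf (a ≫ g) = ((evM Λ W).map g).hom (secOf a) := by
  rw [secOf, Adjunction.homEquiv_naturality_right]
  rfl

theorem secOf_zero {W : X.ProEt} {F : EtModW.ModP Λ X} : secOf (0 : genW Λ W ⟶ F) = 0 := by
  rw [← comp_zero (f := (0 : genW Λ W ⟶ F)) (Z := F), secOf_comp, (evM Λ W).map_zero]
  rfl

theorem evM_map_comp_apply (W : X.ProEt) {A B C : EtModW.ModP Λ X} (g : A ⟶ B) (h : B ⟶ C) (x : (evM Λ W).obj A) :
    ((evM Λ W).map (g ≫ h)).hom x = ((evM Λ W).map h).hom (((evM Λ W).map g).hom x) :=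
  congrArg (fun t => t.hom x) ((evM Λ W).map_comp g h)

theorem evM_map_smul_apply (W : X.ProEt) {A B : EtModW.ModP Λ X} (c : Λ) (g : A ⟶ B) (x : (evM Λ W).obj A) :
    ((evM Λ W).map (c • g)).hom x = c • ((evM Λ W).map g).hom x := rfl

theorem evM_map_sub_apply (W : X.ProEt) {A B : EtModW.ModP Λ X} (g h : A ⟶ B) (x : (evM Λ W).obj A) :
    ((evM Λ W).map (g - h)).hom x = ((evM Λ W).map g).hom x - ((evM Λ W).map h).hom x := rfl

/-- Cycles killed by `phi` are boundaries of chains killed by `phi`. -/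
def SeqAcy (f : Λ) (W : X.ProEt) (I : CochainComplex (EtModW.ModP Λ X) ℤ) : Prop :=
  ∀ (i j k : ℤ), i + 1 = j → j + 1 = k → ∀ x : ℕ → (evM Λ W).obj (I.X j), phi f _ x = 0 →
    (∀ m, ((evM Λ W).map (I.d j k)).hom (x m) = 0) →
      ∃ y : ℕ → (evM Λ W).obj (I.X i), phi f _ y = 0 ∧ ∀ m, ((evM Λ W).map (I.d i j)).hom (y m) = x m

/-- Maps from `P` into cycles of `I` are null homotopic. -/
def HomAcy (P : EtModW.ModP Λ X) (I : CochainComplex (EtModW.ModP Λ X) ℤ) : Prop :=
  ∀ (i j k : ℤ), i + 1 = j → j + 1 = k → ∀ h : P ⟶ I.X j, h ≫ I.d j k = 0 → ∃ l : P ⟶ I.X i, l ≫ I.d i j = h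

theorem seqAcy_of_homAcy {f : Λ} {W : X.ProEt} {I : CochainComplex (EtModW.ModP Λ X) ℤ}
    (H : HomAcy (ProEtDC.locExt Λ W f) I) : SeqAcy f W I := by
  intro i j k hij hjk x hx hd
  obtain ⟨h, hh⟩ := exists_hom_locExt W f hx
  obtain ⟨l, hl⟩ := H i j k hij hjk h (hom_locExt_ext W f _ _ fun m => by
    rw [homEquiv_locExt_comp, hh, hd, Adjunction.homEquiv_unit, (evM Λ W).map_zero, comp_zero]
    rfl)
  exact ⟨_, phi_homEquiv_locExt W f l, fun m => by rw [← homEquiv_locExt_comp, hl, hh]⟩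

section RCx

variable (f : Λ)

/-- `phi` on the countable product. -/
noncomputable def phiS (F : EtModW.ModP Λ X) : (∏ᶜ fun _ : ℕ => F) ⟶ ∏ᶜ fun _ : ℕ => F :=
  Pi.lift fun n => f • Pi.π (fun _ : ℕ => F) (n + 1) - Pi.π (fun _ : ℕ => F) n

theorem phiS_π (F : EtModW.ModP Λ X) (n : ℕ) :
    phiS f F ≫ Pi.π _ n = f • Pi.π (fun _ : ℕ => F) (n + 1) - Pi.π (fun _ : ℕ => F) n := Pi.lift_π _ _

theorem phiS_natural {F G : EtModW.ModP Λ X} (g : F ⟶ G) :
    phiS f F ≫ Limits.Pi.map (fun _ : ℕ => g) = Limits.Pi.map (fun _ : ℕ => g) ≫ phiS f G :=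
  Pi.hom_ext _ _ fun n => by
    rw [Category.assoc, Category.assoc, Limits.Pi.map_π, phiS_π, ← Category.assoc, phiS_π, Preadditive.sub_comp,
      Preadditive.comp_sub, Linear.smul_comp, Linear.comp_smul, Limits.Pi.map_π, Limits.Pi.map_π]

/-- The subobject of sequences killed by `phi`. -/
noncomputable abbrev rObj (F : EtModW.ModP Λ X) : EtModW.ModP Λ X := kernel (phiS f F)

/-- Functoriality. -/
noncomputable def rMap {F G : EtModW.ModP Λ X} (g : F ⟶ G) : rObj f F ⟶ rObj f G :=
  kernel.map _ _ (Limits.Pi.map fun _ : ℕ => g) (Limits.Pi.map fun _ : ℕ => g) (phiS_natural f g)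

/-- The coordinates. -/
noncomputable def rπ (F : EtModW.ModP Λ X) (n : ℕ) : rObj f F ⟶ F := kernel.ι _ ≫ Pi.π (fun _ : ℕ => F) n

theorem rMap_π {F G : EtModW.ModP Λ X} (g : F ⟶ G) (n : ℕ) : rMap f g ≫ rπ f G n = rπ f F n ≫ g := by
  simp [rMap, rπ, kernel.map]

theorem rπ_rel (F : EtModW.ModP Λ X) (n : ℕ) : f • rπ f F (n + 1) = rπ f F n := by
  have h : (kernel.ι (phiS f F) ≫ phiS f F) ≫ Pi.π _ n = 0 := by rw [kernel.condition, zero_comp]
  rw [Category.assoc, phiS_π, Preadditive.comp_sub, Linear.comp_smul, sub_eq_zero] at h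
  exact h

theorem r_hom_ext {Z F : EtModW.ModP Λ X} {a b : Z ⟶ rObj f F} (h : ∀ n, a ≫ rπ f F n = b ≫ rπ f F n) : a = b :=
  (cancel_mono (kernel.ι _)).1 (Pi.hom_ext _ _ fun n => by rw [Category.assoc, Category.assoc]; exact h n)

theorem exists_rLift {Z F : EtModW.ModP Λ X} (a : ℕ → (Z ⟶ F)) (ha : ∀ n, f • a (n + 1) = a n) :
    ∃ l : Z ⟶ rObj f F, ∀ n, l ≫ rπ f F n = a n := by
  refine ⟨kernel.lift _ (Pi.lift a) (Pi.hom_ext _ _ fun n => ?_), fun n => ?_⟩
  · rw [Category.assoc, phiS_π, Preadditive.comp_sub, Linear.comp_smul, Pi.lift_π, Pi.lift_π, ha, sub_self, zero_comp]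
  · rw [rπ, kernel.lift_ι_assoc, Pi.lift_π]

/-- The complex of sequences killed by `phi`. -/
noncomputable def rCx (I : CochainComplex (EtModW.ModP Λ X) ℤ) : CochainComplex (EtModW.ModP Λ X) ℤ where
  X i := rObj f (I.X i)
  d i j := rMap f (I.d i j)
  shape i j h := r_hom_ext f fun n => by rw [rMap_π, I.shape i j h, comp_zero, zero_comp]
  d_comp_d' i j k _ _ := r_hom_ext f fun n => by
    rw [Category.assoc, rMap_π, ← Category.assoc, rMap_π, Category.assoc, I.d_comp_d, comp_zero, zero_comp]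

/-- The map to the complex. -/
noncomputable def rCxι (I : CochainComplex (EtModW.ModP Λ X) ℤ) : rCx f I ⟶ I where
  f i := rπ f (I.X i) 0
  comm' i j _ := (rMap_π f (I.d i j) 0).symm

theorem acyclic_rCx (I : CochainComplex (EtModW.ModP Λ X) ℤ) (H : ∀ W, ProEtS.IsWC W → SeqAcy f W I) :
    (rCx f I).Acyclic := by
  intro j
  rw [exactAt_iff' _ (j - 1) j (j + 1) (by simp) (by simp), ShortComplex.exact_iff_kernel_ι_comp_cokernel_π_zero]
  refine hom_eq_zero_of_wc _ fun W hW a => ?_
  obtain ⟨a, rfl⟩ := (secOf_bijective W _).2 a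
  let g := (rCx f I).d j (j + 1)
  let b : genW Λ W ⟶ rObj f (I.X j) := a ≫ kernel.ι g
  have hb : b ≫ rMap f (I.d j (j + 1)) = 0 := by
    show (a ≫ kernel.ι g) ≫ g = 0
    rw [Category.assoc, kernel.condition, comp_zero]
  let x : ℕ → (evM Λ W).obj (I.X j) := fun m => secOf (b ≫ rπ f _ m)
  obtain ⟨y, hy, hdy⟩ := H W hW (j - 1) j (j + 1) (by omega) rfl x ((phi_eq_zero_iff f x).2 fun m => by
      show f • secOf (b ≫ rπ f _ (m + 1)) = secOf (b ≫ rπ f _ m)
      rw [← rπ_rel f _ m, Linear.comp_smul]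
      rfl) fun m => by
      show ((evM Λ W).map _).hom (secOf (b ≫ rπ f _ m)) = 0
      rw [← secOf_comp, Category.assoc, ← rMap_π, ← Category.assoc, hb, zero_comp, secOf_zero]
  choose y' hy' using fun m => (secOf_bijective W (I.X (j - 1))).2 (y m)
  obtain ⟨l, hl⟩ := exists_rLift f y' fun m => (secOf_bijective W _).1 (by
    rw [show f • y' (m + 1) = y' (m + 1) ≫ (f • 𝟙 _) by rw [Linear.comp_smul, Category.comp_id], secOf_comp,
      evM_map_smul_apply, (evM Λ W).map_id, hy', hy']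
    exact (phi_eq_zero_iff f y).1 hy m)
  have hlb : l ≫ rMap f (I.d (j - 1) j) = b := r_hom_ext f fun m => (secOf_bijective W _).1 (by
    rw [Category.assoc, rMap_π, ← Category.assoc, hl, secOf_comp, hy', hdy])
  rw [evM_map_comp_apply, ← secOf_comp, ← secOf_comp]
  show secOf (b ≫ cokernel.π ((rCx f I).d (j - 1) j)) = 0
  rw [← hlb, Category.assoc]
  show secOf (l ≫ (rCx f I).d (j - 1) j ≫ cokernel.π _) = 0
  rw [cokernel.condition, comp_zero, secOf_zero]

/-- Into a K-injective complex with the acyclicity condition, maps out of sheaves on which `f` is invertible are null. -/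
theorem homAcy_of_seqAcy (I : CochainComplex (EtModW.ModP Λ X) ℤ) [I.IsKInjective]
    (H : ∀ W, ProEtS.IsWC W → SeqAcy f W I) (P : EtModW.ModP Λ X) (ν : P ⟶ P) (hν : f • ν = 𝟙 P) :
    HomAcy P I := by
  intro i j k hij hjk h hh
  have ho : Homotopy (rCxι f I) 0 := CochainComplex.IsKInjective.homotopyZero _ (acyclic_rCx f I H)
  let a : ℕ → (P ⟶ I.X j) := Nat.rec h fun _ t => ν ≫ t
  obtain ⟨h', hh'⟩ := exists_rLift f a fun n => by
    show f • (ν ≫ a n) = a n
    rw [← Linear.smul_comp, hν, Category.id_comp]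
  have ha : ∀ n, a n ≫ I.d j k = 0 := fun n => by
    induction n with
    | zero => exact hh
    | succ n ih => show (ν ≫ a n) ≫ I.d j k = 0; rw [Category.assoc, ih, comp_zero]
  have hd : h' ≫ (rCx f I).d j k = 0 := r_hom_ext f fun n => by
    show (h' ≫ rMap f (I.d j k)) ≫ _ = _
    rw [Category.assoc, rMap_π, ← Category.assoc, hh', ha, zero_comp]
  refine ⟨h' ≫ ho.hom j i, ?_⟩
  have hc := ho.comm j
  rw [dNext_eq _ (show (ComplexShape.up ℤ).Rel j k from hjk), prevD_eq _ (show (ComplexShape.up ℤ).Rel i j from hij),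
    zero_f, add_zero] at hc
  have := congrArg (fun t => h' ≫ t) hc
  simp only [Preadditive.comp_add] at this
  rw [← Category.assoc h', hd, zero_comp, zero_add] at this
  rw [Category.assoc, ← this]
  exact hh' 0

end RCx

section Cohomology

variable {W : X.ProEt} {f : Λ}

theorem seqAcy_iff (hW : ProEtS.IsWC W) (I : CochainComplex (EtModW.ModP Λ X) ℤ) [∀ n, Injective (I.X n)] :
    SeqAcy f W I ↔ ∀ n : ℤ, Function.Bijective (phi f ((evM Λ W).obj (I.homology n))) := by
  have hsurj := fun n => phi_surjective_evM_injective W f (I.X n)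
  let π := fun n => ((evM Λ W).map (I.homologyπ n)).hom
  let ι := fun n => ((evM Λ W).map (I.iCycles n)).hom
  let d := fun i j => ((evM Λ W).map (I.d i j)).hom
  have hπ : ∀ n, Function.Surjective (π n) := fun n => evM_surjective hW _
  have hι : ∀ n, Function.Injective (ι n) := fun n => evM_injective_mono W _
  have hdι : ∀ n k z, d n k (ι n z) = 0 := fun n k z => by
    show ((evM Λ W).map (I.d n k)).hom (((evM Λ W).map (I.iCycles n)).hom z) = 0
    rw [← evM_map_comp_apply, I.iCycles_d, (evM Λ W).map_zero]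
    rfl
  have hlift : ∀ j k, j + 1 = k → ∀ x, d j k x = 0 → ∃ z, ι j z = x := fun j k hjk x hx => by
    obtain ⟨a, rfl⟩ := (secOf_bijective W _).2 x
    refine ⟨secOf (I.liftCycles a k ((ComplexShape.up ℤ).next_eq' hjk) ((secOf_bijective W _).1 ?_)), ?_⟩
    · rw [secOf_comp, secOf_zero]; exact hx
    · show ((evM Λ W).map _).hom _ = _
      rw [← secOf_comp, liftCycles_i]
  have hd2 : ∀ i j k y, d j k (d i j y) = 0 := fun i j k y => by
    show ((evM Λ W).map (I.d j k)).hom (((evM Λ W).map (I.d i j)).hom y) = 0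
    rw [← evM_map_comp_apply, I.d_comp_d, (evM Λ W).map_zero]
    rfl
  have hπ0 : ∀ i j, i + 1 = j → ∀ z, π j z = 0 ↔ ∃ y, d i j y = ι j z := fun i j hij z => by
    have he : (ShortComplex.mk (I.toCycles i j) (I.homologyπ j) (I.toCycles_comp_homologyπ i j)).Exact :=
      ShortComplex.exact_of_g_is_cokernel _ (I.homologyIsCokernel i j ((ComplexShape.up ℤ).prev_eq' hij))
    have hti : ∀ y, ι j (((evM Λ W).map (I.toCycles i j)).hom y) = d i j y := fun y => by
      show ((evM Λ W).map (I.iCycles j)).hom _ = _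
      rw [← evM_map_comp_apply, I.toCycles_i]
    refine ⟨fun h => ?_, fun ⟨y, hy⟩ => ?_⟩
    · obtain ⟨y, hy⟩ := evM_exact_mid hW he h
      exact ⟨y, by rw [← hti, ← hy]⟩
    · rw [← hι j ((hti y).trans hy)]
      show ((evM Λ W).map (I.homologyπ j)).hom (((evM Λ W).map (I.toCycles i j)).hom y) = 0
      rw [← evM_map_comp_apply, I.toCycles_comp_homologyπ, (evM Λ W).map_zero]
      rfl
  constructor
  · intro H n
    refine ⟨LinearMap.ker_eq_bot.1 (LinearMap.ker_eq_bot'.2 fun c hc => ?_), fun c => ?_⟩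
    · choose z hz using fun m => hπ n (c m)
      have h0 : ∀ m, π n (phi f _ z m) = 0 := fun m => by
        rw [← congrFun (phi_comp f (π n) z) m]; simp only [hz]; exact congrFun hc m
      choose y hy using fun m => (hπ0 (n - 1) n (by omega) _).1 (h0 m)
      obtain ⟨v, hv⟩ := hsurj (n - 1) y
      let x := (fun m => ι n (z m)) - fun m => d (n - 1) n (v m)
      have hx : phi f _ x = 0 := by
        rw [map_sub, phi_comp, phi_comp, hv, sub_eq_zero]
        exact funext fun m => (hy m).symm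
      obtain ⟨w, -, hw⟩ := H (n - 1) n (n + 1) (by omega) rfl x hx fun m => by
        show d n (n + 1) (ι n (z m) - d (n - 1) n (v m)) = 0
        rw [map_sub, hdι, hd2, sub_zero]
      funext m
      rw [← hz m]
      refine (hπ0 (n - 1) n (by omega) _).2 ⟨w m + v m, ?_⟩
      rw [map_add]
      exact (eq_sub_iff_add_eq.1 (hw m))
    · choose z hz using fun m => hπ n (c m)
      obtain ⟨x, hx⟩ := hsurj n fun m => ι n (z m)
      obtain ⟨y, hy0, hy⟩ := H n (n + 1) (n + 1 + 1) rfl rfl (fun m => d n (n + 1) (x m))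
        (by rw [phi_comp, hx]; exact funext fun m => hdι n _ _) fun m => hd2 _ _ _ _
      choose z' hz' using fun m => hlift n (n + 1) rfl (x m - y m) (by rw [map_sub, sub_eq_zero]; exact (hy m).symm)
      refine ⟨fun m => π n (z' m), (phi_comp f (π n) z').trans (funext fun m => ?_)⟩
      rw [← hz m]
      refine congrArg (π n) (hι n ?_)
      rw [← congrFun (phi_comp f (ι n) z') m]
      simp only [hz']
      rw [show (fun m => x m - y m) = x - y from rfl, map_sub, hy0, sub_zero, hx]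
  · intro H i j k hij hjk x hx hd
    choose z hz using fun m => hlift j k hjk (x m) (hd m)
    have hc : phi f _ (fun m => π j (z m)) = 0 := by
      rw [phi_comp]
      funext m
      rw [Pi.zero_apply, ← map_zero (π j)]
      refine congrArg (π j) (hι j ?_)
      rw [map_zero, ← congrFun (phi_comp f (ι j) z) m]
      simp only [hz]
      exact congrFun hx m
    choose y hy using fun m => (hπ0 i j hij (z m)).1 (congrFun ((H j).1 (hc.trans (map_zero _).symm)) m)
    have hcy : ∀ m, d i j (phi f _ y m) = 0 := fun m => by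
      rw [← congrFun (phi_comp f (d i j) y) m]
      simp only [hy, hz]
      exact congrFun hx m
    choose w hw using fun m => hlift i j hij (phi f _ y m) (hcy m)
    obtain ⟨q, hq⟩ := (H i).2 fun m => π i (w m)
    choose r hr using fun m => hπ i (q m)
    have h0 : ∀ m, π i (w m - phi f _ r m) = 0 := fun m => by
      rw [map_sub, ← congrFun (phi_comp f (π i) r) m]
      simp only [hr]
      rw [hq, sub_self]
    choose t ht using fun m => (hπ0 (i - 1) i (by omega) _).1 (h0 m)
    obtain ⟨v, hv⟩ := hsurj (i - 1) t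
    refine ⟨y - (fun m => ι i (r m)) - fun m => d (i - 1) i (v m), ?_, fun m => ?_⟩
    · rw [map_sub, map_sub, phi_comp, phi_comp, hv]
      funext m
      show phi f _ y m - ι i (phi f _ r m) - d (i - 1) i (t m) = 0
      rw [ht, map_sub, hw]
      abel
    · show d i j (y m - ι i (r m) - d (i - 1) i (v m)) = x m
      rw [map_sub, map_sub, hdι, hd2, sub_zero, sub_zero, hy, hz]

end Cohomology

section Derived

attribute [local instance] HasDerivedCategory.standard

theorem subsingleton_hom_iff (P : EtModW.ModP Λ X) (I : CochainComplex (EtModW.ModP Λ X) ℤ) [I.IsKInjective] :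
    Subsingleton ((DerivedCategory.singleFunctor (EtModW.ModP Λ X) 0).obj P ⟶ DerivedCategory.Q.obj I) ↔
      ∀ h : P ⟶ I.X 0, h ≫ I.d 0 1 = 0 → ∃ l : P ⟶ I.X (-1), l ≫ I.d (-1) 0 = h := by
  let S := (single (EtModW.ModP Λ X) (ComplexShape.up ℤ) 0).obj P
  let a := (DerivedCategory.singleFunctorIsoCompQ (EtModW.ModP Λ X) 0).app P
  let v := singleObjXSelf (ComplexShape.up ℤ) 0 P
  rw [(a.homFromEquiv).subsingleton_congr]
  have hQ := CochainComplex.IsKInjective.Qh_map_bijective
    ((HomotopyCategory.quotient _ (ComplexShape.up ℤ)).obj S) I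
  constructor
  · intro hs h hh
    let φ : S ⟶ I := mkHomFromSingle h fun k hk => by obtain rfl : (0 : ℤ) + 1 = k := hk; exact hh
    have e : (HomotopyCategory.quotient _ _).map φ = 0 := hQ.1 (hs.elim _ _)
    obtain ⟨ho⟩ := (HomotopyCategory.quotient_map_eq_zero_iff _).1 e
    have hc := ho.comm 0
    rw [dNext_eq _ (show (ComplexShape.up ℤ).Rel 0 1 from rfl),
      prevD_eq _ (show (ComplexShape.up ℤ).Rel (-1) 0 from rfl), single_obj_d, zero_comp, zero_add, zero_f,
      add_zero] at hc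
    refine ⟨v.inv ≫ ho.hom 0 (-1), ?_⟩
    rw [Category.assoc, ← hc, mkHomFromSingle_f, Iso.inv_hom_id_assoc]
  · intro H
    refine subsingleton_of_forall_eq 0 fun t => ?_
    obtain ⟨q, rfl⟩ := hQ.2 t
    obtain ⟨φ, rfl⟩ := (HomotopyCategory.quotient _ _).map_surjective q
    obtain ⟨l, hl⟩ := H (v.inv ≫ φ.f 0) (by rw [Category.assoc, φ.comm 0 1, single_obj_d, zero_comp, comp_zero])
    let β : CochainComplex.HomComplex.Cochain ((CochainComplex.singleFunctor (EtModW.ModP Λ X) 0).obj P) I (-1) :=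
      CochainComplex.HomComplex.Cochain.fromSingleMk l (zero_add _)
    have hβ : CochainComplex.HomComplex.Cochain.ofHom φ =
        CochainComplex.HomComplex.δ (-1) 0 β + CochainComplex.HomComplex.Cochain.ofHom 0 := by
      rw [CochainComplex.HomComplex.Cochain.ofHom_zero, add_zero,
        CochainComplex.HomComplex.Cochain.δ_fromSingleMk _ _ 0 0 (add_zero 0), hl]
      apply (CochainComplex.HomComplex.Cochain.fromSingleEquiv (add_zero (0 : ℤ))).injective
      rw [CochainComplex.HomComplex.Cochain.fromSingleEquiv_fromSingleMk]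
      simp [CochainComplex.HomComplex.Cochain.fromSingleEquiv, v]
    rw [HomotopyCategory.eq_of_homotopy φ 0 ((CochainComplex.HomComplex.Cochain.equivHomotopy _ _).symm ⟨β, hβ⟩)]
    simp

theorem shift_translate (P : EtModW.ModP Λ X) (I : CochainComplex (EtModW.ModP Λ X) ℤ) (n a b c a' b' c' : ℤ)
    (ha : a + n = a') (hb : b + n = b') (hc : c + n = c') :
    (∀ h : P ⟶ (I⟦n⟧).X b, h ≫ (I⟦n⟧).d b c = 0 → ∃ l, l ≫ (I⟦n⟧).d a b = h) ↔
      ∀ h : P ⟶ I.X b', h ≫ I.d b' c' = 0 → ∃ l, l ≫ I.d a' b' = h := by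
  subst ha hb hc
  constructor
  · intro H h hh
    obtain ⟨l, hl⟩ := H h (by simp [hh])
    refine ⟨n.negOnePow • l, ?_⟩
    refine Eq.trans ?_ hl
    simp
  · intro H h hh
    obtain ⟨l, hl⟩ := H h (by simpa [smul_eq_zero_iff_eq] using hh)
    refine ⟨n.negOnePow • l, ?_⟩
    simp [hl, smul_smul]

theorem subsingleton_hom_shift_iff (P : EtModW.ModP Λ X) (I : CochainComplex (EtModW.ModP Λ X) ℤ) [I.IsKInjective]
    (n : ℤ) :
    Subsingleton ((DerivedCategory.singleFunctor (EtModW.ModP Λ X) 0).obj P ⟶ (DerivedCategory.Q.obj I)⟦n⟧) ↔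
      ∀ h : P ⟶ I.X n, h ≫ I.d n (n + 1) = 0 → ∃ l : P ⟶ I.X (n - 1), l ≫ I.d (n - 1) n = h := by
  refine ((((DerivedCategory.Q (C := EtModW.ModP Λ X)).commShiftIso n).app I).homToEquiv.subsingleton_congr.symm.trans
    (subsingleton_hom_iff P (I⟦n⟧))).trans ?_
  refine shift_translate P I n (-1) 0 1 (n - 1) n (n + 1) (by omega) (zero_add n) (add_comm _ _)

theorem phi_bijective_iff_of_linearEquiv (f : Λ) {M N : Type (u + 1)} [AddCommGroup M] [Module Λ M] [AddCommGroup N]
    [Module Λ N] (e : M ≃ₗ[Λ] N) : Function.Bijective (phi f M) ↔ Function.Bijective (phi f N) := by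
  let E : (ℕ → M) ≃ (ℕ → N) := Equiv.piCongrRight fun _ => e.toEquiv
  have h : ∀ x, phi f N (E x) = E (phi f M x) := fun x => phi_comp f e.toLinearMap x
  have : ⇑(phi f N) = E ∘ ⇑(phi f M) ∘ E.symm := funext fun x => by simp [← h]
  rw [this, E.bijective.of_comp_iff', Function.Bijective.of_comp_iff _ E.symm.bijective]

theorem isDC_iff_homology (I : Ideal Λ) (K : ProEtDC.DP Λ X) :
    ProEtDC.IsDC Λ I K ↔ ∀ p : ℤ, ProEtDC.IsDCSheaf Λ I (ProEtDC.HDP K p) := by
  let K₀ := DerivedCategory.Q.objPreimage K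
  obtain ⟨J, φ, hJ, hφ, hinj⟩ := DerLib.KInjRes.exists_resolution K₀
  haveI := hJ
  haveI := hinj
  haveI : QuasiIso φ := (mem_quasiIso_iff _).1 hφ.2
  let eK : K ≅ DerivedCategory.Q.obj J :=
    (DerivedCategory.Q.objObjPreimageIso K).symm ≪≫ asIso (DerivedCategory.Q.map φ)
  let eH : ∀ p, ProEtDC.HDP K p ≅ J.homology p := fun p =>
    (DerivedCategory.homologyFunctor _ p).mapIso eK ≪≫ (DerivedCategory.homologyFunctorFactors _ p).app J
  have key : ∀ (P : EtModW.ModP Λ X),
      (∀ n : ℤ, Subsingleton ((DerivedCategory.singleFunctor (EtModW.ModP Λ X) 0).obj P ⟶ K⟦n⟧)) ↔ HomAcy P J := by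
    intro P
    refine (forall_congr' fun n => ((((shiftFunctor _ n).mapIso eK).homToEquiv).subsingleton_congr).trans
      (subsingleton_hom_shift_iff P J n)).trans ⟨fun H i j k hij hjk => ?_, fun H n => H (n - 1) n (n + 1) (by omega) rfl⟩
    obtain rfl : i = j - 1 := by omega
    obtain rfl := hjk
    exact H j
  have hH : ∀ W, ProEtS.IsWC W → ∀ f : Λ, SeqAcy f W J ↔
      ∀ p, Function.Bijective (phi f ((evM Λ W).obj (ProEtDC.HDP K p))) := fun W hW f =>
    (seqAcy_iff hW J).trans (forall_congr' fun p =>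
      (phi_bijective_iff_of_linearEquiv f ((evM Λ W).mapIso (eH p)).toLinearEquiv).symm)
  constructor
  · intro h p
    exact (isDCSheaf_iff I _).2 fun W hW f hf => (hH W hW f).1 (seqAcy_of_homAcy ((key _).1 (h W f hf))) p
  · intro h U f hf
    refine (key _).2 (homAcy_of_seqAcy f J (fun W hW => (hH W hW f).2 fun p => (isDCSheaf_iff I _).1 (h p) W hW f hf) _
      ((GW Λ U).map (ModuleCat.ofHom (LinearMap.mulLeft Λ (invPow f 1)))) (exists_inverse_GW U f _ ?_))
    ext z : 2
    show f • (invPow f 1 * z) = z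
    rw [← smul_mul_assoc, (phi_eq_zero_iff f _).1 (phi_invPow f) 0, invPow, IsLocalization.mk'_eq_mul_mk'_one]
    simp

end Derived

end Groth.Agent.EpsLib.DC
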