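import Mathlib.Algebra.Homology.DerivedCategory.Ext.EnoughInjectives
import Mathlib.CategoryTheory.Abelian.GrothendieckCategory.HasExt

/-! `Ext` by injective embeddings. -/

set_option autoImplicit false
set_option linter.style.haveILetI false

universe w v u

open CategoryTheory CategoryTheory.Limits Abelian

namespace Groth.Agent.EpsLib.DC

variable {C : Type u} [Category.{v} C] [Abelian C] [EnoughInjectives C] [HasExt.{w} C]

/-- The embedding of `F` in an injective and its cokernel. -/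
noncomputable abbrev embSeq (F : C) : ShortComplex C :=
  ShortComplex.mk (Injective.ι F) (cokernel.π (Injective.ι F)) (cokernel.condition _)

theorem embSeq_shortExact (F : C) : (embSeq F).ShortExact :=
  { exact := ShortComplex.exact_of_g_is_cokernel _ (cokernelIsCokernel (Injective.ι F)) }

theorem subsingleton_ext_one_iff (P F : C) : Subsingleton (Ext.{w} P F 1) ↔
    ∀ h : P ⟶ (embSeq F).X₃, ∃ l : P ⟶ (embSeq F).X₂, l ≫ (embSeq F).g = h := by
  constructor
  · intro hs h
    obtain ⟨e, he⟩ := Ext.covariant_sequence_exact₃ P (embSeq_shortExact F) (Ext.mk₀ h) (zero_add 1)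
      (hs.elim _ _)
    obtain ⟨l, rfl⟩ := (Ext.mk₀_bijective P _).2 e
    rw [Ext.mk₀_comp_mk₀] at he
    exact ⟨l, (Ext.mk₀_bijective P _).1 he⟩
  · intro H
    refine subsingleton_of_forall_eq 0 fun x => ?_
    obtain ⟨e, rfl⟩ := Ext.covariant_sequence_exact₁ P (embSeq_shortExact F) x (Ext.eq_zero_of_injective _) (rfl : 0 + 1 = 1)
    obtain ⟨h, rfl⟩ := (Ext.mk₀_bijective P _).2 e
    obtain ⟨l, rfl⟩ := H h
    rw [← Ext.mk₀_comp_mk₀, Ext.comp_assoc_of_second_deg_zero, (embSeq_shortExact F).comp_extClass, Ext.comp_zero]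

theorem subsingleton_ext_succ_iff (P F : C) (n : ℕ) :
    Subsingleton (Ext.{w} P F (n + 1 + 1)) ↔ Subsingleton (Ext.{w} P (embSeq F).X₃ (n + 1)) := by
  constructor <;> intro hs <;> refine subsingleton_of_forall_eq 0 fun x => ?_
  · obtain ⟨e, rfl⟩ := Ext.covariant_sequence_exact₃ P (embSeq_shortExact F) x (rfl : n + 1 + 1 = n + 1 + 1) (hs.elim _ _)
    rw [show e = 0 from Ext.eq_zero_of_injective (I := Injective.under F) e, Ext.zero_comp]
  · obtain ⟨e, rfl⟩ := Ext.covariant_sequence_exact₁ P (embSeq_shortExact F) x (Ext.eq_zero_of_injective (I := Injective.under F) _)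
      (rfl : n + 1 + 1 = n + 1 + 1)
    rw [show e = 0 from hs.elim _ _, Ext.zero_comp]

theorem subsingleton_ext_zero_iff (P F : C) : Subsingleton (Ext.{w} P F 0) ↔ ∀ h : P ⟶ F, h = 0 :=
  ⟨fun hs h => (Ext.mk₀_bijective P F).1 (hs.elim _ _), fun H => subsingleton_of_forall_eq 0 fun x => by
    obtain ⟨h, rfl⟩ := (Ext.mk₀_bijective P F).2 x
    rw [H h, Ext.mk₀_zero]⟩

theorem subsingleton_ext_coproduct {ι : Type*} (P : ι → C) [HasCoproduct P] :
    ∀ (n : ℕ) (F : C), (∀ i, Subsingleton (Ext.{w} (P i) F n)) → Subsingleton (Ext.{w} (∐ P) F n)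
  | 0, F, h => (subsingleton_ext_zero_iff _ _).2 fun g =>
      Sigma.hom_ext _ _ fun i => by rw [(subsingleton_ext_zero_iff _ _).1 (h i) (Sigma.ι P i ≫ g), comp_zero]
  | 1, F, h => (subsingleton_ext_one_iff _ _).2 fun g => by
      choose l hl using fun i => (subsingleton_ext_one_iff _ _).1 (h i) (Sigma.ι P i ≫ g)
      exact ⟨Sigma.desc l, Sigma.hom_ext _ _ fun i => by rw [Sigma.ι_desc_assoc, hl]⟩
  | n + 2, F, h => (subsingleton_ext_succ_iff _ _ n).2
      (subsingleton_ext_coproduct P (n + 1) _ fun i => (subsingleton_ext_succ_iff _ _ n).1 (h i))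

end Groth.Agent.EpsLib.DC
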