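import Groth.Agent.EpsLib.DCHom
import Groth.Agent.WCSiteLib.Coprod
import Groth.Agent.EpsLib.AdicEpi

/-! Generators of locally constant quotients on weakly contractible affine schemes. -/

set_option autoImplicit false
set_option linter.style.haveILetI false
set_option backward.isDefEq.respectTransparency false
set_option synthInstance.maxHeartbeats 400000
set_option maxHeartbeats 1000000
universe u

open CategoryTheory CategoryTheory.Limits AlgebraicGeometry Opposite

namespace Groth.Agent.EpsLib.DC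

variable {Λ : Type (u + 1)} [CommRing Λ] {X : Scheme.{u}}

theorem isSeparatedFor_mod (Q : EtModW.ModP Λ X) {V : X.ProEt} {R : Sieve V} (hR : R ∈ Scheme.ProEt.topology X V)
    {x y : (evM Λ V).obj Q} (h : ∀ (Y : X.ProEt) (q : Y ⟶ V), R.arrows q → (Q.obj.map q.op).hom x = (Q.obj.map q.op).hom y) :
    x = y :=
  (((isSheaf_iff_isSheaf_of_type _ _).1
    ((Presheaf.isSheaf_iff_isSheaf_forget (Scheme.ProEt.topology X) Q.obj (forget (ModuleCat.{u + 1} Λ))).1 Q.property))
      R hR).isSeparatedFor.ext fun Y q hq => h Y q hq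

theorem exists_local_generation (Q : EtModW.ModP Λ X) (U : X.ProEt) (M : ModuleCat.{u + 1} Λ)
    (e : Q.over U ≅ (constantSheaf ((Scheme.ProEt.topology X).over U) (ModuleCat.{u + 1} Λ)).obj M) :
    ∃ η : M →ₗ[Λ] (evM Λ U).obj Q, ∀ (Y : X.ProEt) (b : Y ⟶ U) (x : (evM Λ Y).obj Q),
      ∃ R ∈ Scheme.ProEt.topology X Y, ∀ (Z : X.ProEt) (h : Z ⟶ Y), R.arrows h →
        ∃ m : M, (Q.obj.map h.op).hom x = (Q.obj.map (h ≫ b).op).hom (η m) := by
  let J := (Scheme.ProEt.topology X).over U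
  let P : (Over U)ᵒᵖ ⥤ ModuleCat.{u + 1} Λ := (Functor.const (Over U)ᵒᵖ).obj M
  let ψ : P ⟶ (Q.over U).obj := toSheafify J P ≫ e.inv.hom
  haveI : IsIso e.inv.hom := inferInstanceAs (IsIso ((sheafToPresheaf J (ModuleCat.{u + 1} Λ)).map e.inv))
  haveI : Presheaf.IsLocallySurjective J ψ := inferInstance
  refine ⟨(ψ.app (op (Over.mk (𝟙 U)))).hom, fun Y b x => ?_⟩
  let S := Presheaf.imageSieve ψ (U := Over.mk b) x
  refine ⟨Sieve.overEquiv _ S, (GrothendieckTopology.mem_over_iff _ _).1 (Presheaf.imageSieve_mem J ψ (U := op (Over.mk b)) x), fun Z h hh => ?_⟩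
  obtain ⟨m, hm⟩ := (Sieve.overEquiv_iff _ _).1 hh
  refine ⟨m, hm.symm.trans ?_⟩
  let k : Over.mk (h ≫ b) ⟶ Over.mk (𝟙 U) := Over.homMk (h ≫ b) (Category.comp_id _)
  exact congrArg (fun t => t.hom m) (ψ.naturality k.op)

theorem exists_sections_detecting [IsAffine X] (hX : EtPBC.IsWContractible ↥(Γ(X, ⊤))) (Q : EtModW.ModP Λ X)
    (hQ : EtModW.IsFPLocConstP Λ Q) : ∃ (t : ℕ) (s : Fin t → (evM Λ (ProEtS.topP X)).obj Q),
      ∀ (R : EtModW.ModP Λ X) (g : Q ⟶ R), (∀ l, ((evM Λ _).map g).hom (s l) = 0) → g = 0 := by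
  classical
  obtain ⟨ι, U, hU, hconst⟩ := hQ
  haveI : IsAffine (ProEtS.topP X).left := ‹IsAffine X›
  obtain ⟨n, W, hcl, hdis, hcov, hR⟩ := WCSiteLib.clopenRefinement_of_wContractible (ProEtS.topP X) hX _ hU
  choose i q hq using fun k => show ∃ (i : ι) (q : WCSiteLib.openObj (ProEtS.topP X) (W k) ⟶ U i),
      q ≫ (MorphismProperty.Over.homMk (U i).hom : U i ⟶ ProEtS.topP X) = WCSiteLib.openι (ProEtS.topP X) (W k) by
    obtain ⟨_, q, _, ⟨i⟩, hq⟩ := hR k
    exact ⟨i, q, hq⟩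
  choose M i1 i2 i3 e using hconst
  choose η hη using fun j : ι => exists_local_generation Q (U j) (ModuleCat.of Λ (M j)) (e j).some
  choose d v hv using fun j : ι => Submodule.fg_iff_exists_fin_generating_family.1
    ((inferInstance : Module.Finite Λ (M j)).fg_top)
  have hD := WCSiteLib.openι_isDisjointFamily (ProEtS.topP X) W hdis hcov
  let σ : Type := Σ k : Fin n, Fin (d (i k))
  let z : σ → ∀ k', (evM Λ (WCSiteLib.openObj (ProEtS.topP X) (W k'))).obj Q := fun p k' =>
    if h : p.1 = k' then (Q.obj.map (q k').op).hom (η (i k') (h ▸ v (i p.1) p.2)) else 0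
  choose s hs using fun p : σ => (hD.existsUnique_glue ((sheafCompose (Scheme.ProEt.topology X)
    (forget (ModuleCat.{u + 1} Λ))).obj Q) (z p)).exists
  refine ⟨Fintype.card σ, fun l => s ((Fintype.equivFin σ).symm l), fun R g hg => ?_⟩
  have hg' : ∀ p, ((evM Λ _).map g).hom (s p) = 0 := fun p => by simpa using hg (Fintype.equivFin σ p)
  have hgen : ∀ (k : Fin n) (m : M (i k)), ((evM Λ _).map g).hom ((Q.obj.map (q k).op).hom (η (i k) m)) = 0 := by
    intro k
    have h0 : (((evM Λ _).map g).hom ∘ₗ (Q.obj.map (q k).op).hom ∘ₗ η (i k)) = 0 := by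
      refine LinearMap.ext_on_range (hv (i k)) fun j => ?_
      show ((evM Λ _).map g).hom ((Q.obj.map (q k).op).hom (η (i k) (v (i k) j))) = 0
      have h1 : (Q.obj.map (WCSiteLib.openι (ProEtS.topP X) (W k)).op).hom (s ⟨k, j⟩) =
          (Q.obj.map (q k).op).hom (η (i k) (v (i k) j)) := (hs ⟨k, j⟩ k).trans (dif_pos rfl)
      rw [← h1]
      refine (congrArg (fun t => t.hom (s ⟨k, j⟩)) (g.hom.naturality (WCSiteLib.openι (ProEtS.topP X) (W k)).op)).trans ?_
      show (R.obj.map _).hom (((evM Λ _).map g).hom (s ⟨k, j⟩)) = 0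
      rw [hg', map_zero]
    exact fun m => LinearMap.congr_fun h0 m
  apply Sheaf.hom_ext
  ext ⟨V⟩ x
  let c : V ⟶ ProEtS.topP X := (MorphismProperty.Over.mkIdTerminal (P := @WeaklyEtale) X).from V
  refine isSeparatedFor_mod R ((Scheme.ProEt.topology X).pullback_stable c hD.mem) fun Y₀ h hh => ?_
  obtain ⟨_, p, _, ⟨k⟩, hp⟩ := hh
  obtain ⟨S, hS, hS'⟩ := hη (i k) Y₀ (p ≫ q k) ((Q.obj.map h.op).hom x)
  have hn : ∀ {A B : X.ProEt} (f : A ⟶ B) (y : (evM Λ B).obj Q), (R.obj.map f.op).hom (((evM Λ B).map g).hom y) =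
      ((evM Λ A).map g).hom ((Q.obj.map f.op).hom y) := fun f y =>
    (congrArg (fun t => t.hom y) (g.hom.naturality f.op)).symm
  show (R.obj.map h.op).hom (((evM Λ V).map g).hom x) = (R.obj.map h.op).hom 0
  rw [map_zero, hn]
  refine isSeparatedFor_mod R hS fun Z b hb => ?_
  obtain ⟨m, hm⟩ := hS' Z b hb
  rw [map_zero, hn, hm, ← Category.assoc, op_comp, Q.obj.map_comp]
  show ((evM Λ Z).map g).hom ((Q.obj.map (b ≫ p).op).hom ((Q.obj.map (q k).op).hom (η (i k) m))) = 0
  rw [← hn, hgen, map_zero]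

theorem isDC_biproduct {I : Ideal Λ} {t : ℕ} (G : Fin t → EtModW.ModP Λ X) (h : ∀ l, ProEtDC.IsDCSheaf Λ I (G l)) :
    ProEtDC.IsDCSheaf Λ I (⨁ G) := by
  classical
  refine (isDCSheaf_iff I _).2 fun W hW f hf => ?_
  let p := fun l => ((evM Λ W).map (biproduct.π G l)).hom
  let j := fun l => ((evM Λ W).map (biproduct.ι G l)).hom
  have hsum : ∀ y, y = ∑ l, j l (p l y) := fun y => by
    have h1 := congrArg (fun m => ((evM Λ W).map m).hom y) (biproduct.total (f := G)).symm
    simp only [Functor.map_sum, ModuleCat.hom_sum, LinearMap.sum_apply, CategoryTheory.Functor.map_id] at h1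
    exact h1
  have hb := fun l => phi_bijective_of_isDCSheaf (h l) W hf
  refine ⟨LinearMap.ker_eq_bot.1 (LinearMap.ker_eq_bot'.2 fun x hx => funext fun n => ?_), fun y => ?_⟩
  · rw [hsum (x n), Pi.zero_apply]
    refine Finset.sum_eq_zero fun l _ => ?_
    have h1 : (fun m => p l (x m)) = 0 := (hb l).1 (by
      rw [phi_comp, hx, map_zero]
      exact funext fun m => map_zero (p l))
    rw [show p l (x n) = 0 from congrFun h1 n, map_zero]
  · choose x hx using fun l => (hb l).2 fun m => p l (y m)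
    refine ⟨∑ l, fun m => j l (x l m), ?_⟩
    rw [map_sum]
    simp only [phi_comp, hx]
    exact funext fun m => (Finset.sum_apply m _ _).trans (hsum (y m)).symm

theorem exists_epi_lambdaHat_pow [IsAffine X] (hX : EtPBC.IsWContractible ↥(Γ(X, ⊤))) [IsNoetherianRing Λ] {r : ℕ}
    (a : Fin r → Λ) (F : EtModW.ModP Λ X) (hF : ProEtDC.IsDCSheaf Λ (Ideal.span (Set.range a)) F)
    (hq : EtModW.IsFPLocConstP Λ (cokernel (ProEtDC.gensMap Λ a F))) :
    ∃ (t : ℕ) (φ : (⨁ fun _ : Fin t => ProEtDC.lambdaHat Λ X (Ideal.span (Set.range a))) ⟶ F), Epi φ := by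
  classical
  haveI : IsAffine (ProEtS.topP X).left := ‹IsAffine X›
  have hT : ProEtS.IsWC (ProEtS.topP X) := WCSiteLib.isWC_of_wContractible _ hX
  obtain ⟨t, s, hs⟩ := exists_sections_detecting hX _ hq
  choose l hl using fun k => evM_surjective hT (cokernel.π (ProEtDC.gensMap Λ a F)) (s k)
  choose φ z hz using fun k => exists_hom_lambdaHat hF (l k)
  refine ⟨t, biproduct.desc φ, Abelian.epi_of_cokernel_π_eq_zero _ ?_⟩
  let χ := biproduct.desc φ
  have hC := isDC_cokernel χ (isDC_biproduct _ fun _ => isDC_lambdaHat _) hF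
  suffices h0 : IsZero (cokernel χ) from h0.eq_of_tgt _ _
  refine isZero_of_isDC a _ hC ?_
  refine Abelian.epi_of_cokernel_π_eq_zero _ ?_
  let π' := cokernel.π (ProEtDC.gensMap Λ a (cokernel χ))
  have hsm : ∀ k, ProEtDC.smulHom Λ F (a k) ≫ cokernel.π χ = cokernel.π χ ≫ ProEtDC.smulHom Λ (cokernel χ) (a k) :=
    fun k => by
      apply Sheaf.hom_ext
      ext V y
      exact map_smul ((cokernel.π χ).hom.app V).hom (a k) y
  let g : cokernel (ProEtDC.gensMap Λ a F) ⟶ cokernel (ProEtDC.gensMap Λ a (cokernel χ)) :=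
    cokernel.desc _ (cokernel.π χ ≫ π') (biproduct.hom_ext' _ _ fun k => by
      rw [biproduct.ι_desc_assoc, comp_zero, ← Category.assoc, hsm k, Category.assoc,
        show ProEtDC.smulHom Λ (cokernel χ) (a k) = biproduct.ι (fun _ : Fin r => cokernel χ) k ≫
          ProEtDC.gensMap Λ a (cokernel χ) from (biproduct.ι_desc (fun k => ProEtDC.smulHom Λ (cokernel χ) (a k)) k).symm, Category.assoc, cokernel.condition,
        comp_zero, comp_zero])
  have hg : g = 0 := hs _ g fun k => by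
    rw [← hl k, ← hz k]
    have h1 : φ k ≫ cokernel.π (ProEtDC.gensMap Λ a F) ≫ g = 0 := by
      rw [cokernel.π_desc, show φ k = biproduct.ι _ k ≫ χ from (biproduct.ι_desc _ _).symm, Category.assoc,
        cokernel.condition_assoc, zero_comp, comp_zero]
    exact congrArg (fun m => ((evM Λ (ProEtS.topP X)).map m).hom (z k)) h1
  have h2 : cokernel.π χ ≫ π' = 0 := by
    have h3 : cokernel.π (ProEtDC.gensMap Λ a F) ≫ g = cokernel.π χ ≫ π' := cokernel.π_desc _ _ _
    rw [← h3, hg, comp_zero]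
  exact zero_of_epi_comp _ h2

end Groth.Agent.EpsLib.DC
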