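import Groth.Agent.EpsLib.DCConst
import Mathlib.CategoryTheory.MorphismProperty.OverAdjunction

/-! Maps out of the completed constant sheaf into derived complete sheaves. -/

set_option autoImplicit false
set_option linter.style.haveILetI false
set_option backward.isDefEq.respectTransparency false
set_option synthInstance.maxHeartbeats 400000
set_option maxHeartbeats 1000000
universe u

open CategoryTheory CategoryTheory.Limits AlgebraicGeometry Opposite

namespace Groth.Agent.EpsLib.DC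

variable (Λ : Type (u + 1)) [CommRing Λ] {X : Scheme.{u}} {r : ℕ} (a : Fin r → Λ)

/-- The exponents, as an index type of products. -/
abbrev PIdx (r : ℕ) : Type (u + 1) := ULift.{u + 1} (Fin r →₀ ℕ)

/-- The sheaf of power series with constant coefficients. -/
noncomputable abbrev serSheaf (X : Scheme.{u}) (r : ℕ) : EtModW.ModP Λ X :=
  ∏ᶜ fun _ : PIdx.{u} r => (cst Λ X).obj (ModuleCat.of Λ Λ)

variable {Λ}

/-- The coefficients of a section. -/
noncomputable def coeffS (W : X.ProEt) (y : (evM Λ W).obj (serSheaf Λ X r)) (α : Fin r →₀ ℕ) : MW Λ W :=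
  ((evM Λ W).map (Pi.π (fun _ : PIdx.{u} r => (cst Λ X).obj (ModuleCat.of Λ Λ)) ⟨α⟩)).hom y

theorem coeffS_surjective (W : X.ProEt) (g : (Fin r →₀ ℕ) → MW Λ W) : ∃ y, coeffS W y = g := by
  let hc := isLimitOfPreserves (evM Λ W ⋙ forget (ModuleCat.{u + 1} Λ))
    (limit.isLimit (Discrete.functor fun _ : PIdx.{u} r => (cst Λ X).obj (ModuleCat.of Λ Λ)))
  refine ⟨(Types.isLimitEquivSections hc).symm ⟨fun j => g j.as.down, fun {j j'} k => ?_⟩, funext fun α => ?_⟩
  · obtain rfl := Discrete.ext (Discrete.eq_of_hom k)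
    rw [Subsingleton.elim k (𝟙 _)]
    exact ConcreteCategory.congr_hom (CategoryTheory.Functor.map_id _ _) _
  · exact Types.isLimitEquivSections_symm_apply hc _ ⟨⟨α⟩⟩

/-- The components of the map from series to the completion. -/
noncomputable def piQ (n : ℕ) : serSheaf Λ X r ⟶
    (ProEtDC.quotTower Λ (Ideal.span (Set.range a)) ⋙ cst Λ X).obj (op n) :=
  ∑ α ∈ degLT r n, mon a α • (Pi.π (fun _ : PIdx.{u} r => (cst Λ X).obj (ModuleCat.of Λ Λ)) ⟨α⟩ ≫
    (cst Λ X).map (ModuleCat.ofHom (Ideal.span (Set.range a) ^ n • ⊤ : Submodule Λ Λ).mkQ))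

theorem piQ_apply (n : ℕ) (W : X.ProEt) (y : (evM Λ W).obj (serSheaf Λ X r)) :
    ((evM Λ W).map (piQ a n)).hom y =
      secMap W (Ideal.span (Set.range a) ^ n • ⊤ : Submodule Λ Λ).mkQ (evN a n (coeffS W y)) := by
  rw [piQ, Functor.map_sum, ModuleCat.hom_sum, LinearMap.sum_apply, evN, map_sum]
  refine Finset.sum_congr rfl fun α _ => ?_
  rw [map_smul]
  rfl

theorem piQ_compat {n m : ℕ} (hmn : m ≤ n) :
    piQ a n ≫ (ProEtDC.quotTower Λ (Ideal.span (Set.range a)) ⋙ cst Λ X).map (homOfLE hmn).op = piQ a m := by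
  have hsub : degLT r m ⊆ degLT r n := fun α hα => mem_degLT.2 (lt_of_lt_of_le (mem_degLT.1 hα) hmn)
  have hcomp : (ModuleCat.ofHom (Ideal.span (Set.range a) ^ n • ⊤ : Submodule Λ Λ).mkQ) ≫
      (ProEtDC.quotTower Λ (Ideal.span (Set.range a))).map (homOfLE hmn).op =
      ModuleCat.ofHom (Ideal.span (Set.range a) ^ m • ⊤ : Submodule Λ Λ).mkQ := ModuleCat.hom_ext (LinearMap.ext fun x => rfl)
  rw [piQ, piQ, Preadditive.sum_comp]
  refine (Finset.sum_subset hsub fun α _ hα => ?_).symm.trans (Finset.sum_congr rfl fun α _ => ?_)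
  · rw [Linear.smul_comp, Category.assoc, Functor.comp_map, ← Functor.map_comp, hcomp, ← Linear.comp_smul,
      ← cst_map_smul, show mon a α • ModuleCat.ofHom (Ideal.span (Set.range a) ^ m • ⊤ : Submodule Λ Λ).mkQ = 0 from
      ModuleCat.hom_ext (LinearMap.ext fun x => by
        show mon a α • (Submodule.Quotient.mk x : Λ ⧸ (Ideal.span (Set.range a) ^ m • ⊤ : Submodule Λ Λ)) = 0
        rw [← Submodule.Quotient.mk_smul, Submodule.Quotient.mk_eq_zero]
        refine Submodule.smul_mem_smul (Ideal.pow_le_pow_right ?_ (mon_mem a (fun k => Ideal.subset_span (Set.mem_range_self k)) α))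
          Submodule.mem_top
        exact le_of_not_gt fun h => hα (mem_degLT.2 h)), Functor.map_zero, comp_zero]
  · rw [Linear.smul_comp, Category.assoc, Functor.comp_map, ← Functor.map_comp, hcomp]

/-- The map from series to the completion. -/
noncomputable def serToHat : serSheaf Λ X r ⟶ ProEtDC.lambdaHat Λ X (Ideal.span (Set.range a)) :=
  limit.lift _ (Cone.mk _
    { app := fun j => piQ a j.unop
      naturality := fun j j' k => by
        show 𝟙 (serSheaf Λ X r) ≫ piQ a j'.unop = _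
        rw [Category.id_comp]
        exact (piQ_compat a (leOfHom k.unop)).symm })

theorem serToHat_π (n : ℕ) (W : X.ProEt) (y : (evM Λ W).obj (serSheaf Λ X r)) :
    ((evM Λ W).map (limit.π (ProEtDC.quotTower Λ (Ideal.span (Set.range a)) ⋙ cst Λ X) (op n))).hom
      (((evM Λ W).map (serToHat a)).hom y) =
        secMap W (Ideal.span (Set.range a) ^ n • ⊤ : Submodule Λ Λ).mkQ (evN a n (coeffS W y)) := by
  rw [← piQ_apply]
  show ((evM Λ W).map (serToHat a) ≫ (evM Λ W).map (limit.π (ProEtDC.quotTower Λ (Ideal.span (Set.range a)) ⋙ cst Λ X) (op n))).hom y = _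
  rw [← Functor.map_comp, serToHat, limit.lift_π]

theorem serToHat_surjective [IsNoetherianRing Λ] {W : X.ProEt} (hW : ProEtS.IsWC W) :
    Function.Surjective ((evM Λ W).map (serToHat (X := X) a)).hom := by
  classical
  intro z
  let I := Ideal.span (Set.range a)
  let p : ∀ n : ℕ, MW Λ W → (evM Λ W).obj ((ProEtDC.quotTower Λ I ⋙ cst Λ X).obj (op n)) :=
    fun n => secMap W (I ^ n • ⊤ : Submodule Λ Λ).mkQ
  let zn : ∀ n : ℕ, (evM Λ W).obj ((ProEtDC.quotTower Λ I ⋙ cst Λ X).obj (op n)) :=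
    fun n => ((evM Λ W).map (limit.π (ProEtDC.quotTower Λ I ⋙ cst Λ X) (op n))).hom z
  choose l hl using fun n => secMap_surjective hW (L := (I ^ n • ⊤ : Submodule Λ Λ).mkQ) (Submodule.mkQ_surjective _) (zn n)
  let m : ℕ → MW Λ W := fun n => if n = 0 then 0 else l n
  have hm : ∀ n, p n (m n) = zn n := fun n => by
    by_cases hn : n = 0
    · subst hn
      rw [← hl 0]
      show p 0 _ = p 0 _
      rw [show p 0 (m 0) = 0 from mkQ_eq_zero_of_mem_smul_top _ (by rw [pow_zero, Ideal.one_eq_top, Submodule.top_smul]; trivial),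
        show p 0 (l 0) = 0 from mkQ_eq_zero_of_mem_smul_top _ (by rw [pow_zero, Ideal.one_eq_top, Submodule.top_smul]; trivial)]
    · simp only [m, if_neg hn]
      exact hl n
  obtain ⟨g, hg⟩ := exists_series_of_approx a m (by simp [m]) fun n => by
    refine mem_smul_top_of_mkQ_eq_zero hW _ _ ?_
    have h1 : p n (m (n + 1)) = zn n := by
      have h2 : zn n = ((evM Λ W).map ((ProEtDC.quotTower Λ I ⋙ cst Λ X).map (homOfLE (Nat.le_succ n)).op)).hom (zn (n + 1)) := by
        show _ = ((evM Λ W).map (limit.π _ (op (n + 1))) ≫ (evM Λ W).map _).hom z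
        rw [← Functor.map_comp, limit.w]
      rw [h2, ← hm (n + 1)]
      show secMap W _ _ = secMap W (Submodule.factorPow I Λ (Nat.le_succ n)) (secMap W _ _)
      rw [← secMap_comp]
      rfl
    rw [map_sub, sub_eq_zero]
    exact h1.trans (hm n).symm
  obtain ⟨y, hy⟩ := coeffS_surjective W g
  refine ⟨y, ?_⟩
  let hc := isLimitOfPreserves (evM Λ W ⋙ forget (ModuleCat.{u + 1} Λ)) (limit.isLimit (ProEtDC.quotTower Λ I ⋙ cst Λ X))
  refine (Types.isLimitEquivSections hc).injective (Subtype.ext (funext fun j => ?_))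
  rw [Types.isLimitEquivSections_apply, Types.isLimitEquivSections_apply]
  refine (serToHat_π a j.unop W y).trans ?_
  have h3 := mkQ_eq_zero_of_mem_smul_top _ (hg j.unop)
  rw [map_sub, sub_eq_zero] at h3
  rw [hy]
  exact h3.trans (hm j.unop)

theorem epi_serToHat [IsNoetherianRing Λ] : Epi (serToHat (X := X) a) := by
  refine Abelian.epi_of_cokernel_π_eq_zero (serToHat (X := X) a) (hom_eq_zero_of_wc (cokernel.π (serToHat (X := X) a)) fun W hW z => ?_)
  obtain ⟨y, rfl⟩ := serToHat_surjective a hW z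
  exact congrArg (fun t => t.hom y) (((evM Λ W).map_comp _ _).symm.trans
    ((congrArg _ (cokernel.condition (serToHat (X := X) a))).trans ((evM Λ W).map_zero _ _)))

variable {a} {F : EtModW.ModP Λ X}

theorem phi_bij (hF : ProEtDC.IsDCSheaf Λ (Ideal.span (Set.range a)) F) (W : X.ProEt) (k : Fin r) :
    Function.Bijective (phi (a k) ((evM Λ W).obj F)) :=
  phi_bijective_of_isDCSheaf hF W (Ideal.subset_span (Set.mem_range_self k))

/-- The map from series summing against a map `Λ → F`. -/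
noncomputable def serSum (hF : ProEtDC.IsDCSheaf Λ (Ideal.span (Set.range a)) F)
    (ι : (cst Λ X).obj (ModuleCat.of Λ Λ) ⟶ F) : serSheaf Λ X r ⟶ F :=
  ObjectProperty.homMk
    { app := fun V => ModuleCat.ofHom ((sumS a (phi_bij hF V.unop)).comp (LinearMap.pi fun α =>
        ((evM Λ V.unop).map (Pi.π (fun _ : PIdx.{u} r => (cst Λ X).obj (ModuleCat.of Λ Λ)) ⟨α⟩ ≫ ι)).hom))
      naturality := fun V V' k => by
        refine ModuleCat.hom_ext (LinearMap.ext fun y => ?_)
        refine Eq.trans ?_ (sumS_natural a (phi_bij hF V.unop) (phi_bij hF V'.unop) (F.obj.map k).hom _).symm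
        exact congrArg (sumS a (phi_bij hF V'.unop)) (funext fun α => congrArg (fun t => t.hom y)
          ((Pi.π (fun _ : PIdx.{u} r => (cst Λ X).obj (ModuleCat.of Λ Λ)) ⟨α⟩ ≫ ι).hom.naturality k)) }

theorem serSum_apply (hF : ProEtDC.IsDCSheaf Λ (Ideal.span (Set.range a)) F)
    (ι : (cst Λ X).obj (ModuleCat.of Λ Λ) ⟶ F) (W : X.ProEt) (y : (evM Λ W).obj (serSheaf Λ X r)) :
    ((evM Λ W).map (serSum hF ι)).hom y = sumS a (phi_bij hF W) (fun α => ((evM Λ W).map ι).hom (coeffS W y α)) := rfl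

theorem kernel_serSum [IsNoetherianRing Λ] (hF : ProEtDC.IsDCSheaf Λ (Ideal.span (Set.range a)) F)
    (ι : (cst Λ X).obj (ModuleCat.of Λ Λ) ⟶ F) : kernel.ι (serToHat a) ≫ serSum hF ι = 0 := by
  refine hom_eq_zero_of_wc _ fun W hW k => ?_
  rw [Functor.map_comp]
  show ((evM Λ W).map (serSum hF ι)).hom (((evM Λ W).map (kernel.ι (serToHat a))).hom k) = 0
  rw [serSum_apply]
  generalize hy : ((evM Λ W).map (kernel.ι (serToHat a))).hom k = y
  have h0 : ((evM Λ W).map (serToHat a)).hom y = 0 := by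
    rw [← hy]
    exact congrArg (fun t => t.hom k) (((evM Λ W).map_comp _ _).symm.trans
      ((congrArg _ (kernel.condition _)).trans ((evM Λ W).map_zero _ _)))
  haveI := flat_MW (Λ := Λ) hW
  obtain ⟨Q, hQ⟩ := exists_series_of_evN_mem a (coeffS W y) fun n => mem_smul_top_of_mkQ_eq_zero hW _ _ (by
    rw [← serToHat_π, h0, map_zero])
  let φ : MW Λ W →ₗ[Λ] (evM Λ W).obj F := ((evM Λ W).map ι).hom
  have h1 : (fun α => φ (coeffS W y α)) = ∑ j, (shiftS Λ ((evM Λ W).obj F) j (fun α => φ (Q j α)) - a j • fun α => φ (Q j α)) := by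
    funext α
    rw [hQ, Finset.sum_apply, map_sum, Finset.sum_apply]
    refine Finset.sum_congr rfl fun j _ => ?_
    rw [Pi.sub_apply, Pi.sub_apply, map_sub, Pi.smul_apply, Pi.smul_apply, map_smul]
    congr 1
    by_cases h : α j = 0 <;> simp [shiftS, h]
    exact map_zero φ
  show sumS a (phi_bij hF W) (fun α => φ (coeffS W y α)) = 0
  rw [h1, map_sum]
  refine Finset.sum_eq_zero fun j _ => ?_
  rw [map_sub, map_smul, sumS_shift, sub_self]

theorem exists_hom_lambdaHat [IsNoetherianRing Λ] (hF : ProEtDC.IsDCSheaf Λ (Ideal.span (Set.range a)) F)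
    (s : (evM Λ (ProEtS.topP X)).obj F) :
    ∃ φ : ProEtDC.lambdaHat Λ X (Ideal.span (Set.range a)) ⟶ F,
      ∃ z, ((evM Λ (ProEtS.topP X)).map φ).hom z = s := by
  classical
  let adj := constantSheafAdj (Scheme.ProEt.topology X) (ModuleCat.{u + 1} Λ)
    (MorphismProperty.Over.mkIdTerminal (P := @WeaklyEtale) X : IsTerminal (ProEtS.topP X))
  let ι : (cst Λ X).obj (ModuleCat.of Λ Λ) ⟶ F :=
    (adj.homEquiv (ModuleCat.of Λ Λ) F).symm (ModuleCat.ofHom (LinearMap.toSpanSingleton Λ _ s))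
  let one : MW Λ (ProEtS.topP X) := (adj.unit.app (ModuleCat.of Λ Λ)).hom (1 : Λ)
  have hι : ((evM Λ (ProEtS.topP X)).map ι).hom one = s := by
    have h := (adj.homEquiv (ModuleCat.of Λ Λ) F).apply_symm_apply (ModuleCat.ofHom (LinearMap.toSpanSingleton Λ _ s))
    rw [Adjunction.homEquiv_unit] at h
    exact (congrArg (fun t => t.hom (1 : Λ)) h).trans (LinearMap.toSpanSingleton_apply_one _ _ _)
  haveI := epi_serToHat (X := X) a
  let φ := Abelian.epiDesc (serToHat (X := X) a) (serSum hF ι) (kernel_serSum hF ι)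
  have hφ : serToHat a ≫ φ = serSum hF ι := Abelian.comp_epiDesc _ _ _
  obtain ⟨y, hy⟩ := coeffS_surjective (ProEtS.topP X) (fun α : Fin r →₀ ℕ => if α = 0 then one else 0)
  refine ⟨φ, ((evM Λ _).map (serToHat a)).hom y, ?_⟩
  rw [show ((evM Λ (ProEtS.topP X)).map φ).hom (((evM Λ _).map (serToHat a)).hom y) =
    ((evM Λ (ProEtS.topP X)).map (serSum hF ι)).hom y from
    congrArg (fun t => t.hom y) (((evM Λ _).map_comp _ _).symm.trans (congrArg _ hφ)), serSum_apply]
  rw [show (fun α => ((evM Λ (ProEtS.topP X)).map ι).hom (coeffS (ProEtS.topP X) y α)) =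
    fun α : Fin r →₀ ℕ => if α = 0 then s else 0 from funext fun α => by
      rw [hy]
      dsimp only
      split_ifs with h
      · exact hι
      · exact map_zero _]
  exact sumS_single a _ s

end Groth.Agent.EpsLib.DC
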