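import Groth.Agent.EpsLib.DCCriterion
import Mathlib.CategoryTheory.Abelian.Images
import Mathlib.CategoryTheory.Preadditive.Biproducts

/-! Consequences of the criterion for derived completeness. -/

set_option autoImplicit false
set_option linter.style.haveILetI false
set_option backward.isDefEq.respectTransparency false
set_option synthInstance.maxHeartbeats 400000
set_option maxHeartbeats 1000000
universe u

open CategoryTheory CategoryTheory.Limits AlgebraicGeometry Opposite

namespace Groth.Agent.EpsLib.DC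

variable {Λ : Type (u + 1)} [CommRing Λ] {X : Scheme.{u}} {I : Ideal Λ}

theorem isDC_kernel {F G : EtModW.ModP Λ X} (φ : F ⟶ G) (hF : ProEtDC.IsDCSheaf Λ I F)
    (hG : ProEtDC.IsDCSheaf Λ I G) : ProEtDC.IsDCSheaf Λ I (kernel φ) := by
  refine (isDCSheaf_iff I _).2 fun W hW f hf => ?_
  have hex := (ShortComplex.ShortExact.moduleCat_exact_iff_function_exact _).1
    ((ShortComplex.exact_of_f_is_kernel (ShortComplex.mk (kernel.ι φ) φ (kernel.condition φ))
      (kernelIsKernel φ)).map_of_mono_of_preservesKernel (evM Λ W) inferInstance inferInstance)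
  have hi := evM_injective_mono W (kernel.ι φ)
  exact ⟨phi_injective_of_mono f _ hi (phi_bijective_of_isDCSheaf hF W hf).1,
    phi_surjective_sub f _ _ hi hex (phi_bijective_of_isDCSheaf hG W hf).1 (phi_bijective_of_isDCSheaf hF W hf).2⟩

theorem isDC_cokernel {F G : EtModW.ModP Λ X} (φ : F ⟶ G) (hF : ProEtDC.IsDCSheaf Λ I F)
    (hG : ProEtDC.IsDCSheaf Λ I G) : ProEtDC.IsDCSheaf Λ I (cokernel φ) := by
  refine (isDCSheaf_iff I _).2 fun W hW f hf => ?_
  let S : ShortComplex (EtModW.ModP Λ X) := ShortComplex.mk (Abelian.image.ι φ) (cokernel.π φ) (kernel.condition _)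
  have hS : S.ShortExact := { exact := ShortComplex.exact_of_f_is_kernel _ (kernelIsKernel (cokernel.π φ)) }
  obtain ⟨hi, hex⟩ := evM_exact W hS
  have hI : Function.Surjective (phi f ((evM Λ W).obj S.X₁)) :=
    phi_surjective_of_epi f ((evM Λ W).map (Abelian.factorThruImage φ)).hom (evM_surjective hW _)
      (phi_bijective_of_isDCSheaf hF W hf).2
  have hp : Function.Surjective ((evM Λ W).map S.g).hom := evM_surjective hW _
  exact ⟨phi_injective_quot f _ _ hi hex hp hI (phi_bijective_of_isDCSheaf hG W hf).1,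
    phi_surjective_of_epi f _ hp (phi_bijective_of_isDCSheaf hG W hf).2⟩

theorem isDC_extension {S : ShortComplex (EtModW.ModP Λ X)} (hS : S.ShortExact)
    (h₁ : ProEtDC.IsDCSheaf Λ I S.X₁) (h₃ : ProEtDC.IsDCSheaf Λ I S.X₃) : ProEtDC.IsDCSheaf Λ I S.X₂ := by
  refine (isDCSheaf_iff I _).2 fun W hW f hf => ?_
  obtain ⟨hi, hex⟩ := evM_exact W hS
  haveI := hS.epi_g
  exact ⟨phi_injective_mid f _ _ hi hex (phi_bijective_of_isDCSheaf h₁ W hf).1 (phi_bijective_of_isDCSheaf h₃ W hf).1,
    phi_surjective_mid f _ _ hi hex (evM_surjective hW _) (phi_bijective_of_isDCSheaf h₁ W hf).2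
      (phi_bijective_of_isDCSheaf h₃ W hf).2⟩

theorem isDC_limit (D : ℕᵒᵖ ⥤ EtModW.ModP Λ X) (hD : ∀ n : ℕ, ProEtDC.IsDCSheaf Λ I (D.obj (op n))) :
    ProEtDC.IsDCSheaf Λ I (limit D) := by
  refine (isDCSheaf_iff I _).2 fun W hW f hf => ?_
  let hc := isLimitOfPreserves (evM Λ W ⋙ forget (ModuleCat.{u + 1} Λ)) (limit.isLimit D)
  let e := Types.isLimitEquivSections hc
  let p : ∀ j : ℕᵒᵖ, (evM Λ W).obj (limit D) →ₗ[Λ] (evM Λ W).obj (D.obj j) := fun j => ((evM Λ W).map (limit.π D j)).hom
  have ext : ∀ l l', (∀ j, p j l = p j l') → l = l' := fun l l' h =>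
    e.injective (Subtype.ext (funext fun j => by
      rw [Types.isLimitEquivSections_apply, Types.isLimitEquivSections_apply]
      exact h j))
  have hb : ∀ j : ℕᵒᵖ, Function.Bijective (phi f ((evM Λ W).obj (D.obj j))) := fun j =>
    phi_bijective_of_isDCSheaf (hD j.unop) W hf
  refine ⟨LinearMap.ker_eq_bot.1 (LinearMap.ker_eq_bot'.2 fun x hx => funext fun n => ext _ _ fun j => ?_), fun y => ?_⟩
  · have h1 : (fun n => p j (x n)) = 0 := (hb j).1 (by
      rw [phi_comp, hx, map_zero]
      exact funext fun n => map_zero (p j))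
    rw [Pi.zero_apply, map_zero]
    exact congrFun h1 n
  · choose x hx using fun j => (hb j).2 fun n => p j (y n)
    have hcompat : ∀ {j j'} (k : j ⟶ j'), (fun n => ((evM Λ W).map (D.map k)).hom (x j n)) = x j' := fun {j j'} k => by
      refine (hb j').1 ?_
      rw [phi_comp, hx, hx]
      funext n
      show ((evM Λ W).map (limit.π D j) ≫ (evM Λ W).map (D.map k)).hom (y n) = _
      rw [← Functor.map_comp, limit.w]
    refine ⟨fun n => e.symm ⟨fun j => x j n, fun {j j'} k => congrFun (hcompat k) n⟩, funext fun n => ext _ _ fun j => ?_⟩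
    rw [← congrFun (phi_comp f (p j) _) n, ← congrFun (hx j) n]
    refine congrArg (fun t => phi f _ t n) (funext fun m => ?_)
    exact Types.isLimitEquivSections_symm_apply hc _ j

theorem isZero_of_isDC {r : ℕ} (a : Fin r → Λ) (F : EtModW.ModP Λ X)
    (hF : ProEtDC.IsDCSheaf Λ (Ideal.span (Set.range a)) F) (h0 : ProEtDC.ModGensIsZero Λ a F) : IsZero F := by
  classical
  rw [IsZero.iff_id_eq_zero]
  refine hom_eq_zero_of_wc _ fun W hW m => ?_
  haveI : Epi (biproduct.desc (fun k : Fin r => ProEtDC.smulHom Λ F (a k))) := h0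
  refine eq_zero_of_phi_bijective a _ (fun k => phi_bijective_of_isDCSheaf hF W (Ideal.subset_span ⟨k, rfl⟩))
    (fun z => ?_) _
  obtain ⟨y, rfl⟩ := evM_surjective hW (biproduct.desc (fun k : Fin r => ProEtDC.smulHom Λ F (a k))) z
  refine ⟨fun k => ((evM Λ W).map (biproduct.π (fun _ : Fin r => F) k)).hom y, ?_⟩
  rw [biproduct.desc_eq, Functor.map_sum, ModuleCat.hom_sum, LinearMap.sum_apply]
  refine Finset.sum_congr rfl fun k _ => ?_
  rw [Functor.map_comp]
  rfl

theorem killedBy_constantSheaf (c : Λ) (M : ModuleCat.{u + 1} Λ) (h : c • 𝟙 M = 0) :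
    c • 𝟙 ((constantSheaf (Scheme.ProEt.topology X) (ModuleCat.{u + 1} Λ)).obj M) = 0 := by
  let adj := sheafificationAdjunction (Scheme.ProEt.topology X) (ModuleCat.{u + 1} Λ)
  apply (adj.homEquiv ((Functor.const X.ProEtᵒᵖ).obj M) _).injective
  rw [Adjunction.homEquiv_unit, Adjunction.homEquiv_unit]
  apply NatTrans.ext
  funext V
  ext x
  show c • ((adj.unit.app ((Functor.const X.ProEtᵒᵖ).obj M)).app V).hom x = 0
  rw [← map_smul]
  exact (congrArg _ (show c • x = 0 from congrArg (fun t => t.hom x) h)).trans (map_zero _)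

theorem isDC_lambdaHat (I : Ideal Λ) : ProEtDC.IsDCSheaf Λ I (ProEtDC.lambdaHat Λ X I) := by
  refine isDC_limit _ fun n => (isDCSheaf_iff I _).2 fun W hW f hf => phi_bijective_of_nilpotent f (k := n) fun m => ?_
  have h : f ^ n • 𝟙 ((ProEtDC.quotTower Λ I).obj (op n)) = 0 := by
    ext z : 2
    induction z using Submodule.Quotient.induction_on with
    | _ z =>
      show f ^ n • (Submodule.Quotient.mk z : Λ ⧸ (I ^ n • ⊤ : Submodule Λ Λ)) = 0
      rw [← Submodule.Quotient.mk_smul, Submodule.Quotient.mk_eq_zero]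
      exact Submodule.smul_mem_smul (Ideal.pow_mem_pow hf n) Submodule.mem_top
  exact congrArg (fun t => ((evM Λ W).map t).hom m) (killedBy_constantSheaf (X := X) (f ^ n) _ h)

end Groth.Agent.EpsLib.DC
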