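import Mathlib.CategoryTheory.Adjunction.FullyFaithful
import Mathlib.CategoryTheory.Adjunction.Limits
import Mathlib.Algebra.Homology.ShortComplex.ExactFunctor
import Mathlib.CategoryTheory.ObjectProperty.Kernels
import Groth.Prelude.Def_WeakSerre

/-! The image of a weak Serre subcategory under an exact fully faithful left adjoint. -/

set_option autoImplicit false
set_option linter.style.haveILetI false
universe v v' u u'

open CategoryTheory CategoryTheory.Limits

namespace Groth.Agent.EpsLib

variable {A : Type u} [Category.{v} A] [Abelian A] {B : Type u'} [Category.{v'} B] [Abelian B]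
  {L : A ⥤ B} {R : B ⥤ A} (adj : L ⊣ R)

include adj in
theorem isWeakSerre_image [PreservesFiniteLimits L] [PreservesFiniteColimits L]
    (hunit : ∀ F, IsIso (adj.unit.app F))
    (hlift : ∀ S : ShortComplex B, S.ShortExact → (∃ G, Nonempty (L.obj G ≅ S.X₁)) → Epi (R.map S.g))
    (P : ObjectProperty A) [WSerre.IsWeakSerre P] :
    WSerre.IsWeakSerre (fun F : B => ∃ G : A, P G ∧ Nonempty (L.obj G ≅ F)) := by
  haveI := hunit
  haveI : IsIso adj.unit := NatIso.isIso_of_isIso_app _
  haveI : L.Full := adj.full_L_of_isSplitEpi_unit_app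
  haveI : L.Faithful := adj.faithful_L_of_mono_unit_app
  haveI : PreservesBinaryBiproducts L := preservesBinaryBiproducts_of_preservesBinaryCoproducts L
  haveI : L.Additive := Functor.additive_of_preservesBinaryBiproducts L
  haveI := adj.rightAdjoint_preservesLimits
  haveI : PreservesFiniteLimits R := inferInstance
  haveI : PreservesBinaryBiproducts R := preservesBinaryBiproducts_of_preservesBinaryProducts R
  haveI : R.Additive := Functor.additive_of_preservesBinaryBiproducts R
  refine { exists_zero := ?_, kernels_le := ?_, cokernels_le := ?_, prop_X₂_of_shortExact := ?_ }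
  · obtain ⟨Z, hZ, hPZ⟩ := P.exists_prop_of_containsZero
    exact ⟨L.obj Z, L.map_isZero hZ, Z, hPZ, ⟨Iso.refl _⟩⟩
  · rintro K hK
    cases hK with
    | of_isLimit f k hk hf =>
      obtain ⟨⟨G, hG, ⟨e⟩⟩, G', hG', ⟨e'⟩⟩ := hf
      obtain ⟨g, hg⟩ := L.map_surjective (e.hom ≫ f ≫ e'.inv)
      refine ⟨kernel g, P.prop_kernel g hG hG', ⟨PreservesKernel.iso L g ≪≫ kernel.mapIso (L.map g) f e e' (by rw [hg]; simp) ≪≫ ?_⟩⟩
      exact (kernelIsKernel f).conePointUniqueUpToIso hk
  · rintro K hK
    cases hK with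
    | of_isColimit f k hk hf =>
      obtain ⟨⟨G, hG, ⟨e⟩⟩, G', hG', ⟨e'⟩⟩ := hf
      obtain ⟨g, hg⟩ := L.map_surjective (e.hom ≫ f ≫ e'.inv)
      refine ⟨cokernel g, P.prop_cokernel g hG hG', ⟨PreservesCokernel.iso L g ≪≫ cokernel.mapIso (L.map g) f e e' (by rw [hg]; simp) ≪≫ ?_⟩⟩
      exact (cokernelIsCokernel f).coconePointUniqueUpToIso hk
  · rintro S hS ⟨G, hG, ⟨e⟩⟩ ⟨G', hG', ⟨e'⟩⟩
    haveI := hlift S hS ⟨G, ⟨e⟩⟩
    haveI := hS.mono_f
    have hR : (S.map R).ShortExact :=
      { exact := hS.exact.map_of_mono_of_preservesKernel R ‹_› inferInstance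
        mono_f := inferInstanceAs (Mono (R.map S.f))
        epi_g := ‹Epi (R.map S.g)› }
    have hLR : ((S.map R).map L).ShortExact := hR.map_of_exact L
    let φ : (S.map R).map L ⟶ S :=
      { τ₁ := adj.counit.app S.X₁, τ₂ := adj.counit.app S.X₂, τ₃ := adj.counit.app S.X₃
        comm₁₂ := (adj.counit.naturality S.f).symm, comm₂₃ := (adj.counit.naturality S.g).symm }
    haveI : IsIso φ.τ₁ := by
      show IsIso (adj.counit.app S.X₁)
      have h := adj.counit.naturality e.hom
      simp only [Functor.comp_map, Functor.id_map] at h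
      haveI : IsIso (adj.counit.app (L.obj G)) := inferInstance
      haveI : IsIso (L.map (R.map e.hom) ≫ adj.counit.app S.X₁) := by rw [h]; infer_instance
      exact IsIso.of_isIso_comp_left (L.map (R.map e.hom)) _
    haveI : IsIso φ.τ₃ := by
      show IsIso (adj.counit.app S.X₃)
      have h := adj.counit.naturality e'.hom
      simp only [Functor.comp_map, Functor.id_map] at h
      haveI : IsIso (adj.counit.app (L.obj G')) := inferInstance
      haveI : IsIso (L.map (R.map e'.hom) ≫ adj.counit.app S.X₃) := by rw [h]; infer_instance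
      exact IsIso.of_isIso_comp_left (L.map (R.map e'.hom)) _
    have hτ : IsIso φ.τ₂ := ShortComplex.isIso₂_of_shortExact_of_isIso₁₃ φ hLR hS
    refine ⟨R.obj S.X₂, P.prop_X₂_of_shortExact hR ?_ ?_, ⟨@asIso _ _ _ _ φ.τ₂ hτ⟩⟩
    · exact P.prop_of_iso (asIso (adj.unit.app G) ≪≫ R.mapIso e) hG
    · exact P.prop_of_iso (asIso (adj.unit.app G') ≪≫ R.mapIso e') hG'

end Groth.Agent.EpsLib
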