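import Groth.Agent.EpsLib.Cohomology
import Groth.Agent.EpsLib.EssImage

/-! The essential image of `ε⁻¹`. -/

set_option autoImplicit false
set_option linter.style.haveILetI false
set_option backward.isDefEq.respectTransparency false
set_option synthInstance.maxHeartbeats 400000
universe u

open CategoryTheory CategoryTheory.Limits AlgebraicGeometry Opposite

namespace Groth.Agent.EpsLib

open WCSiteLib

variable {X : Scheme.{u}} [ProEtS.EpsCont X]

theorem epsPull_preservesFiniteLimitsColimits :
    PreservesFiniteLimits (ProEtS.epsPull X) ∧ PreservesFiniteColimits (ProEtS.epsPull X) := by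
  haveI := epsPull_additive (X := X)
  exact ((ProEtS.epsPull X).exact_tfae.out 0 3
    (a := ∀ S : ShortComplex (EtCoh.Ab X), S.ShortExact → (S.map (ProEtS.epsPull X)).ShortExact)
    (b := PreservesFiniteLimits (ProEtS.epsPull X) ∧ PreservesFiniteColimits (ProEtS.epsPull X))).1
    fun S hS => epsPull_shortExact hS

theorem epi_epsPush_map_of_image {S : ShortComplex (ProEtS.AbP X)} (hS : S.ShortExact)
    (h : ∃ G, Nonempty ((ProEtS.epsPull X).obj G ≅ S.X₁)) : Epi ((ProEtS.epsPush X).map S.g) := by
  haveI := preservesFiniteLimits_epsPush (X := X)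
  obtain ⟨G, ⟨e⟩⟩ := h
  exact (RDerLib.epi_map_g_iff S.g).1 (RDerLib.epi_map_g hS 0
    ((isZero_RepsPush_epsPull 0 G).of_iso ((ProEtS.RepsPush X 1).mapIso e).symm))

theorem isWeakSerre_image_epsPull (P : ObjectProperty (EtCoh.Ab X)) [WSerre.IsWeakSerre P] :
    WSerre.IsWeakSerre (fun F : ProEtS.AbP X => ∃ G : EtCoh.Ab X, P G ∧ Nonempty ((ProEtS.epsPull X).obj G ≅ F)) := by
  haveI := (epsPull_preservesFiniteLimitsColimits (X := X)).1
  haveI := (epsPull_preservesFiniteLimitsColimits (X := X)).2
  exact isWeakSerre_image (ProEtS.epsAdj X) (fun F => isIso_unit X F) (fun S hS h => epi_epsPush_map_of_image hS h) P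

end Groth.Agent.EpsLib
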