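import Groth.Agent.EpsLib.Approx

/-! Presentations as cofiltered limits of quasi-compact quasi-separated étale objects. -/

set_option autoImplicit false
set_option linter.style.haveILetI false
set_option backward.isDefEq.respectTransparency false
set_option synthInstance.maxHeartbeats 400000
universe u

open CategoryTheory CategoryTheory.Limits AlgebraicGeometry Opposite

namespace Groth.Agent.EpsLib

open ProEtPtsLib WCSiteLib

variable {X : Scheme.{u}}

/-- A presentation as a cofiltered limit of quasi-compact quasi-separated étale objects with affine transition maps. -/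
structure GApprox (T : X.ProEt) where
  /-- The index category. -/
  I : Type u
  /-- Its category structure. -/
  [cat : SmallCategory I]
  [cofiltered : IsCofiltered I]
  /-- The system. -/
  D : I ⥤ X.Etale
  qcqs : ∀ i, IsQcqs ((ProEtS.eps X).obj (D.obj i))
  affineHom : ∀ (i j : I) (a : i ⟶ j), IsAffineHom (und ((D ⋙ ProEtS.eps X).map a))
  /-- The legs. -/
  π : (Functor.const I).obj T ⟶ D ⋙ ProEtS.eps X
  /-- It is a limit of schemes. -/
  isLimit : IsLimit ((undF X).mapCone (Cone.mk T π))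

attribute [instance] GApprox.cat GApprox.cofiltered

/-- An affine approximation is one by quasi-compact quasi-separated objects. -/
noncomputable def Approx.toGApprox {T : X.ProEt} (Φ : Approx T) : GApprox T where
  I := Φ.I
  D := Φ.D
  qcqs i := by
    haveI : IsAffine ((ProEtS.eps X).obj (Φ.D.obj i)).left := Φ.affine i
    exact isQcqs_of_isAffine _
  affineHom i j a := by
    haveI : IsAffine ((Φ.D ⋙ ProEtS.eps X).obj i).left := Φ.affine i
    haveI : IsAffine ((Φ.D ⋙ ProEtS.eps X).obj j).left := Φ.affine j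
    exact isAffineHom_of_affines _
  π := Φ.π
  isLimit := Φ.isLimit

namespace GApprox

variable {T : X.ProEt} (Φ : GApprox T) (i : Φ.I) (O : (Φ.D.obj i).left.Opens)

/-- The open subset of the limit. -/
noncomputable def pre : T.left.Opens := (und (Φ.π.app i)) ⁻¹ᵁ O

theorem isAffineHom_left {i j : Φ.I} (a : i ⟶ j) : IsAffineHom (Φ.D.map a).left := Φ.affineHom i j a

theorem openD_le {j k : Over i} (a : j ⟶ k) :
    (Φ.D.map j.hom).left ⁻¹ᵁ O ≤ (Φ.D.map a.left).left ⁻¹ᵁ ((Φ.D.map k.hom).left ⁻¹ᵁ O) := le_of_eq (by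
  rw [← Scheme.Hom.comp_preimage]
  exact congrArg (fun m : (Φ.D.obj j.left).left ⟶ (Φ.D.obj i).left => m ⁻¹ᵁ O)
    (show (Φ.D.map j.hom).left = (Φ.D.map a.left).left ≫ (Φ.D.map k.hom).left by
      exact congrArg (fun t => t.left) (show Φ.D.map j.hom = Φ.D.map a.left ≫ Φ.D.map k.hom by rw [← Φ.D.map_comp, Over.w a])))

/-- The open subsystem. -/
noncomputable def openD : Over i ⥤ X.Etale where
  obj j := etObj (Φ.D.obj j.left) ((Φ.D.map j.hom).left ⁻¹ᵁ O)
  map {j k} a := MorphismProperty.Over.homMk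
    ((Φ.D.map a.left).left.resLE _ _ (Φ.openD_le i O a)) (by
      show _ ≫ Scheme.Opens.ι _ ≫ (Φ.D.obj k.left).hom = Scheme.Opens.ι _ ≫ (Φ.D.obj j.left).hom
      rw [Scheme.Hom.resLE_comp_ι_assoc]
      exact congrArg (_ ≫ ·) (MorphismProperty.Over.w (Φ.D.map a.left))) trivial
  map_id j := MorphismProperty.Over.Hom.ext ((opensDiagram ((Φ.D ⋙ ProEtS.eps X) ⋙ undF X) i O).map_id j)
  map_comp a b := MorphismProperty.Over.Hom.ext ((opensDiagram ((Φ.D ⋙ ProEtS.eps X) ⋙ undF X) i O).map_comp a b)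

theorem pre_le (j : Over i) :
    Φ.pre i O ≤ (und (Φ.π.app j.left)) ⁻¹ᵁ ((Φ.D.map j.hom).left ⁻¹ᵁ O) := le_of_eq (by
  rw [← Scheme.Hom.comp_preimage]
  exact congrArg (fun m : T.left ⟶ (Φ.D.obj i).left => m ⁻¹ᵁ O)
    (congrArg (fun m => und m) ((Φ.π.naturality j.hom).symm.trans (Category.id_comp _))).symm)

/-- The open cone. -/
noncomputable def openπ : (Functor.const (Over i)).obj (openObj T (Φ.pre i O)) ⟶ Φ.openD i O ⋙ ProEtS.eps X where
  app j := MorphismProperty.Over.homMk ((und (Φ.π.app j.left)).resLE _ _ (Φ.pre_le i O j)) (by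
    show _ ≫ Scheme.Opens.ι _ ≫ (Φ.D.obj j.left).hom = Scheme.Opens.ι _ ≫ T.hom
    rw [Scheme.Hom.resLE_comp_ι_assoc]
    exact congrArg (_ ≫ ·) (und_w (Φ.π.app j.left)))
  naturality j k a := hom_ext_und
    ((opensCone ((Φ.D ⋙ ProEtS.eps X) ⋙ undF X) ((undF X).mapCone (Cone.mk T Φ.π)) i O).π.naturality a)

theorem isQcqs_openD (hO : IsCompact (O : Set (Φ.D.obj i).left)) (j : Over i) :
    IsQcqs ((ProEtS.eps X).obj ((Φ.openD i O).obj j)) := by
  haveI := Φ.isAffineHom_left j.hom
  haveI hq : QuasiSeparatedSpace ↥(Φ.D.obj j.left).left := (Φ.qcqs j.left).qs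
  refine ⟨isCompact_iff_compactSpace.mp (QuasiCompact.isCompact_preimage (f := (Φ.D.map j.hom).left) _ O.2 hO), ?_⟩
  exact quasiSeparatedSpace_of_quasiSeparated ((Φ.D.map j.hom).left ⁻¹ᵁ O).ι

/-- The open subobject is approximated. -/
noncomputable def openG (hO : IsCompact (O : Set (Φ.D.obj i).left)) : GApprox (openObj T (Φ.pre i O)) where
  I := Over i
  D := Φ.openD i O
  qcqs := Φ.isQcqs_openD i O hO
  affineHom j k a := by
    haveI : ∀ {i j : Φ.I} (f : i ⟶ j), IsAffineHom (((Φ.D ⋙ ProEtS.eps X) ⋙ undF X).map f) := fun f => Φ.affineHom _ _ f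
    exact inferInstanceAs (IsAffineHom ((opensDiagram ((Φ.D ⋙ ProEtS.eps X) ⋙ undF X) i O).map a))
  π := Φ.openπ i O
  isLimit := IsLimit.ofIsoLimit
    (isLimitOpensCone ((Φ.D ⋙ ProEtS.eps X) ⋙ undF X) _ Φ.isLimit i O)
    (Cone.ext (Iso.refl _) fun j => (Category.id_comp _).symm)

include Φ in
theorem isApprox_open (hO : IsAffineOpen O) : IsApprox (openObj T (Φ.pre i O)) :=
  ⟨{ I := Over i
     D := Φ.openD i O
     affine := fun j => by
      haveI := Φ.isAffineHom_left j.hom
      exact hO.preimage (Φ.D.map j.hom).left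
     π := Φ.openπ i O
     isLimit := IsLimit.ofIsoLimit
       (isLimitOpensCone ((Φ.D ⋙ ProEtS.eps X) ⋙ undF X) _ Φ.isLimit i O)
       (Cone.ext (Iso.refl _) fun j => (Category.id_comp _).symm) }⟩

end GApprox

end Groth.Agent.EpsLib
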