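import Groth.Agent.EpsLib.SysCont
import Mathlib.Algebra.Module.FinitePresentation

/-! Descent of locally constant sheaves of modules from the pro-étale site to the étale site. -/

set_option autoImplicit false
set_option linter.style.haveILetI false
set_option backward.isDefEq.respectTransparency false
set_option synthInstance.maxHeartbeats 400000
set_option maxHeartbeats 1000000
universe u

open CategoryTheory CategoryTheory.Limits AlgebraicGeometry Opposite

namespace Groth.Agent.EpsLib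

open ProEtPtsLib WCSiteLib CO

variable {Λ : Type (u + 1)} [CommRing Λ] {X : Scheme.{u}}

/-- The constant pro-étale sheaf. -/
noncomputable abbrev cP (M : ModuleCat.{u + 1} Λ) : EtModW.ModP Λ X :=
  (constantSheaf (Scheme.ProEt.topology X) (ModuleCat.{u + 1} Λ)).obj M

/-- The terminal étale object. -/
noncomputable abbrev topE (X : Scheme.{u}) : X.Etale :=
  MorphismProperty.Over.mk ⊤ (𝟙 X) (inferInstanceAs (Etale (𝟙 X)))

theorem sysCont_cP [ProEtS.EpsCont X] (M : ModuleCat.{u + 1} Λ) : SysCont (cP (X := X) M) := by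
  let hE : IsTerminal (topE X) := MorphismProperty.Over.mkIdTerminal (P := EtCoh.etaleMP.{u}) X
  let hP : IsTerminal ((ProEtS.eps X).obj (topE X)) := MorphismProperty.Over.mkIdTerminal (P := @WeaklyEtale) X
  let a₁ := (constantSheafAdj X.smallEtaleTopology (ModuleCat.{u + 1} Λ) hE).comp (epsAdjMod Λ X)
  let a₂ := constantSheafAdj (Scheme.ProEt.topology X) (ModuleCat.{u + 1} Λ) hP
  exact SysCont.of_iso ((a₂.leftAdjointUniq (a₁.ofNatIsoRight (NatIso.ofComponents (fun F => Iso.refl _)))).app M)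
    (sysCont_epsPullMod _)

theorem exists_gen_sep {G : EtModW.ModP Λ X} {U : X.ProEt} {M : ModuleCat.{u + 1} Λ}
    (e : G.over U ≅ (constantSheaf ((Scheme.ProEt.topology X).over U) (ModuleCat.{u + 1} Λ)).obj M) :
    ∃ η : M →ₗ[Λ] G.obj.obj (op U), Gen G U η ∧ Sep G U η := exists_of_iso G e

theorem locSysCont_of_isFPLocConstP [ProEtS.EpsCont X] {G : EtModW.ModP Λ X} (h : EtModW.IsFPLocConstP Λ G) :
    LocSysCont G := by
  obtain ⟨ι, U, hU, hM⟩ := h
  refine ⟨ι, U, hU, fun k => ?_⟩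
  obtain ⟨M, _, _, _, ⟨e⟩⟩ := hM k
  obtain ⟨e'⟩ := nonempty_iso (cP (X := X) (ModuleCat.of Λ M)) (gen_constη (J := Scheme.ProEt.topology X) (ModuleCat.of Λ M) (U k))
    (sep_constη (J := Scheme.ProEt.topology X) (ModuleCat.of Λ M) (U k))
  exact ⟨cP (ModuleCat.of Λ M), sysCont_cP _, ⟨e ≪≫ e'.symm⟩⟩

section Linear

variable {H : EtModW.ModP Λ X} {T : X.ProEt} (S : Sys T)

theorem exists_level_forall (hH : SysCont H) {ι : Type*} [Finite ι] (i : S.I) (t : ι → H.obj.obj (op (S.D.obj i)))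
    (ht : ∀ k, res H (S.π.app i) (t k) = 0) : ∃ (j : S.I) (a : j ⟶ i), ∀ k, res H (S.D.map a) (t k) = 0 := by
  classical
  haveI := Fintype.ofFinite ι
  suffices h : ∀ s : Finset ι, ∃ (j : S.I) (a : j ⟶ i), ∀ k ∈ s, res H (S.D.map a) (t k) = 0 by
    obtain ⟨j, a, ha⟩ := h Finset.univ
    exact ⟨j, a, fun k => ha k (Finset.mem_univ k)⟩
  intro s
  induction s using Finset.induction_on with
  | empty => exact ⟨i, 𝟙 _, fun k hk => absurd hk (Finset.notMem_empty k)⟩
  | insert k s _ ih =>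
    obtain ⟨j, a, ha⟩ := ih
    obtain ⟨j', a', ha'⟩ := (hH T S).1 j (res H (S.D.map a) (t k)) (by rw [res_res, S.w]; exact ht k)
    refine ⟨j', a' ≫ a, fun k' hk' => ?_⟩
    rw [S.D.map_comp, ← res_res]
    rcases Finset.mem_insert.1 hk' with rfl | hk'
    · exact ha'
    · rw [ha k' hk', map_zero]

theorem exists_level_linear_eq (hH : SysCont H) {M : Type (u + 1)} [AddCommGroup M] [Module Λ M] [Module.Finite Λ M]
    (i : S.I) (θ θ' : M →ₗ[Λ] H.obj.obj (op (S.D.obj i)))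
    (h : ∀ m, res H (S.π.app i) (θ m) = res H (S.π.app i) (θ' m)) :
    ∃ (j : S.I) (a : j ⟶ i), ∀ m, res H (S.D.map a) (θ m) = res H (S.D.map a) (θ' m) := by
  obtain ⟨n, v, hv⟩ := Module.Finite.exists_fin (R := Λ) (M := M)
  obtain ⟨j, a, ha⟩ := exists_level_forall S hH i (fun k => θ (v k) - θ' (v k)) fun k => by rw [map_sub, h, sub_self]
  refine ⟨j, a, fun m => ?_⟩
  exact LinearMap.congr_fun (LinearMap.ext_on_range (f := res H (S.D.map a) ∘ₗ θ) (g := res H (S.D.map a) ∘ₗ θ') hv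
    fun k => sub_eq_zero.1 (by rw [LinearMap.comp_apply, LinearMap.comp_apply, ← map_sub]; exact ha k)) m

theorem exists_level_linear (hH : SysCont H) {M : Type (u + 1)} [AddCommGroup M] [Module Λ M]
    [Module.FinitePresentation Λ M] (γ : M →ₗ[Λ] H.obj.obj (op T)) :
    ∃ (i : S.I) (θ : M →ₗ[Λ] H.obj.obj (op (S.D.obj i))), ∀ m, res H (S.π.app i) (θ m) = γ m := by
  classical
  obtain ⟨n, K, e, hK⟩ := Module.FinitePresentation.exists_fin Λ M
  let p : Fin n → H.obj.obj (op T) := fun l => γ (e.symm (K.mkQ (Pi.single l 1)))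
  choose il x hx using fun l => (hH T S).2 (p l)
  obtain ⟨i, hi⟩ := IsCofiltered.inf_objs_exists (insert (IsCofiltered.nonempty (C := S.I)).some (Finset.univ.image il))
  let a : ∀ l, i ⟶ il l := fun l => (hi (Finset.mem_insert_of_mem (Finset.mem_image_of_mem _ (Finset.mem_univ l)))).some
  let L : (Fin n → Λ) →ₗ[Λ] H.obj.obj (op (S.D.obj i)) :=
    ∑ l, (LinearMap.proj l : (Fin n → Λ) →ₗ[Λ] Λ).smulRight (res H (S.D.map (a l)) (x l))
  have hL : ∀ w, res H (S.π.app i) (L w) = γ (e.symm (K.mkQ w)) := fun w => by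
    conv_rhs => rw [pi_eq_sum_univ' w, map_sum, map_sum, map_sum]
    simp only [L, LinearMap.sum_apply, map_sum, LinearMap.smulRight_apply, LinearMap.proj_apply]
    refine Finset.sum_congr rfl fun l _ => ?_
    rw [map_smul, res_res, S.w, map_smul K.mkQ, map_smul e.symm, map_smul γ]
    exact congrArg (w l • ·) (hx l)
  obtain ⟨r, v, hv⟩ := Submodule.fg_iff_exists_fin_generating_family.1 hK
  obtain ⟨j, b, hb⟩ := exists_level_forall S hH i (fun k => L (v k)) fun k => by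
    rw [hL, Submodule.mkQ_apply, (Submodule.Quotient.mk_eq_zero K).2 (hv ▸ Submodule.subset_span ⟨k, rfl⟩), map_zero, map_zero]
  refine ⟨j, K.liftQ (res H (S.D.map b) ∘ₗ L) ?_ ∘ₗ e.toLinearMap, fun m => ?_⟩
  · rw [← hv, Submodule.span_le]
    rintro _ ⟨k, rfl⟩
    exact hb k
  · obtain ⟨w, hw⟩ := K.mkQ_surjective (e m)
    rw [LinearMap.comp_apply, LinearEquiv.coe_coe]
    rw [← hw, Submodule.mkQ_apply, Submodule.liftQ_apply, LinearMap.comp_apply, res_res, S.w]
    refine (hL w).trans ?_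
    rw [show K.mkQ w = e m from hw, LinearEquiv.symm_apply_apply]

end Linear

theorem exists_approx_hit {U : X.ProEt} (R : Sieve U) (hR : R ∈ Scheme.ProEt.topology X U) (x : ↥U.left) :
    ∃ (W : X.ProEt) (a : W ⟶ U) (w : ↥W.left), R.arrows a ∧ IsApprox W ∧ (und a).base w = x := by
  let R' : Sieve U :=
    { arrows := fun Z q => ∃ (W : X.ProEt) (c : Z ⟶ W) (a : W ⟶ U), R.arrows a ∧ IsApprox W ∧ c ≫ a = q
      downward_closed := by
        rintro Z Z' q ⟨W, c, a, h1, h2, rfl⟩ g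
        exact ⟨W, g ≫ c, a, h1, h2, Category.assoc _ _ _⟩ }
  have hR' : R' ∈ Scheme.ProEt.topology X U := (Scheme.ProEt.topology X).transitive hR _ fun Z q hq =>
    mem_of_approx _ fun W c hW => ⟨W, 𝟙 _, c ≫ q, R.downward_closed hq c, hW, Category.id_comp _⟩
  obtain ⟨Z, _, z, ⟨W, c, a, h1, h2, rfl⟩, hz⟩ := exists_hit R' hR' x
  exact ⟨W, a, (und c).base z, h1, h2, hz⟩

theorem et_mem_iff {Z : X.Etale} (R : Sieve Z) : R ∈ X.smallEtaleTopology Z ↔
    ∀ z : ↥Z.left, ∃ (Y : X.Etale) (f : Y ⟶ Z) (y : ↥Y.left), R f ∧ Etale f.left ∧ f.left y = z := by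
  refine Iff.trans ?_ (Scheme.mem_toGrothendieck_smallPretopology (P := EtCoh.etaleMP.{u}) (Q := EtCoh.etaleMP.{u}) Z R)
  rw [← Scheme.smallGrothendieckTopology_eq_toGrothendieck_smallPretopology _ le_rfl]
  rfl

theorem not_bot_mem {U : X.ProEt} (x : ↥U.left) : (⊥ : Sieve U) ∉ Scheme.ProEt.topology X U := fun h => by
  obtain ⟨_, _, _, hh, -⟩ := exists_hit _ h x
  exact hh

section Glue

variable {G : EtModW.ModP Λ X} {U : X.ProEt} {M : ModuleCat.{u + 1} Λ} {η : M →ₗ[Λ] G.obj.obj (op U)}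
  {n : ℕ} {Y : Fin n → X.ProEt} {y : ∀ k, Y k ⟶ U}

theorem gen_of_cover (hy : Sieve.ofArrows Y y ∈ Scheme.ProEt.topology X U)
    (h : ∀ k, Gen G (Y k) (res G (y k) ∘ₗ η)) : Gen G U η := by
  intro Z b x
  let R : Sieve Z :=
    { arrows := fun P q => ∃ m : M, res G q x = res G (q ≫ b) (η m)
      downward_closed := by
        rintro P P' q ⟨m, hm⟩ g
        exact ⟨m, by rw [← res_res, hm, res_res, Category.assoc]⟩ }
  refine ⟨R, (Scheme.ProEt.topology X).transitive ((Scheme.ProEt.topology X).pullback_stable b hy) R ?_, fun P q hq => hq⟩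
  rintro P q ⟨_, c, _, ⟨k⟩, hc⟩
  obtain ⟨R', hR', hR''⟩ := h k P c (res G q x)
  refine GrothendieckTopology.superset_covering _ (fun P' g hg => ?_) hR'
  obtain ⟨m, hm⟩ := hR'' P' g hg
  refine ⟨m, ?_⟩
  rw [← res_res, hm, LinearMap.comp_apply, res_res, Category.assoc, hc, ← Category.assoc]

theorem sep_of_cover (hy : Sieve.ofArrows Y y ∈ Scheme.ProEt.topology X U)
    (h : ∀ k, Sep G (Y k) (res G (y k) ∘ₗ η)) : Sep G U η := by
  intro Z b m hm
  by_cases hm0 : m = 0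
  · exact Or.inr hm0
  refine Or.inl ((Scheme.ProEt.topology X).transitive ((Scheme.ProEt.topology X).pullback_stable b hy) ⊥ ?_)
  rintro P q ⟨_, c, _, ⟨k⟩, hc⟩
  rcases h k P c m (by rw [LinearMap.comp_apply, res_res, hc, ← res_res, hm, map_zero]) with h' | h'
  · exact GrothendieckTopology.superset_covering _ bot_le h'
  · exact absurd h' hm0

end Glue

theorem exists_const_level [ProEtS.EpsCont X] {G : EtModW.ModP Λ X} (hG : EtModW.IsFPLocConstP Λ G) (v : X) :
    ∃ (V : X.Etale) (_ : ∃ z : V.left, V.hom.base z = v) (M : Type (u + 1)) (_ : AddCommGroup M) (_ : Module Λ M)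
      (_ : Module.FinitePresentation Λ M) (θ : (ModuleCat.of Λ M) →ₗ[Λ] G.obj.obj (op ((ProEtS.eps X).obj V))),
      Gen G ((ProEtS.eps X).obj V) θ ∧ Sep G ((ProEtS.eps X).obj V) θ := by
  classical
  have hS : SysCont G := sysCont_of_local (locSysCont_of_isFPLocConstP hG)
  obtain ⟨ι, U, hU, hconst⟩ := hG
  obtain ⟨W, a, w, ⟨_, qW, _, ⟨k₀⟩, -⟩, ⟨Φ⟩, hw⟩ := exists_approx_hit _ hU (U := ProEtS.topP X) v
  obtain ⟨M, iM, iM', iM'', ⟨e₀⟩⟩ := hconst k₀
  obtain ⟨η₀, hg₀, hs₀⟩ := exists_gen_sep e₀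
  let S := Φ.toSys
  let M' := ModuleCat.of Λ M
  have hgW : Gen G W (res G qW ∘ₗ η₀) := hg₀.map qW
  have hsW : Sep G W (res G qW ∘ₗ η₀) := hs₀.map qW
  haveI : Module.FinitePresentation Λ M' := iM''
  obtain ⟨i₁, θ₁, hθ₁⟩ := exists_level_linear S hS (M := M') (res G qW ∘ₗ η₀)
  let V₁ : X.ProEt := S.D.obj i₁
  haveI : CompactSpace ↥V₁.left := (S.qcqs i₁).1
  obtain ⟨n, Y, y, hY, hyR, hym⟩ := exists_finite_affine_cover _ ((Scheme.ProEt.topology X).pullback_stable
    ((MorphismProperty.Over.mkIdTerminal (P := @WeaklyEtale) X).from V₁ : V₁ ⟶ ProEtS.topP X) hU)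
  have hq : ∀ k, ∃ (l : ι) (_ : Y k ⟶ U l), True := fun k => by
    obtain ⟨_, q, _, ⟨l⟩, -⟩ := hyR k
    exact ⟨l, q, trivial⟩
  choose l q _ using hq
  have hYq : ∀ k, IsQcqs (Y k) := fun k => haveI := hY k; isQcqs_of_isAffine _
  -- over each piece, generation and separation hold at some level
  have main : ∀ k, ∃ j : Over i₁, ∀ (j' : Over i₁) (_ : j' ⟶ j),
      Gen G (pullback (S.D.map j'.hom) (y k)) (res G (pullback.fst _ _ ≫ S.D.map j'.hom) ∘ₗ θ₁) ∧
      Sep G (pullback (S.D.map j'.hom) (y k)) (res G (pullback.fst _ _ ≫ S.D.map j'.hom) ∘ₗ θ₁) := by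
    intro k
    obtain ⟨Mk, _, _, _, ⟨ek⟩⟩ := hconst (l k)
    obtain ⟨ηU, hgU, hsU⟩ := exists_gen_sep ek
    let ηk := res G (q k) ∘ₗ ηU
    have hgk : Gen G (Y k) ηk := hgU.map (q k)
    have hsk : Sep G (Y k) ηk := hsU.map (q k)
    let Mk' := ModuleCat.of Λ Mk
    have gK : ∀ (N : ModuleCat.{u + 1} Λ) (Z : X.ProEt), Gen (cP N) Z (constη (Scheme.ProEt.topology X) N Z) :=
      fun N Z => gen_constη N Z
    have sK : ∀ (N : ModuleCat.{u + 1} Λ) (Z : X.ProEt), Sep (cP N) Z (constη (Scheme.ProEt.topology X) N Z) :=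
      fun N Z => sep_constη N Z
    obtain ⟨Ψ, hΨ⟩ := exists_ext (gK M' V₁) (sK M' V₁) θ₁
    simp only [res_constη] at hΨ
    obtain ⟨Φk, hΦk⟩ := exists_ext (gK Mk' (Y k)) (sK Mk' (Y k)) ηk
    simp only [res_constη] at hΦk
    have hΦbij : ∀ {Z : X.ProEt} (b : Z ⟶ Y k), Function.Bijective (ovApp Φk b) := fun {Z} b => by
      have h := ext_bijective (gK Mk' (Y k)) Φk (θ := ηk) (fun Z b m => by rw [res_constη]; exact hΦk Z b m) (𝟙 _)
        (hgk.map _) (hsk.map _) b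
      rwa [Category.comp_id] at h
    let P := pullSys S i₁ (y k) (hYq k)
    let T := pullback (S.π.app i₁) (y k)
    let t₁ : T ⟶ W := pullback.fst _ _
    let bT : T ⟶ Y k := pullback.snd _ _
    have hWeq : ∀ m, res G (t₁ ≫ qW) (η₀ m) = res G (t₁ ≫ S.π.app i₁) (θ₁ m) := fun m => by
      rw [← res_res, ← res_res]
      exact congrArg (res G t₁) (hθ₁ m).symm
    have hWeq' : res G (t₁ ≫ S.π.app i₁) ∘ₗ θ₁ = res G t₁ ∘ₗ (res G qW ∘ₗ η₀) := LinearMap.ext fun m => by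
      rw [LinearMap.comp_apply, ← hWeq, ← res_res]
      rfl
    have hΨbij : Function.Bijective (ovApp Ψ (t₁ ≫ S.π.app i₁)) := by
      have h := ext_bijective (gK M' V₁) Ψ (θ := θ₁) (fun Z b m => by rw [res_constη]; exact hΨ Z b m)
        (t₁ ≫ S.π.app i₁) (by rw [hWeq']; exact hgW.map t₁) (by rw [hWeq']; exact hsW.map t₁) (𝟙 _)
      rwa [Category.id_comp] at h
    let eΨ := LinearEquiv.ofBijective (ovApp Ψ (t₁ ≫ S.π.app i₁)) hΨbij
    have hKc : SysCont (cP (X := X) M') := sysCont_cP M'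
    let πm : ∀ j : Over i₁, T ⟶ pullback (S.D.map j.hom) (y k) := fun j => (pullπ S i₁ (y k)).app j
    let Dm : ∀ {j j' : Over i₁} (_ : j ⟶ j'), pullback (S.D.map j.hom) (y k) ⟶ pullback (S.D.map j'.hom) (y k) :=
      fun c => (pullD S i₁ (y k)).map c
    obtain ⟨j₁, χθ, hχθ⟩ : ∃ (j₁ : Over i₁) (χθ : Mk' →ₗ[Λ] (cP (X := X) M').obj.obj (op (pullback (S.D.map j₁.hom) (y k)))),
        ∀ m, res (cP M') (πm j₁) (χθ m) = eΨ.symm (res G bT (ηk m)) :=
      exists_level_linear P hKc (M := Mk) (eΨ.symm.toLinearMap ∘ₗ (res G bT ∘ₗ ηk))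
    -- the equation `Ψ χ = Φ` holds at a level
    let fj : ∀ j : Over i₁, pullback (S.D.map j.hom) (y k) ⟶ V₁ := fun j => pullback.fst _ _ ≫ S.D.map j.hom
    let bj : ∀ j : Over i₁, pullback (S.D.map j.hom) (y k) ⟶ Y k := fun j => pullback.snd _ _
    have hfπ : ∀ j, πm j ≫ fj j = t₁ ≫ S.π.app i₁ := fun j => by
      show (pullπ S i₁ (y k)).app j ≫ pullback.fst _ _ ≫ S.D.map j.hom = _
      rw [← Category.assoc, show (pullπ S i₁ (y k)).app j ≫ pullback.fst _ _ = _ from pullback.lift_fst _ _ _,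
        Category.assoc, S.w]
    have hbπ : ∀ j, πm j ≫ bj j = bT := fun j => pullback.lift_snd _ _ _
    have hfm : ∀ {j j' : Over i₁} (c : j ⟶ j'), Dm c ≫ fj j' = fj j := fun {j j'} c => by
      show (pullD S i₁ (y k)).map c ≫ pullback.fst _ _ ≫ S.D.map j'.hom = _
      rw [← Category.assoc, (pull_isPullback S i₁ (y k) c).w, Category.assoc, ← S.D.map_comp, Over.w c]
    have hbm : ∀ {j j' : Over i₁} (c : j ⟶ j'), Dm c ≫ bj j' = bj j := fun {j j'} c => by
      simp [Dm, bj]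
    have hDc : ∀ {j j' j'' : Over i₁} (c : j ⟶ j') (c' : j' ⟶ j''), Dm (c ≫ c') = Dm c ≫ Dm c' :=
      fun c c' => (pullD S i₁ (y k)).map_comp c c'
    obtain ⟨j₂, c₂, hc₂⟩ : ∃ (j₂ : Over i₁) (c₂ : j₂ ⟶ j₁), ∀ m,
        res G (Dm c₂) (ovApp Ψ (fj j₁) (χθ m)) = res G (Dm c₂) (res G (bj j₁) (ηk m)) := by
      refine exists_level_linear_eq P hS (M := Mk) j₁ (ovApp Ψ (fj j₁) ∘ₗ χθ) (res G (bj j₁) ∘ₗ ηk) fun m => ?_
      show res G (πm j₁) (ovApp Ψ (fj j₁) (χθ m)) = res G (πm j₁) (res G (bj j₁) (ηk m))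
      rw [res_ovApp, hfπ, hχθ, res_res, hbπ]
      exact eΨ.apply_symm_apply _
    let L₂ := pullback (S.D.map j₂.hom) (y k)
    obtain ⟨χ, hχ⟩ := exists_ext (U := L₂) (gK Mk' L₂) (sK Mk' L₂) (res (cP M') (Dm c₂) ∘ₗ χθ)
    simp only [res_constη] at hχ
    have hΨχ : ∀ (Z : X.ProEt) (b : Z ⟶ L₂) (x : (cP Mk').obj.obj (op Z)),
        ovApp Ψ (b ≫ fj j₂) (ovApp χ b x) = ovApp Φk (b ≫ bj j₂) x := fun Z b x => by
      obtain ⟨R, hR, hR'⟩ := gK Mk' L₂ Z b x
      refine sep_ext G hR fun Z' g hg => ?_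
      obtain ⟨m, hm⟩ := hR' Z' g hg
      rw [res_ovApp, res_ovApp, res_ovApp, hm, res_constη, hχ, hΦk]
      rw [LinearMap.comp_apply, ← hfm c₂]
      have h2 := congrArg (res G (g ≫ b)) (hc₂ m)
      rw [res_ovApp, res_ovApp, res_res, res_res, res_res] at h2
      rw [Category.assoc (g ≫ b) (Dm c₂) (bj j₁), hbm] at h2
      rw [← Category.assoc g b, ← Category.assoc g b]
      rw [res_res]
      exact h2
    -- the inverse comparison
    let eΦ := LinearEquiv.ofBijective (ovApp Φk (bj j₂)) (hΦbij _)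
    let μ : M' →ₗ[Λ] (cP (X := X) Mk').obj.obj (op L₂) := eΦ.symm.toLinearMap ∘ₗ (res G (fj j₂) ∘ₗ θ₁)
    have hμ : ∀ m, ovApp Φk (bj j₂) (μ m) = res G (fj j₂) (θ₁ m) := fun m => eΦ.apply_symm_apply _
    obtain ⟨j₃, c₃, hc₃⟩ : ∃ (j₃ : Over i₁) (c₃ : j₃ ⟶ j₂), ∀ m,
        res (cP M') (Dm c₃) (ovApp χ (𝟙 L₂) (μ m)) = res (cP M') (Dm c₃) (constη (Scheme.ProEt.topology X) M' L₂ m) := by
      refine exists_level_linear_eq P hKc (M := M') j₂ (ovApp χ (𝟙 L₂) ∘ₗ μ)
        (constη (Scheme.ProEt.topology X) M' L₂) fun m => ?_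
      show res (cP M') (πm j₂) (ovApp χ (𝟙 L₂) (μ m)) = res (cP M') (πm j₂) (constη (Scheme.ProEt.topology X) M' L₂ m)
      refine hΨbij.1 ?_
      rw [← hfπ j₂, ← res_ovApp, ← res_ovApp]
      refine congrArg (res G (πm j₂)) ?_
      have h1 := hΨχ L₂ (𝟙 _) (μ m)
      rw [Category.id_comp, Category.id_comp, hμ] at h1
      rw [h1, hΨ]
    refine ⟨j₃, fun j' c' => ?_⟩
    let L := pullback (S.D.map j'.hom) (y k)
    let cL : L ⟶ L₂ := Dm (c' ≫ c₃)
    have hfL : cL ≫ fj j₂ = fj j' := hfm _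
    have hbL : cL ≫ bj j₂ = bj j' := hbm _
    refine ⟨fun Z b x => ?_, fun Z b m hm => ?_⟩
    · let R : Sieve Z :=
        { arrows := fun Z' g => ∃ m : M', res G g x = res G (g ≫ b) ((res G (fj j') ∘ₗ θ₁) m)
          downward_closed := by
            rintro Z' Z'' g ⟨m, hm⟩ h
            exact ⟨m, by rw [← res_res, hm, res_res, Category.assoc]⟩ }
      obtain ⟨R₁, hR₁, hR₁'⟩ := hgk Z (b ≫ bj j') x
      refine ⟨R, (Scheme.ProEt.topology X).transitive hR₁ R fun Z' g hg => ?_, fun Z' g hg => hg⟩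
      obtain ⟨m, hm⟩ := hR₁' Z' g hg
      let b' : Z' ⟶ L₂ := (g ≫ b) ≫ cL
      obtain ⟨R₂, hR₂, hR₂'⟩ := gK M' L₂ Z' b' (ovApp χ b' (constη (Scheme.ProEt.topology X) Mk' Z' m))
      refine GrothendieckTopology.superset_covering _ (fun Z'' h hh => ?_) hR₂
      obtain ⟨m', hm'⟩ := hR₂' Z'' h hh
      refine ⟨m', ?_⟩
      have h3 := congrArg (ovApp Ψ (h ≫ b' ≫ fj j₂)) hm'
      rw [res_constη, hΨ, ← res_ovApp, hΨχ, hΦk, res_res] at h3
      simp only [ηk, LinearMap.comp_apply, res_res] at h3 hm ⊢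
      rw [← res_res, hm, res_res]
      have e1 : b' ≫ bj j₂ = g ≫ b ≫ bj j' := by simp only [b', Category.assoc, hbL]
      have e2 : h ≫ b' ≫ fj j₂ = ((h ≫ g) ≫ b) ≫ fj j' := by simp only [b', Category.assoc, hfL]
      rw [e1, e2] at h3
      exact h3
    · have hc₃' := congrArg (res (cP M') (Dm c')) (hc₃ m)
      rw [res_ovApp, res_constη, res_ovApp, res_constη, res_res, ← hDc] at hc₃'
      have h4 := congrArg (res (cP M') b) hc₃'
      rw [res_ovApp, res_constη, res_res] at h4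
      have h5 : res (cP Mk') (b ≫ cL) (μ m) = 0 := by
        refine (hΦbij ((b ≫ cL) ≫ bj j₂)).1 ?_
        rw [← res_ovApp, hμ, res_res, map_zero, Category.assoc, hfL, ← res_res]
        exact hm
      rw [show res (cP Mk') (b ≫ Dm (c' ≫ c₃)) (μ m) = 0 from h5, map_zero] at h4
      refine sK M' Z Z (𝟙 _) m ?_
      rw [res_constη]
      exact h4.symm
  choose j hj using main
  obtain ⟨j₀, hj₀⟩ := exists_common_level S i₁ j
  refine ⟨Φ.D.obj j₀.left, ⟨(und (Φ.π.app j₀.left)).base w, ?_⟩, M, iM, iM', iM'',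
    res G (S.D.map j₀.hom) ∘ₗ θ₁, ?_, ?_⟩
  · show ((und (Φ.π.app j₀.left)) ≫ ((ProEtS.eps X).obj (Φ.D.obj j₀.left)).hom).base w = v
    rw [show und (Φ.π.app j₀.left) ≫ ((ProEtS.eps X).obj (Φ.D.obj j₀.left)).hom = W.hom from und_w _]
    rw [← hw, show W.hom = und a ≫ (ProEtS.topP X).hom from (und_w a).symm]
    rfl
  all_goals
    first
      | refine gen_of_cover (pullback_family_mem (S.D.map j₀.hom) y hym) fun k => ?_
      | refine sep_of_cover (pullback_family_mem (S.D.map j₀.hom) y hym) fun k => ?_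
    have h := hj k j₀ (hj₀ k).some
    have e : res G (pullback.fst (S.D.map j₀.hom) (y k)) ∘ₗ res G (S.D.map j₀.hom) ∘ₗ θ₁ =
        res G (pullback.fst _ _ ≫ S.D.map j₀.hom) ∘ₗ θ₁ := LinearMap.ext fun m => res_res _ _ _ _
    rw [e]
    first
      | exact h.1
      | exact h.2

theorem isIso_counit_of_sysCont [ProEtS.EpsCont X] {G : EtModW.ModP Λ X} (hS : SysCont G) :
    IsIso ((epsAdjMod Λ X).counit.app G) := by
  let F := (epsPushMod Λ X).obj G
  let E := (EtModW.epsPullMod Λ X).obj F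
  let ε := (epsAdjMod Λ X).counit.app G
  let η : ∀ V : X.Etale, F.obj.obj (op V) →ₗ[Λ] E.obj.obj (op ((ProEtS.eps X).obj V)) :=
    fun V => (((epsAdjMod Λ X).unit.app F).hom.app (op V)).hom
  have htri : ∀ (V : X.Etale) (x : F.obj.obj (op V)), (ε.hom.app (op ((ProEtS.eps X).obj V))).hom (η V x) = x :=
    fun V x => congrArg (fun t : F ⟶ F => (t.hom.app (op V)).hom x) ((epsAdjMod Λ X).right_triangle_components G)
  have hεn : ∀ {A B : X.ProEt} (h : B ⟶ A) (x : E.obj.obj (op A)),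
      (ε.hom.app (op B)).hom (res E h x) = res G h ((ε.hom.app (op A)).hom x) := fun h x =>
    congrArg (fun t => t.hom x) (ε.hom.naturality h.op)
  have hbij : ∀ W, IsApprox W → Function.Bijective (ε.hom.app (op W)).hom := fun W ⟨Φ⟩ => by
    let S := Φ.toSys
    refine ⟨LinearMap.ker_eq_bot.1 (LinearMap.ker_eq_bot'.2 fun y hy => ?_), fun t => ?_⟩
    · obtain ⟨i, z, rfl⟩ := ((sysCont_epsPullMod F) W S).2 y
      haveI := isIso_unitMod Λ X F
      haveI : IsIso (((epsAdjMod Λ X).unit.app F).hom.app (op (Φ.D.obj i))) :=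
        inferInstanceAs (IsIso (((sheafToPresheaf _ _).map ((epsAdjMod Λ X).unit.app F)).app (op (Φ.D.obj i))))
      obtain ⟨x, rfl⟩ := (ConcreteCategory.bijective_of_isIso (((epsAdjMod Λ X).unit.app F).hom.app (op (Φ.D.obj i)))).2 z
      obtain ⟨j, a, ha⟩ := (hS W S).1 i x (by
        refine Eq.trans ?_ hy
        exact (congrArg (res G (S.π.app i)) (htri _ x)).symm.trans (hεn (S.π.app i) _).symm)
      show res E (S.π.app i) (η _ x) = 0
      rw [← S.w a, ← res_res,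
        show res E (S.D.map a) (η _ x) = η _ (res G (S.D.map a) x) from
          (congrArg (fun t => t.hom x) (((epsAdjMod Λ X).unit.app F).hom.naturality (Φ.D.map a).op)).symm]
      exact (congrArg (fun t => res E (S.π.app j) (η _ t)) ha).trans (by rw [map_zero, map_zero])
    · obtain ⟨i, x, rfl⟩ := (hS W S).2 t
      exact ⟨res E (S.π.app i) (η _ x), (hεn (S.π.app i) _).trans (congrArg (res G (S.π.app i)) (htri _ x))⟩
  refine (Sheaf.isLocallyBijective_iff_isIso (A := ModuleCat.{u + 1} Λ) _).1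
    ⟨⟨fun {U} x y h => mem_of_approx _ fun W a hW => (hbij W hW).1 ?_⟩, ⟨fun {U} s => mem_of_approx _ fun W a hW => (hbij W hW).2 _⟩⟩
  exact (hεn a x).trans ((congrArg (res G a) h).trans (hεn a y).symm)

theorem isFPLocConst_epsPushMod [ProEtS.EpsCont X] {G : EtModW.ModP Λ X} (hG : EtModW.IsFPLocConstP Λ G) :
    EtModW.IsFPLocConst Λ ((epsPushMod Λ X).obj G) := by
  have hS : SysCont G := sysCont_of_local (locSysCont_of_isFPLocConstP hG)
  choose V hV M i1 i2 i3 θ hg hs using fun v : X => exists_const_level hG v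
  refine ⟨↥X, V, fun x => ⟨x, hV x⟩, fun v => ⟨M v, i1 v, i2 v, i3 v, ?_⟩⟩
  let F := (epsPushMod Λ X).obj G
  refine nonempty_iso F (M := ModuleCat.of Λ (M v)) (η := θ v) (fun Z b x => ?_) (fun Z b m hm => ?_)
  · obtain ⟨xG, hxG⟩ : ∃ xG : G.obj.obj (op ((ProEtS.eps X).obj Z)), xG = x := ⟨x, rfl⟩
    let R : Sieve Z :=
      { arrows := fun Z' g => ∃ m : ModuleCat.of Λ (M v),
          res G ((ProEtS.eps X).map g) xG = res G ((ProEtS.eps X).map (g ≫ b)) (θ v m)
        downward_closed := by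
          rintro Z' Z'' g ⟨m, hm⟩ h
          exact ⟨m, by rw [Functor.map_comp, ← res_res, hm, res_res, ← Functor.map_comp, Category.assoc]⟩ }
    refine ⟨R, ?_, fun Z' g hg => by subst hxG; exact hg⟩
    rw [et_mem_iff]
    intro z
    obtain ⟨R₁, hR₁, hR₁'⟩ := hg v ((ProEtS.eps X).obj Z) ((ProEtS.eps X).map b) xG
    obtain ⟨W, a, w, ha, ⟨Φ⟩, hw⟩ := exists_approx_hit R₁ hR₁ z
    obtain ⟨m, hm⟩ := hR₁' W a ha
    obtain ⟨i, g, hgW⟩ := Φ.exists_factor Z a
    let S := Φ.toSys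
    obtain ⟨j, c, hc⟩ := (hS W S).1 i (res G ((ProEtS.eps X).map g) xG - res G ((ProEtS.eps X).map g ≫ (ProEtS.eps X).map b) (θ v m)) (by
      show res G (Φ.π.app i) _ = 0
      rw [map_sub, sub_eq_zero]
      refine (res_res G _ _ _).trans (((congrArg (fun q => res G q xG) hgW).trans hm).trans ?_)
      rw [← hgW, Category.assoc]
      exact (res_res G _ _ _).symm)
    refine ⟨Φ.D.obj j, Φ.D.map c ≫ g, (und (Φ.π.app j)).base w, ⟨m, ?_⟩, ?_, ?_⟩
    · rw [map_sub, sub_eq_zero] at hc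
      show res G ((ProEtS.eps X).map (Φ.D.map c ≫ g)) xG = res G ((ProEtS.eps X).map ((Φ.D.map c ≫ g) ≫ b)) (θ v m)
      rw [Functor.map_comp, Functor.map_comp, Functor.map_comp, Category.assoc]
      exact (res_res G _ _ _).symm.trans (hc.trans (res_res G _ _ _))
    · haveI : Etale ((Φ.D.map c ≫ g).left ≫ Z.hom) := by
        rw [MorphismProperty.Over.w (Φ.D.map c ≫ g)]
        exact (Φ.D.obj j).prop
      haveI : Etale Z.hom := Z.prop
      exact Etale.of_comp (Φ.D.map c ≫ g).left Z.hom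
    · rw [← hw, ← hgW, ← show Φ.π.app j ≫ (ProEtS.eps X).map (Φ.D.map c) = Φ.π.app i from S.w c, Category.assoc,
        ← Functor.map_comp]
      rfl
  · rcases hs v ((ProEtS.eps X).obj Z) ((ProEtS.eps X).map b) m hm with h | h
    · refine Or.inl ?_
      rw [et_mem_iff]
      intro z
      exact absurd h (not_bot_mem (U := (ProEtS.eps X).obj Z) z)
    · exact Or.inr h

theorem isFPLocConstP_epsPullMod [ProEtS.EpsCont X] {F : EtModW.Mod Λ X} (hF : EtModW.IsFPLocConst Λ F) :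
    EtModW.IsFPLocConstP Λ ((EtModW.epsPullMod Λ X).obj F) := by
  obtain ⟨ι, U, hU, hM⟩ := hF
  let E := (EtModW.epsPullMod Λ X).obj F
  let η : ∀ V : X.Etale, F.obj.obj (op V) →ₗ[Λ] E.obj.obj (op ((ProEtS.eps X).obj V)) :=
    fun V => (((epsAdjMod Λ X).unit.app F).hom.app (op V)).hom
  have hηn : ∀ {V V' : X.Etale} (g : V' ⟶ V) (s : F.obj.obj (op V)),
      res E ((ProEtS.eps X).map g) (η V s) = η V' (res F g s) := fun g s =>
    (congrArg (fun t => t.hom s) (((epsAdjMod Λ X).unit.app F).hom.naturality g.op)).symm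
  have hηb : ∀ V : X.Etale, Function.Bijective (η V) := fun V => by
    haveI := isIso_unitMod Λ X F
    haveI : IsIso (((epsAdjMod Λ X).unit.app F).hom.app (op V)) :=
      inferInstanceAs (IsIso (((sheafToPresheaf _ _).map ((epsAdjMod Λ X).unit.app F)).app (op V)))
    exact ConcreteCategory.bijective_of_isIso (((epsAdjMod Λ X).unit.app F).hom.app (op V))
  have hcp : ∀ {V : X.Etale} {R : Sieve V}, R ∈ X.smallEtaleTopology V →
      R.functorPushforward (ProEtS.eps X) ∈ Scheme.ProEt.topology X ((ProEtS.eps X).obj V) := fun h => by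
    haveI : RepresentablyFlat (ProEtS.eps X) := by
      haveI := eps_preservesFiniteLimits (X := X)
      exact flat_of_preservesFiniteLimits _
    exact (CoverPreserving.of_isContinuous (ProEtS.eps X) X.smallEtaleTopology (Scheme.ProEt.topology X)).cover_preserve h
  refine ⟨ι, fun k => (ProEtS.eps X).obj (U k), ?_, fun k => ?_⟩
  · let R : Sieve (topE X) := Sieve.ofArrows U fun k =>
      (MorphismProperty.Over.mkIdTerminal (P := EtCoh.etaleMP.{u}) X).from (U k)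
    have hR : R ∈ X.smallEtaleTopology (topE X) := by
      rw [et_mem_iff]
      intro z
      obtain ⟨k, y, hy⟩ := hU z
      let h : U k ⟶ topE X := (MorphismProperty.Over.mkIdTerminal (P := EtCoh.etaleMP.{u}) X).from (U k)
      have e : h.left = (U k).hom := (Category.comp_id _).symm.trans (MorphismProperty.Over.w h)
      refine ⟨U k, h, y, Sieve.ofArrows_mk _ _ k, ?_, ?_⟩
      · rw [e]
        exact (U k).prop
      · rw [e]
        exact hy
    refine GrothendieckTopology.superset_covering _ ?_ (hcp hR)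
    rintro P q ⟨Z, g, h, ⟨_, c, _, ⟨k⟩, rfl⟩, rfl⟩
    rw [Functor.map_comp, ← Category.assoc]
    refine ⟨_, h ≫ (ProEtS.eps X).map c, _, ⟨k⟩, congrArg (_ ≫ ·) ?_⟩
    exact (MorphismProperty.Over.mkIdTerminal (P := @WeaklyEtale) X).hom_ext _ _
  obtain ⟨M, iM, iM', iM'', ⟨e⟩⟩ := hM k
  refine ⟨M, iM, iM', iM'', ?_⟩
  obtain ⟨ηk, hg, hs⟩ := exists_of_iso F e
  refine nonempty_iso E (M := ModuleCat.of Λ M) (η := η (U k) ∘ₗ ηk) (fun Z b x => ?_) (fun Z b m hm => ?_)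
  · let R : Sieve Z :=
      { arrows := fun Z' g => ∃ m : ModuleCat.of Λ M, res E g x = res E (g ≫ b) (η (U k) (ηk m))
        downward_closed := by
          rintro Z' Z'' g ⟨m, hm⟩ h
          exact ⟨m, by rw [← res_res, hm, res_res, Category.assoc]⟩ }
    refine ⟨R, (Scheme.ProEt.topology X).transitive
      (mem_of_approx (Sieve.generate (fun W (c : W ⟶ Z) => IsApprox W)) fun W c hW => ⟨W, 𝟙 _, c, hW, Category.id_comp _⟩) R ?_,
      fun Z' g hg => hg⟩
    rintro W₂ _ ⟨W₃, d, f, ⟨Φ⟩, rfl⟩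
    rw [Sieve.pullback_comp]
    refine (Scheme.ProEt.topology X).pullback_stable d ?_
    let S := Φ.toSys
    obtain ⟨i, t, ht⟩ := ((sysCont_epsPullMod F) W₃ S).2 (res E f x)
    obtain ⟨s, rfl⟩ := (hηb (Φ.D.obj i)).2 t
    obtain ⟨i', g', hg'⟩ := Φ.exists_factor (U k) (f ≫ b)
    obtain ⟨i₀, c₁, c₂, -⟩ := IsCofilteredOrEmpty.cone_objs i i'
    obtain ⟨R₁, hR₁, hR₁'⟩ := hg (Φ.D.obj i₀) (Φ.D.map c₂ ≫ g') (res F (Φ.D.map c₁) s)
    refine GrothendieckTopology.superset_covering _ ?_ ((Scheme.ProEt.topology X).pullback_stable (Φ.π.app i₀) (hcp hR₁))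
    rintro P p ⟨V, h, c', hh, hc'⟩
    obtain ⟨m, hm⟩ := hR₁' V h hh
    refine ⟨m, ?_⟩
    have h6 := congrArg (res E c' ∘ η V) hm
    simp only [Function.comp] at h6
    rw [← hηn, ← hηn, ← hηn, res_res, res_res, res_res] at h6
    simp only [Functor.map_comp, ← Category.assoc] at h6
    rw [← hc'] at h6
    simp only [Category.assoc] at h6
    rw [show Φ.π.app i₀ ≫ (ProEtS.eps X).map (Φ.D.map c₁) = Φ.π.app i from S.w c₁,
      ← Category.assoc (Φ.π.app i₀), show Φ.π.app i₀ ≫ (ProEtS.eps X).map (Φ.D.map c₂) = Φ.π.app i' from S.w c₂, hg'] at h6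
    rw [Category.assoc]
    exact (res_res E f p x).symm.trans ((congrArg (res E p) ht.symm).trans ((res_res E _ p _).trans h6))
  · by_cases hm0 : m = 0
    · exact Or.inr hm0
    refine Or.inl ((Scheme.ProEt.topology X).transitive
      (mem_of_approx (Sieve.generate (fun W (c : W ⟶ Z) => IsApprox W)) fun W c hW => ⟨W, 𝟙 _, c, hW, Category.id_comp _⟩) _ ?_)
    rintro W₁ _ ⟨W, d, c, ⟨Φ⟩, rfl⟩
    rw [Sieve.pullback_comp]
    refine (Scheme.ProEt.topology X).pullback_stable d ?_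
    let S := Φ.toSys
    obtain ⟨i, g', hg'⟩ := Φ.exists_factor (U k) (c ≫ b)
    obtain ⟨j, a, ha⟩ := ((sysCont_epsPullMod F) W S).1 i (η _ (res F g' (ηk m))) (by
      show res E (Φ.π.app i) _ = 0
      rw [← hηn]
      exact (res_res E _ _ _).trans ((congrArg (fun q => res E q (η (U k) (ηk m))) hg').trans
        ((res_res E b c _).symm.trans ((congrArg (res E c) hm).trans (map_zero _)))))
    have h0 : res F (Φ.D.map a ≫ g') (ηk m) = 0 := by
      refine (hηb _).1 ?_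
      rw [← res_res, ← hηn]
      exact ha.trans (map_zero _).symm
    rcases hs (Φ.D.obj j) (Φ.D.map a ≫ g') m h0 with h | h
    · refine GrothendieckTopology.superset_covering _ ?_ ((Scheme.ProEt.topology X).pullback_stable (Φ.π.app j) (hcp h))
      rintro P p ⟨V, h', c', hh, -⟩
      exact hh.elim
    · exact absurd h hm0

theorem fpLocConst_equiv [ProEtS.EpsCont X] :
    (∀ F : EtModW.Mod Λ X, EtModW.IsFPLocConst Λ F → EtModW.IsFPLocConstP Λ ((EtModW.epsPullMod Λ X).obj F)) ∧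
    ∀ G : EtModW.ModP Λ X, EtModW.IsFPLocConstP Λ G →
      ∃ F : EtModW.Mod Λ X, EtModW.IsFPLocConst Λ F ∧ Nonempty ((EtModW.epsPullMod Λ X).obj F ≅ G) :=
  ⟨fun _ hF => isFPLocConstP_epsPullMod hF, fun G hG =>
    haveI := isIso_counit_of_sysCont (sysCont_of_local (locSysCont_of_isFPLocConstP hG))
    ⟨_, isFPLocConst_epsPushMod hG, ⟨asIso ((epsAdjMod Λ X).counit.app G)⟩⟩⟩

end Groth.Agent.EpsLib
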