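import Groth.Agent.EpsLib.EpsImage
import Groth.Prelude.Def_EtModW
import Mathlib.Algebra.Category.ModuleCat.ChangeOfRings
import Mathlib.Algebra.Category.Grp.ZModuleEquivalence
import Mathlib.Algebra.Category.ModuleCat.Colimits
import Mathlib.CategoryTheory.Adjunction.Whiskering
import Mathlib.CategoryTheory.Sites.Limits
import Mathlib.CategoryTheory.Adjunction.Restrict

/-! `ε⁻¹` of sheaves of modules and of the underlying abelian sheaves. -/

set_option autoImplicit false
set_option linter.style.haveILetI false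
set_option backward.isDefEq.respectTransparency false
set_option synthInstance.maxHeartbeats 400000
set_option maxHeartbeats 800000
universe u

open CategoryTheory CategoryTheory.Limits AlgebraicGeometry Opposite

namespace Groth.Agent.EpsLib

variable (Λ : Type (u + 1)) [CommRing Λ]

/-- The forgetful functor to abelian groups. -/
noncomputable abbrev UF : ModuleCat.{u + 1} Λ ⥤ AddCommGrpCat.{u + 1} := forget₂ (ModuleCat.{u + 1} Λ) AddCommGrpCat.{u + 1}

instance : (UF Λ).IsLeftAdjoint := by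
  haveI : (ModuleCat.restrictScalars.{u + 1} (algebraMap ℤ Λ)).IsLeftAdjoint :=
    (ModuleCat.restrictCoextendScalarsAdj.{u + 1} (algebraMap ℤ Λ)).isLeftAdjoint
  exact Functor.isLeftAdjoint_of_iso (NatIso.ofComponents (fun M => Iso.refl _) :
    ModuleCat.restrictScalars.{u + 1} (algebraMap ℤ Λ) ⋙ forget₂ (ModuleCat.{u + 1} ℤ) AddCommGrpCat.{u + 1} ≅ UF Λ)

/-- The coinduction functor. -/
noncomputable abbrev CoF : AddCommGrpCat.{u + 1} ⥤ ModuleCat.{u + 1} Λ := (UF Λ).rightAdjoint

variable {C : Type (u + 1)} [Category.{u} C] (J : GrothendieckTopology C)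

instance : J.HasSheafCompose (UF Λ) where
  isSheaf P hP := by
    rw [Presheaf.isSheaf_iff_isSheaf_forget J _ (forget AddCommGrpCat.{u + 1})]
    exact (Presheaf.isSheaf_iff_isSheaf_forget J P (forget (ModuleCat.{u + 1} Λ))).1 hP

instance : J.HasSheafCompose (CoF Λ) := by
  haveI := (Adjunction.ofIsLeftAdjoint (UF Λ)).rightAdjoint_preservesLimits
  exact ⟨fun P hP => Presheaf.isSheaf_comp_of_isSheaf J P (CoF Λ) hP⟩

/-- Sheafwise adjunction. -/
noncomputable def adjC : sheafCompose J (UF Λ) ⊣ sheafCompose J (CoF Λ) :=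
  ((Adjunction.ofIsLeftAdjoint (UF Λ)).whiskerRight Cᵒᵖ).restrictFullyFaithful
    (fullyFaithfulSheafToPresheaf _ _) (fullyFaithfulSheafToPresheaf _ _) (Iso.refl _) (Iso.refl _)

theorem adjC_counit_app (A : Sheaf J AddCommGrpCat.{u + 1}) :
    ((adjC Λ J).counit.app A).hom = ((Adjunction.ofIsLeftAdjoint (UF Λ)).whiskerRight Cᵒᵖ).counit.app A.obj := by
  show (sheafToPresheaf J AddCommGrpCat.{u + 1}).map ((adjC Λ J).counit.app A) = _
  rw [adjC, Adjunction.map_restrictFullyFaithful_counit_app]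
  ext V x
  rfl

theorem adjC_symm_app {M : Sheaf J (ModuleCat.{u + 1} Λ)} {A : Sheaf J AddCommGrpCat.{u + 1}}
    (g : M ⟶ (sheafCompose J (CoF Λ)).obj A) (V : Cᵒᵖ) :
    (((adjC Λ J).homEquiv M A).symm g).hom.app V =
      (UF Λ).map (g.hom.app V) ≫ (Adjunction.ofIsLeftAdjoint (UF Λ)).counit.app (A.obj.obj V) := by
  rw [Adjunction.homEquiv_counit]
  show (UF Λ).map (g.hom.app V) ≫ ((adjC Λ J).counit.app A).hom.app V = _
  rw [adjC_counit_app]
  simp

variable (X : Scheme.{u}) [ProEtS.EpsCont X]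

/-- `ε_*` on modules. -/
noncomputable abbrev epsPushMod : EtModW.ModP Λ X ⥤ EtModW.Mod Λ X :=
  (ProEtS.eps X).sheafPushforwardContinuous (ModuleCat.{u + 1} Λ) X.smallEtaleTopology (Scheme.ProEt.topology X)

/-- The adjunction on modules. -/
noncomputable abbrev epsAdjMod : EtModW.epsPullMod Λ X ⊣ epsPushMod Λ X :=
  (ProEtS.eps X).sheafAdjunctionContinuous (ModuleCat.{u + 1} Λ) X.smallEtaleTopology (Scheme.ProEt.topology X)

/-- The underlying map of the module unit. -/
noncomputable def unitU (M : EtModW.Mod Λ X) :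
    (sheafCompose X.smallEtaleTopology (UF Λ)).obj M ⟶
      (ProEtS.epsPush X).obj ((sheafCompose (Scheme.ProEt.topology X) (UF Λ)).obj ((EtModW.epsPullMod Λ X).obj M)) :=
  (sheafCompose X.smallEtaleTopology (UF Λ)).map ((epsAdjMod Λ X).unit.app M)

/-- The comparison morphism. -/
noncomputable def cmp (M : EtModW.Mod Λ X) :
    (ProEtS.epsPull X).obj ((sheafCompose X.smallEtaleTopology (UF Λ)).obj M) ⟶
      (sheafCompose (Scheme.ProEt.topology X) (UF Λ)).obj ((EtModW.epsPullMod Λ X).obj M) :=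
  ((ProEtS.epsAdj X).homEquiv _ _).symm (unitU Λ X M)

theorem homEquiv_cmp (M : EtModW.Mod Λ X) (A : ProEtS.AbP X)
    (f : (sheafCompose (Scheme.ProEt.topology X) (UF Λ)).obj ((EtModW.epsPullMod Λ X).obj M) ⟶ A) :
    (ProEtS.epsAdj X).homEquiv _ _ (cmp Λ X M ≫ f) = unitU Λ X M ≫ (ProEtS.epsPush X).map f := by
  rw [Adjunction.homEquiv_naturality_right, cmp, Equiv.apply_symm_apply]

/-- Pushforward commutes with coinduction. -/
noncomputable def castEq (M : EtModW.Mod Λ X) (A : ProEtS.AbP X) :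
    (M ⟶ (epsPushMod Λ X).obj ((sheafCompose (Scheme.ProEt.topology X) (CoF Λ)).obj A)) ≃
      (M ⟶ (sheafCompose X.smallEtaleTopology (CoF Λ)).obj ((ProEtS.epsPush X).obj A)) where
  toFun g := ObjectProperty.homMk { app := fun V => g.hom.app V, naturality := fun _ _ a => g.hom.naturality a }
  invFun g := ObjectProperty.homMk { app := fun V => g.hom.app V, naturality := fun _ _ a => g.hom.naturality a }
  left_inv g := rfl
  right_inv g := rfl

theorem unitU_bijective (M : EtModW.Mod Λ X) (A : ProEtS.AbP X) : Function.Bijective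
    (fun f : (sheafCompose (Scheme.ProEt.topology X) (UF Λ)).obj ((EtModW.epsPullMod Λ X).obj M) ⟶ A =>
      unitU Λ X M ≫ (ProEtS.epsPush X).map f) := by
  let E1 := (adjC Λ (Scheme.ProEt.topology X)).homEquiv ((EtModW.epsPullMod Λ X).obj M) A
  let E2 := (epsAdjMod Λ X).homEquiv M ((sheafCompose (Scheme.ProEt.topology X) (CoF Λ)).obj A)
  let E3 := castEq Λ X M A
  let E4 := ((adjC Λ X.smallEtaleTopology).homEquiv M ((ProEtS.epsPush X).obj A)).symm
  have h : ∀ f, unitU Λ X M ≫ (ProEtS.epsPush X).map f = E4 (E3 (E2 (E1 f))) := fun f => by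
    obtain ⟨g, rfl⟩ := E1.symm.surjective f
    rw [Equiv.apply_symm_apply]
    apply Sheaf.hom_ext
    ext V : 2
    refine Eq.trans ?_ (adjC_symm_app Λ X.smallEtaleTopology (E3 (E2 g)) V).symm
    show (UF Λ).map (((epsAdjMod Λ X).unit.app M).hom.app V) ≫
      (((adjC Λ (Scheme.ProEt.topology X)).homEquiv ((EtModW.epsPullMod Λ X).obj M) A).symm g).hom.app ((ProEtS.eps X).op.obj V) = _
    rw [adjC_symm_app, ← Category.assoc, ← Functor.map_comp]
    refine congrArg (fun m => (UF Λ).map m ≫ (Adjunction.ofIsLeftAdjoint (UF Λ)).counit.app (A.obj.obj ((ProEtS.eps X).op.obj V))) ?_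
    show _ = ((epsAdjMod Λ X).homEquiv M ((sheafCompose (Scheme.ProEt.topology X) (CoF Λ)).obj A) g).hom.app V
    rw [Adjunction.homEquiv_unit]
    rfl
  rw [show (fun f => unitU Λ X M ≫ (ProEtS.epsPush X).map f) = fun f => E4 (E3 (E2 (E1 f))) from funext h]
  exact (((E1.trans E2).trans E3).trans E4).bijective

theorem isIso_cmp (M : EtModW.Mod Λ X) : IsIso (cmp Λ X M) := by
  refine isIso_of_coyoneda_map_bijective _ fun A => ?_
  have h : (fun f : (sheafCompose (Scheme.ProEt.topology X) (UF Λ)).obj ((EtModW.epsPullMod Λ X).obj M) ⟶ A =>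
      cmp Λ X M ≫ f) = fun f => ((ProEtS.epsAdj X).homEquiv _ _).symm (unitU Λ X M ≫ (ProEtS.epsPush X).map f) :=
    funext fun f => by rw [← homEquiv_cmp, Equiv.symm_apply_apply]
  rw [h]
  exact ((ProEtS.epsAdj X).homEquiv _ _).symm.bijective.comp (unitU_bijective Λ X M A)

end Groth.Agent.EpsLib
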