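import Groth.Agent.EpsLib.CoprodSect
import Mathlib.CategoryTheory.Sites.Over
import Mathlib.CategoryTheory.Preadditive.Injective.Basic

/-! Restriction along `Over.map` preserves injective abelian sheaves. -/

set_option autoImplicit false
set_option linter.style.haveILetI false
set_option backward.isDefEq.respectTransparency false
set_option synthInstance.maxHeartbeats 400000
universe u

open CategoryTheory CategoryTheory.Limits Opposite

namespace Groth.Agent.EpsLib

variable {C : Type (u + 1)} [Category.{u} C] {T S : C} (f : T ⟶ S)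

/-- The lifts of an object over `S` to `T`. -/
abbrev Lift (Z : Over S) : Type u := { a : Z.left ⟶ T // a ≫ f = Z.hom }

variable {f} in
/-- Pulling back a lift. -/
abbrev Lift.pull {Z Z' : Over S} (k : Z' ⟶ Z) (a : Lift f Z) : Lift f Z' :=
  ⟨k.left ≫ a.1, by rw [Category.assoc, a.2, Over.w k]⟩

variable (P : (Over T)ᵒᵖ ⥤ AddCommGrpCat.{u + 1})

/-- The summands. -/
noncomputable abbrev ovSummand (Z : Over S) (a : Lift f Z) : AddCommGrpCat.{u + 1} := P.obj (op (Over.mk a.1))

theorem ovι_congr {Z : Over S} {A : Over T} (a' a'' : Lift f Z) (h : a' = a'') (m' : Over.mk a'.1 ⟶ A)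
    (m'' : Over.mk a''.1 ⟶ A) (hm : m'.left = m''.left) :
    P.map m'.op ≫ Sigma.ι (ovSummand f P Z) a' = P.map m''.op ≫ Sigma.ι (ovSummand f P Z) a'' := by
  subst h
  rw [Over.OverMorphism.ext hm]

/-- Extension by zero of presheaves along `Over.map f`. -/
noncomputable def ovFree : (Over S)ᵒᵖ ⥤ AddCommGrpCat.{u + 1} where
  obj Z := ∐ ovSummand f P Z.unop
  map {Z Z'} k := Sigma.desc fun a =>
    P.map (Over.homMk k.unop.left : Over.mk (Lift.pull k.unop a).1 ⟶ Over.mk a.1).op ≫ Sigma.ι (ovSummand f P Z'.unop) _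
  map_id Z := Sigma.hom_ext _ _ fun a => by
    rw [Sigma.ι_desc, Category.comp_id]
    refine (ovι_congr f P (Lift.pull (𝟙 Z).unop a) a (Subtype.ext (Category.id_comp a.1)) _ (𝟙 _) rfl).trans ?_
    rw [op_id, P.map_id, Category.id_comp]
  map_comp {Z Z' Z''} k k' := Sigma.hom_ext _ _ fun a => by
    rw [Sigma.ι_desc, Sigma.ι_desc_assoc, Category.assoc, Sigma.ι_desc, ← Category.assoc (P.map _) (P.map _),
      ← P.map_comp, ← op_comp]
    exact ovι_congr f P _ _ (Subtype.ext (Category.assoc _ _ _)) _ _ rfl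

variable {P} in
/-- Functoriality. -/
noncomputable def ovFreeMap {Q : (Over T)ᵒᵖ ⥤ AddCommGrpCat.{u + 1}} (i : P ⟶ Q) : ovFree f P ⟶ ovFree f Q where
  app Z := Limits.Sigma.map fun a => i.app (op (Over.mk a.1))
  naturality Z Z' k := Sigma.hom_ext _ _ fun a => by
    simp only [ovFree, Sigma.ι_desc_assoc, Category.assoc, Sigma.ι_map, Sigma.ι_map_assoc, Sigma.ι_desc]
    rw [i.naturality_assoc]

theorem mono_ovFreeMap {Q : (Over T)ᵒᵖ ⥤ AddCommGrpCat.{u + 1}} (i : P ⟶ Q) [∀ A, Mono (i.app A)] :
    Mono (ovFreeMap f i) := by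
  haveI : ∀ Z, Mono ((ovFreeMap f i).app Z) := fun Z => by
    refine (AddCommGrpCat.mono_iff_injective _).2 ((injective_iff_map_eq_zero _).2 fun x hx => ?_)
    obtain ⟨J, y, rfl⟩ := exists_finset_sum_of_isColimit _ (coproductIsCoproduct (ovSummand f P Z.unop)) x
    have h0 : ∀ a ∈ J, y a = 0 := fun a ha => by
      refine (AddCommGrpCat.mono_iff_injective (i.app (op (Over.mk a.1)))).1 inferInstance ?_
      have h1 := congrArg (coprodProj (ovSummand f Q Z.unop) a) hx
      rw [map_zero, map_sum, map_sum, Finset.sum_eq_single a] at h1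
      · rw [map_zero]
        refine Eq.trans ?_ h1
        refine (ConcreteCategory.congr_hom (?_ : i.app (op (Over.mk a.1)) =
          Sigma.ι (ovSummand f P Z.unop) a ≫ (Limits.Sigma.map fun a => i.app (op (Over.mk a.1))) ≫
            coprodProj (ovSummand f Q Z.unop) a) (y a))
        rw [Sigma.ι_map_assoc, ι_coprodProj_self]
        exact (Category.comp_id _).symm
      · intro b _ hb
        refine (ConcreteCategory.congr_hom (?_ : Sigma.ι (ovSummand f P Z.unop) b ≫
          (Limits.Sigma.map fun a => i.app (op (Over.mk a.1))) ≫ coprodProj (ovSummand f Q Z.unop) a = 0) (y b)).trans rfl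
        rw [Sigma.ι_map_assoc, ι_coprodProj_ne _ hb, comp_zero]
      · exact fun h => absurd ha h
    exact Finset.sum_eq_zero fun a ha => by rw [h0 a ha, map_zero]
  exact NatTrans.mono_of_mono_app _

variable {J : GrothendieckTopology C} [HasWeakSheafify (J.over S) AddCommGrpCat.{u + 1}]
  [HasSheafify (J.over S) AddCommGrpCat.{u + 1}] [HasSheafify (J.over T) AddCommGrpCat.{u + 1}]

theorem injective_overMap (I : Sheaf (J.over S) AddCommGrpCat.{u + 1}) [Injective I] :
    Injective (((Over.map f).sheafPushforwardContinuous AddCommGrpCat.{u + 1} (J.over T) (J.over S)).obj I) := by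
  haveI : Injective I.obj := Injective.injective_of_adjoint (sheafificationAdjunction (J.over S) AddCommGrpCat.{u + 1}) I
  refine ⟨fun {A B} g i _ => ?_⟩
  haveI : Mono i.hom := inferInstanceAs (Mono ((sheafToPresheaf _ AddCommGrpCat.{u + 1}).map i))
  haveI : ∀ Z, Mono (i.hom.app Z) := fun Z => inferInstance
  haveI := mono_ovFreeMap f A.obj i.hom
  let φ : ovFree f A.obj ⟶ I.obj :=
    { app := fun Z => Sigma.desc fun a => g.hom.app (op (Over.mk a.1)) ≫
        I.obj.map (Over.homMk (𝟙 Z.unop.left) ((Category.id_comp _).trans a.2) : Z.unop ⟶ (Over.map f).obj (Over.mk a.1)).op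
      naturality := fun Z Z' k => Sigma.hom_ext _ _ fun a => by
        simp only [ovFree, Sigma.ι_desc_assoc, Sigma.ι_desc, Category.assoc]
        rw [g.hom.naturality_assoc]
        refine congrArg (g.hom.app (op (Over.mk a.1)) ≫ ·) ?_
        show I.obj.map _ ≫ I.obj.map _ = I.obj.map _ ≫ I.obj.map k
        rw [← I.obj.map_comp, ← I.obj.map_comp]
        refine congrArg I.obj.map (Quiver.Hom.unop_inj (Over.OverMorphism.ext ?_))
        show 𝟙 Z'.unop.left ≫ k.unop.left = k.unop.left ≫ 𝟙 Z.unop.left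
        rw [Category.id_comp, Category.comp_id] }
  let l := Injective.factorThru φ (ovFreeMap f i.hom)
  let self : ∀ V : Over T, Lift f ((Over.map f).obj V) := fun V => ⟨V.hom, rfl⟩
  refine ⟨ObjectProperty.homMk
    { app := fun V => Sigma.ι (ovSummand f B.obj ((Over.map f).obj V.unop)) (self V.unop) ≫ l.app (op ((Over.map f).obj V.unop))
      naturality := fun V V' k => ?_ }, ?_⟩
  · show B.obj.map k ≫ _ = (_ ≫ _) ≫ I.obj.map ((Over.map f).map k.unop).op
    rw [Category.assoc, ← l.naturality, ← Category.assoc (Sigma.ι _ _)]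
    show _ = (_ ≫ Sigma.desc _) ≫ _
    rw [Sigma.ι_desc, ← Category.assoc (B.obj.map k)]
    refine congrArg (· ≫ l.app _) ?_
    exact ovι_congr f B.obj (self V'.unop) (Lift.pull ((Over.map f).map k.unop) (self V.unop))
      (Subtype.ext (Over.w k.unop).symm) k.unop _ rfl
  · apply Sheaf.hom_ext
    ext V : 2
    show i.hom.app V ≫ Sigma.ι (ovSummand f B.obj ((Over.map f).obj V.unop)) (self V.unop) ≫ l.app (op ((Over.map f).obj V.unop)) = g.hom.app V
    rw [← Category.assoc, show i.hom.app V ≫ Sigma.ι (ovSummand f B.obj ((Over.map f).obj V.unop)) (self V.unop) =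
      Sigma.ι (ovSummand f A.obj ((Over.map f).obj V.unop)) (self V.unop) ≫ (ovFreeMap f i.hom).app (op ((Over.map f).obj V.unop)) from
      (Sigma.ι_map (fun a => i.hom.app (op (Over.mk a.1))) (self V.unop)).symm, Category.assoc, ← NatTrans.comp_app,
      Injective.comp_factorThru]
    show Sigma.ι _ _ ≫ Sigma.desc _ = _
    rw [Sigma.ι_desc]
    refine (congrArg (g.hom.app V ≫ ·) (I.obj.map_id _)).trans (Category.comp_id _)

end Groth.Agent.EpsLib
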