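import Groth.Agent.EpsLib.GApprox
import Groth.Prelude.Def_EtBase

/-! Base change of approximations and coverings by approximated objects. -/

set_option autoImplicit false
set_option linter.style.haveILetI false
set_option backward.isDefEq.respectTransparency false
set_option synthInstance.maxHeartbeats 400000
set_option maxHeartbeats 1000000
universe u

open CategoryTheory CategoryTheory.Limits AlgebraicGeometry Opposite

namespace Groth.Agent.EpsLib

open ProEtPtsLib WCSiteLib

variable {X Y : Scheme.{u}}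

/-- A sieve containing every morphism from an approximated object is covering. -/
theorem mem_of_approx {U : Y.ProEt} (R : Sieve U) (h : ∀ (W : Y.ProEt) (a : W ⟶ U), IsApprox W → R a) :
    R ∈ Scheme.ProEt.topology Y U := by
  have H : ∀ z : ↥U.left, ∃ (O : Y.Opens) (A : U.left.Opens), IsAffineOpen O ∧ IsAffineOpen A ∧
      A ≤ U.hom ⁻¹ᵁ O ∧ z ∈ A := fun z => by
    obtain ⟨O, hO, hz, -⟩ := exists_isAffineOpen_mem_and_subset (x := U.hom.base z) (U := ⊤) trivial
    obtain ⟨A, hA, hzA, hAO⟩ := exists_isAffineOpen_mem_and_subset (x := z) (U := U.hom ⁻¹ᵁ O) hz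
    exact ⟨O, A, hO, hA, hAO, hzA⟩
  choose O A hO hA hAO hzA using H
  have key : ∀ z, ∃ (W' : Y.ProEt) (π : W' ⟶ openObj U (A z)),
      Sieve.ofArrows (fun _ : PUnit.{u + 1} => W') (fun _ => π) ∈ Scheme.ProEt.topology Y (openObj U (A z)) ∧
      IsApprox W' := fun z => by
    haveI : IsAffine (openObj U (A z)).left := hA z
    haveI : Etale (O z).ι := inferInstance
    let E : Y.Etale := MorphismProperty.Over.mk ⊤ (O z).ι ‹_›
    haveI : IsAffine E.left := hO z
    let p : openObj U (A z) ⟶ (ProEtS.eps Y).obj E :=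
      MorphismProperty.Over.homMk (U.hom.resLE (O z) (A z) (hAO z)) (Scheme.Hom.resLE_comp_ι _ _)
    obtain ⟨W', π, hπ, -, hW'⟩ := exists_approx_cover_of_map E p
    exact ⟨W', π, hπ, hW'⟩
  refine (Scheme.ProEt.topology Y).transitive
    (openι_open_mem (fun z => A z) (top_le_iff.1 fun z _ => TopologicalSpace.Opens.mem_iSup.2 ⟨z, hzA z⟩)) R ?_
  rintro P q ⟨Q, a, _, ⟨z⟩, rfl⟩
  rw [Sieve.pullback_comp]
  refine (Scheme.ProEt.topology _).pullback_stable a ?_
  obtain ⟨W', π, hπ, hW'⟩ := key z
  refine GrothendieckTopology.superset_covering _ ?_ hπ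
  rw [Sieve.generate_le_iff]
  rintro _ _ ⟨⟨⟩⟩
  exact h W' _ hW'

variable (f : X ⟶ Y)

/-- Base change commutes with the inclusion of the étale site. -/
noncomputable def bcEpsIso : EtCoh.bc f ⋙ ProEtS.eps X ≅ ProEtS.eps Y ⋙ ProEtS.bcP f :=
  NatIso.ofComponents (fun V => Iso.refl _) fun {V V'} a => (Category.comp_id _).trans ((hom_ext_und rfl).trans (Category.id_comp _).symm)

variable {W : Y.ProEt} (Φ : Approx W)

/-- The system of base changes. -/
noncomputable abbrev bcD : Φ.I ⥤ X.Etale := Φ.D ⋙ EtCoh.bc f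

theorem bc_map_isPullback {V V' : Y.Etale} (a : V ⟶ V') :
    IsPullback (und ((ProEtS.eps X).map ((EtCoh.bc f).map a))) (pullback.fst V.hom f) (pullback.fst V'.hom f) a.left := by
  refine IsPullback.of_right (h₁₂ := pullback.snd V'.hom f) (h₂₂ := V'.hom) (v₁₃ := f) ?_ ?_
    (IsPullback.of_hasPullback V'.hom f).flip
  · have e1 : und ((ProEtS.eps X).map ((EtCoh.bc f).map a)) ≫ pullback.snd V'.hom f = pullback.snd V.hom f :=
      MorphismProperty.Over.w ((EtCoh.bc f).map a)
    show IsPullback (und ((ProEtS.eps X).map ((EtCoh.bc f).map a)) ≫ pullback.snd V'.hom f) (pullback.fst V.hom f) f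
      (a.left ≫ V'.hom)
    rw [e1, MorphismProperty.Over.w a]
    exact (IsPullback.of_hasPullback V.hom f).flip
  · exact pullback.lift_fst _ _ _

variable [QuasiCompact f] [QuasiSeparated f]

omit W in
theorem isQcqs_bc (V : Y.Etale) [IsAffine V.left] : IsQcqs ((ProEtS.eps X).obj ((EtCoh.bc f).obj V)) := by
  haveI : QuasiCompact (pullback.fst V.hom f) := MorphismProperty.pullback_fst (P := @QuasiCompact) _ f ‹_›
  haveI : QuasiSeparated (pullback.fst V.hom f) := MorphismProperty.pullback_fst (P := @QuasiSeparated) _ f ‹_›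
  haveI h1 : CompactSpace ↥((𝟭 Scheme).obj V.left) := inferInstanceAs (CompactSpace ↥V.left)
  haveI h2 : QuasiSeparatedSpace ↥((𝟭 Scheme).obj V.left) := inferInstanceAs (QuasiSeparatedSpace ↥V.left)
  exact ⟨QuasiCompact.compactSpace_of_compactSpace (pullback.fst V.hom f),
    quasiSeparatedSpace_of_quasiSeparated (pullback.fst V.hom f)⟩

/-- The base change of an affine approximation. -/
noncomputable def bcG : GApprox ((ProEtS.bcP f).obj W) where
  I := Φ.I
  D := bcD f Φ
  qcqs i := by
    haveI := Φ.affine i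
    exact isQcqs_bc f _
  affineHom i j a := by
    haveI := Φ.affine i
    haveI := Φ.affine j
    haveI : IsAffineHom (Φ.D.map a).left := isAffineHom_of_isAffine _
    exact MorphismProperty.of_isPullback (P := @IsAffineHom) (bc_map_isPullback f (Φ.D.map a)).flip ‹_›
  π :=
    { app := fun i => (ProEtS.bcP f).map (Φ.π.app i) ≫ (bcEpsIso f).inv.app (Φ.D.obj i)
      naturality := fun i j a => by
        simp only [Functor.const_obj_obj, Functor.const_obj_map, Category.id_comp, Functor.comp_map, Category.assoc]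
        refine Eq.trans ?_ (congrArg ((ProEtS.bcP f).map (Φ.π.app i) ≫ ·) ((bcEpsIso f).inv.naturality (Φ.D.map a)))
        rw [Functor.comp_map, ← Category.assoc, ← Functor.map_comp]
        exact congrArg (· ≫ _) (congrArg (ProEtS.bcP f).map ((Category.id_comp _).symm.trans (Φ.π.naturality a))) }
  isLimit := by
    haveI : IsConnected Φ.I := IsCofiltered.isConnected _
    refine isLimitOfIsPullbackOfIsConnected
      ({ app := fun i => pullback.fst (Φ.D.obj i).hom f
         naturality := fun i j a => (bc_map_isPullback f (Φ.D.map a)).w } :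
        (bcD f Φ ⋙ ProEtS.eps X) ⋙ undF X ⟶ (Φ.D ⋙ ProEtS.eps Y) ⋙ undF Y) _ _
      ({ hom := pullback.fst W.hom f
         w := fun i => ?_ } : _ ⟶ (undF Y).mapCone (Cone.mk W Φ.π)) (fun i => ?_) Φ.isLimit
    · show pullback.fst W.hom f ≫ und (Φ.π.app i) = (und ((ProEtS.bcP f).map (Φ.π.app i)) ≫ 𝟙 _) ≫ pullback.fst (Φ.D.obj i).hom f
      rw [Category.comp_id]
      exact (pullback.lift_fst _ _ _).symm
    · show IsPullback (und ((ProEtS.bcP f).map (Φ.π.app i)) ≫ 𝟙 _) (pullback.fst W.hom f)
        (pullback.fst (Φ.D.obj i).hom f) (und (Φ.π.app i))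
      rw [Category.comp_id]
      refine (IsPullback.of_right (h₁₂ := pullback.snd (Φ.D.obj i).hom f) (h₂₂ := (Φ.D.obj i).hom) (v₁₃ := f) ?_ ?_
        (IsPullback.of_hasPullback (Φ.D.obj i).hom f).flip)
      · have e1 : und ((ProEtS.bcP f).map (Φ.π.app i)) ≫ pullback.snd (Φ.D.obj i).hom f = pullback.snd W.hom f :=
          MorphismProperty.Over.w ((ProEtS.bcP f).map (Φ.π.app i))
        show IsPullback (_ ≫ pullback.snd (Φ.D.obj i).hom f) (pullback.fst W.hom f) f (und (Φ.π.app i) ≫ (Φ.D.obj i).hom)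
        rw [e1, show und (Φ.π.app i) ≫ (Φ.D.obj i).hom = W.hom from und_w (Φ.π.app i)]
        exact (IsPullback.of_hasPullback W.hom f).flip
      · exact pullback.lift_fst _ _ _

end Groth.Agent.EpsLib
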