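import Groth.Agent.EpsLib.PushApprox
import Groth.Agent.EpsLib.Acyclic
import Mathlib.CategoryTheory.Sites.LocallyBijective

/-! `ε⁻¹ f_* ≅ f_* ε⁻¹` for quasi-compact quasi-separated `f`. -/

set_option autoImplicit false
set_option linter.style.haveILetI false
set_option backward.isDefEq.respectTransparency false
set_option synthInstance.maxHeartbeats 400000
set_option maxHeartbeats 1000000
universe u

open CategoryTheory CategoryTheory.Limits AlgebraicGeometry Opposite

namespace Groth.Agent.EpsLib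

open ProEtPtsLib WCSiteLib

variable {X Y : Scheme.{u}} (f : X ⟶ Y) [ProEtS.EpsCont X] [ProEtS.EpsCont Y] [ProEtS.PCont f]

/-- `f_* ε_* ≅ ε_* f_*`. -/
noncomputable def pushEpsIso : ProEtS.epsPush X ⋙ EtCoh.push f ≅ ProEtS.pushP f ⋙ ProEtS.epsPush Y :=
  NatIso.ofComponents (fun G => (fullyFaithfulSheafToPresheaf _ _).preimageIso
    (NatIso.ofComponents (fun V => G.obj.mapIso ((bcEpsIso f).app V.unop).symm.op) (fun {V V'} a => by
      show G.obj.map ((ProEtS.eps X).map ((EtCoh.bc f).map a.unop)).op ≫ G.obj.map ((bcEpsIso f).inv.app V'.unop).op =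
        G.obj.map ((bcEpsIso f).inv.app V.unop).op ≫ G.obj.map ((ProEtS.bcP f).map ((ProEtS.eps Y).map a.unop)).op
      rw [← G.obj.map_comp, ← G.obj.map_comp, ← op_comp, ← op_comp]
      exact congrArg (fun m => G.obj.map m.op) ((bcEpsIso f).inv.naturality a.unop).symm)))
    (fun {G G'} φ => Sheaf.hom_ext (by
      ext V : 2
      exact φ.hom.naturality _ |>.symm))

/-- The comparison map. -/
noncomputable def pushCmp : EtCoh.push f ⋙ ProEtS.epsPull Y ⟶ ProEtS.epsPull X ⋙ ProEtS.pushP f where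
  app F := ((ProEtS.epsAdj Y).homEquiv _ _).symm
    ((EtCoh.push f).map ((ProEtS.epsAdj X).unit.app F) ≫ (pushEpsIso f).hom.app _)
  naturality F F' φ := by
    show (ProEtS.epsPull Y).map ((EtCoh.push f).map φ) ≫ _ = _ ≫ (ProEtS.pushP f).map ((ProEtS.epsPull X).map φ)
    refine ((ProEtS.epsAdj Y).homEquiv_naturality_left_symm _ _).symm.trans
      (Eq.trans ?_ ((ProEtS.epsAdj Y).homEquiv_naturality_right_symm _ _))
    refine congrArg ((ProEtS.epsAdj Y).homEquiv _ _).symm ?_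
    rw [← Category.assoc, ← Functor.map_comp, Category.assoc]
    refine Eq.trans (congrArg (fun m => (EtCoh.push f).map m ≫ (pushEpsIso f).hom.app _)
      ((ProEtS.epsAdj X).unit.naturality φ)) ?_
    rw [Functor.map_comp, Category.assoc]
    exact congrArg (_ ≫ ·) ((pushEpsIso f).hom.naturality ((ProEtS.epsPull X).map φ))

theorem pushCmp_eta (F : EtCoh.Ab X) (V : Y.Etale) (s : F.obj.obj (op ((EtCoh.bc f).obj V))) :
    ((pushCmp f).app F).hom.app (op ((ProEtS.eps Y).obj V)) (etaE ((EtCoh.push f).obj F) V s) =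
      ((ProEtS.epsPull X).obj F).obj.map ((bcEpsIso f).inv.app V).op (etaE F ((EtCoh.bc f).obj V) s) := by
  have h : (ProEtS.epsAdj Y).unit.app ((EtCoh.push f).obj F) ≫ (ProEtS.epsPush Y).map ((pushCmp f).app F) =
      (EtCoh.push f).map ((ProEtS.epsAdj X).unit.app F) ≫ (pushEpsIso f).hom.app _ :=
    (Adjunction.homEquiv_unit (ProEtS.epsAdj Y) _ _ _).symm.trans (Equiv.apply_symm_apply _ _)
  exact congrArg (fun m => m.hom.app (op V) s) h

variable [QuasiCompact f] [QuasiSeparated f]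

theorem pushCmp_bijective (F : EtCoh.Ab X) (W : Y.ProEt) (hW : IsApprox W) :
    Function.Bijective (((pushCmp f).app F).hom.app (op W)) := by
  obtain ⟨Φ⟩ := hW
  haveI : ∀ a b (e : a ⟶ b), IsAffineHom (und ((Φ.toGApprox.D ⋙ ProEtS.eps Y).map e)) := Φ.toGApprox.affineHom
  haveI : ∀ a b (e : a ⟶ b), IsAffineHom (und (((bcG f Φ).D ⋙ ProEtS.eps X).map e)) := (bcG f Φ).affineHom
  let G := (ProEtS.epsPull Y).obj ((EtCoh.push f).obj F)
  let G' := (ProEtS.epsPull X).obj F
  have nat : ∀ (i : Φ.I) (s : F.obj.obj (op ((EtCoh.bc f).obj (Φ.D.obj i)))),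
      ((pushCmp f).app F).hom.app (op W) (G.obj.map (Φ.π.app i).op (etaE ((EtCoh.push f).obj F) (Φ.D.obj i) s)) =
        G'.obj.map ((bcG f Φ).π.app i).op (etaE F ((EtCoh.bc f).obj (Φ.D.obj i)) s) := fun i s => by
    refine (NatTrans.naturality_apply ((pushCmp f).app F).hom (Φ.π.app i).op
      (etaE ((EtCoh.push f).obj F) (Φ.D.obj i) s)).trans ?_
    refine (congrArg (((ProEtS.pushP f).obj G').obj.map (Φ.π.app i).op) (pushCmp_eta f F (Φ.D.obj i) s)).trans ?_
    exact (ConcreteCategory.congr_hom (G'.obj.map_comp ((bcEpsIso f).inv.app (Φ.D.obj i)).op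
      ((ProEtS.bcP f).map (Φ.π.app i)).op) (etaE F ((EtCoh.bc f).obj (Φ.D.obj i)) s)).symm
  refine ⟨(injective_iff_map_eq_zero _).2 fun x hx => ?_, fun t => ?_⟩
  · obtain ⟨i, xi, rfl⟩ := pull_exists_level_lift ((EtCoh.push f).obj F) (D := Φ.toGApprox.D ⋙ ProEtS.eps Y)
      Φ.toGApprox.qcqs (Cone.mk W Φ.π) Φ.isLimit x
    obtain ⟨s, rfl⟩ := (etaE_bijective ((EtCoh.push f).obj F) (Φ.D.obj i)).2 xi
    obtain ⟨j, a, ha⟩ := pull_exists_level_eq_zero F (D := (bcG f Φ).D ⋙ ProEtS.eps X) (bcG f Φ).qcqs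
      (Cone.mk _ (bcG f Φ).π) (bcG f Φ).isLimit i _ ((nat i s).symm.trans hx)
    have h0 : F.obj.map ((EtCoh.bc f).map (Φ.D.map a)).op s = 0 := by
      refine (etaE_bijective F _).1 ?_
      rw [etaE_map, etaE_zero]
      exact ha
    have h1 : G.obj.map ((ProEtS.eps Y).map (Φ.D.map a)).op (etaE ((EtCoh.push f).obj F) (Φ.D.obj i) s) = 0 := by
      rw [← etaE_map]
      exact (congrArg (etaE ((EtCoh.push f).obj F) (Φ.D.obj j)) h0).trans (etaE_zero _ _)
    have h2 : Φ.π.app j ≫ (ProEtS.eps Y).map (Φ.D.map a) = Φ.π.app i :=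
      (Φ.π.naturality a).symm.trans (Category.id_comp _)
    show G.obj.map (Φ.π.app i).op _ = 0
    rw [← h2, op_comp, G.obj.map_comp, ConcreteCategory.comp_apply]
    exact (congrArg (G.obj.map (Φ.π.app j).op) h1).trans (map_zero _)
  · obtain ⟨i, xi, hxi⟩ := pull_exists_level_lift F (D := (bcG f Φ).D ⋙ ProEtS.eps X) (bcG f Φ).qcqs
      (Cone.mk _ (bcG f Φ).π) (bcG f Φ).isLimit t
    obtain ⟨s, rfl⟩ := (etaE_bijective F ((EtCoh.bc f).obj (Φ.D.obj i))).2 xi
    exact ⟨_, (nat i s).trans hxi⟩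

theorem isIso_pushCmp_app (F : EtCoh.Ab X) : IsIso ((pushCmp f).app F) := by
  refine (Sheaf.isLocallyBijective_iff_isIso (A := AddCommGrpCat.{u + 1}) _).1 ⟨⟨fun {U} x y h => mem_of_approx _ fun W a hW => ?_⟩, ⟨fun {U} s => mem_of_approx _ fun W a hW => ?_⟩⟩
  · refine (pushCmp_bijective f F W hW).1 ?_
    refine (NatTrans.naturality_apply ((pushCmp f).app F).hom a.op x).trans
      (Eq.trans ?_ (NatTrans.naturality_apply ((pushCmp f).app F).hom a.op y).symm)
    exact congrArg (((ProEtS.pushP f).obj ((ProEtS.epsPull X).obj F)).obj.map a.op) h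
  · exact (pushCmp_bijective f F W hW).2 _

theorem isIso_pushCmp : IsIso (pushCmp f) :=
  haveI := isIso_pushCmp_app f
  NatIso.isIso_of_isIso_app _

end Groth.Agent.EpsLib
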