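import Groth.Agent.EpsLib.PushCmp
import Groth.Agent.EpsLib.Flasque
import Groth.Agent.EpsLib.Cohomology
import Groth.Agent.EpsLib.EpsImage

/-! `R^q f_* ε⁻¹ ≅ ε⁻¹ R^q f_*`. -/

set_option autoImplicit false
set_option linter.style.haveILetI false
set_option backward.isDefEq.respectTransparency false
set_option synthInstance.maxHeartbeats 400000
set_option maxHeartbeats 1000000
universe u

open CategoryTheory CategoryTheory.Limits AlgebraicGeometry Opposite

namespace Groth.Agent.EpsLib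

open ProEtPtsLib WCSiteLib

section DimShift

variable {C : Type*} [Category C] [Abelian C] [HasInjectiveResolutions C] {D : Type*} [Category D] [Abelian D]
  (F : C ⥤ D) [F.Additive]

theorem nonempty_iso_succ {S : ShortComplex C} (hS : S.ShortExact) (n : ℕ)
    (h₀ : IsZero ((F.rightDerived n).obj S.X₂)) (h₁ : IsZero ((F.rightDerived (n + 1)).obj S.X₂)) :
    Nonempty ((F.rightDerived n).obj S.X₃ ≅ (F.rightDerived (n + 1)).obj S.X₁) := by
  let Δ := RDerLib.derivedLES F
  haveI : Mono (Δ.δ S hS n (n + 1) rfl) := (Δ.exact₃ S hS n (n + 1) rfl).mono_g (h₀.eq_of_src _ _)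
  haveI : Epi (Δ.δ S hS n (n + 1) rfl) := (Δ.exact₁ S hS n (n + 1) rfl).epi_f (h₁.eq_of_tgt _ _)
  haveI := isIso_of_mono_of_epi (Δ.δ S hS n (n + 1) rfl)
  exact ⟨asIso (Δ.δ S hS n (n + 1) rfl)⟩

theorem nonempty_iso_one [PreservesFiniteLimits F] {S : ShortComplex C} (hS : S.ShortExact)
    (h₁ : IsZero ((F.rightDerived 1).obj S.X₂)) :
    Nonempty (cokernel (F.map S.g) ≅ (F.rightDerived 1).obj S.X₁) := by
  let Δ := RDerLib.derivedLES F
  haveI : Epi (Δ.δ S hS 0 1 rfl) := (Δ.exact₁ S hS 0 1 rfl).epi_f (h₁.eq_of_tgt _ _)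
  haveI : Epi (ShortComplex.mk _ _ (Δ.comp_δ S hS 0 1 rfl)).g := ‹Epi (Δ.δ S hS 0 1 rfl)›
  exact ⟨cokernel.mapIso (F.map S.g) ((F.rightDerived 0).map S.g) (F.rightDerivedZeroIsoSelf.app _).symm
      (F.rightDerivedZeroIsoSelf.app _).symm (F.rightDerivedZeroIsoSelf.inv.naturality S.g) ≪≫
    (cokernelIsCokernel _).coconePointUniqueUpToIso (Δ.exact₃ S hS 0 1 rfl).gIsCokernel⟩

end DimShift

variable {X Y : Scheme.{u}} (f : X ⟶ Y) [ProEtS.EpsCont X] [ProEtS.EpsCont Y] [ProEtS.PCont f]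
  [QuasiCompact f] [QuasiSeparated f]

omit [ProEtS.EpsCont X] [ProEtS.EpsCont Y] [QuasiCompact f] [QuasiSeparated f] in
theorem preservesFiniteLimits_pushP : PreservesFiniteLimits (ProEtS.pushP f) := by
  haveI := (ProEtS.pullPushAdjP f).rightAdjoint_preservesLimits
  infer_instance

omit [ProEtS.EpsCont Y] in
theorem epi_pushP_map {S : ShortComplex (ProEtS.AbP X)} (hS : S.ShortExact) (h : Good S.X₁) :
    Epi ((ProEtS.pushP f).map S.g) :=
  (Sheaf.isLocallySurjective_iff_epi' (J := Scheme.ProEt.topology Y) (A := AddCommGrpCat.{u + 1}) _).1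
    ⟨fun {U} s => mem_of_approx _ fun W a hW => surjective_of_good hS h (bcG f hW.some) _⟩

omit [ProEtS.EpsCont Y] in
theorem isZero_RpushP_of_good : ∀ (q : ℕ) (G : ProEtS.AbP X), Good G →
    IsZero ((ProEtS.RpushP f (q + 1)).obj G) := by
  haveI := preservesFiniteLimits_pushP f
  intro q
  induction q with
  | zero =>
    intro G hG
    refine RDerLib.isZero_X₁_succ (F := ProEtS.pushP f) (CohLib.injSC_shortExact G) 0
      ((ProEtS.pushP f).isZero_rightDerived_obj_injective_succ 0 (Injective.under G)) ?_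
    exact (RDerLib.epi_map_g_iff _).2 (epi_pushP_map f (CohLib.injSC_shortExact G) hG)
  | succ q ih =>
    intro G hG
    haveI : Injective (CohLib.injSC G).X₂ := inferInstanceAs (Injective (Injective.under G))
    refine RDerLib.isZero_X₁_succ (F := ProEtS.pushP f) (CohLib.injSC_shortExact G) (q + 1)
      ((ProEtS.pushP f).isZero_rightDerived_obj_injective_succ (q + 1) (Injective.under G)) ?_
    exact ⟨fun a b _ => (ih _ (good_quotient (CohLib.injSC_shortExact G) hG)).eq_of_src a b⟩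

omit [QuasiCompact f] [QuasiSeparated f] [ProEtS.EpsCont X] [ProEtS.EpsCont Y] [ProEtS.PCont f] in
theorem preservesFiniteLimits_push : PreservesFiniteLimits (EtCoh.push f) := by
  haveI := (EtCoh.pullPushAdj f).rightAdjoint_preservesLimits
  infer_instance

theorem RpushP_epsPull : ∀ (q : ℕ) (F : EtCoh.Ab X),
    Nonempty ((ProEtS.RpushP f q).obj ((ProEtS.epsPull X).obj F) ≅ (ProEtS.epsPull Y).obj ((EtCoh.Rpush f q).obj F)) := by
  haveI := preservesFiniteLimits_pushP f
  haveI := preservesFiniteLimits_push f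
  haveI := epsPull_additive (X := X)
  haveI := (epsPull_preservesFiniteLimitsColimits (X := Y)).2
  haveI : PreservesColimitsOfShape WalkingParallelPair (ProEtS.epsPull Y) := inferInstance
  intro q
  induction q with
  | zero =>
    intro F
    haveI := isIso_pushCmp_app f F
    exact ⟨(ProEtS.pushP f).rightDerivedZeroIsoSelf.app _ ≪≫ (asIso ((pushCmp f).app F)).symm ≪≫
      (ProEtS.epsPull Y).mapIso ((EtCoh.push f).rightDerivedZeroIsoSelf.app F).symm⟩
  | succ q ih =>
    intro F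
    have hS := CohLib.injSC_shortExact F
    have hI : ∀ n, IsZero ((ProEtS.RpushP f (n + 1)).obj ((CohLib.injSC F).map (ProEtS.epsPull X)).X₂) := fun n =>
      isZero_RpushP_of_good f n _ (good_epsPull_injective (Injective.under F))
    have hJ : ∀ n, IsZero ((EtCoh.Rpush f (n + 1)).obj (CohLib.injSC F).X₂) := fun n =>
      (EtCoh.push f).isZero_rightDerived_obj_injective_succ n (Injective.under F)
    rcases q with _ | q
    · obtain ⟨e₁⟩ := nonempty_iso_one (ProEtS.pushP f) (epsPull_shortExact hS) (hI 0)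
      obtain ⟨e₂⟩ := nonempty_iso_one (EtCoh.push f) hS (hJ 0)
      haveI := isIso_pushCmp_app f (CohLib.injSC F).X₂
      haveI := isIso_pushCmp_app f (CohLib.injSC F).X₃
      exact ⟨e₁.symm ≪≫ (cokernel.mapIso ((ProEtS.epsPull Y).map ((EtCoh.push f).map (CohLib.injSC F).g))
          ((ProEtS.pushP f).map ((ProEtS.epsPull X).map (CohLib.injSC F).g))
          (asIso ((pushCmp f).app _)) (asIso ((pushCmp f).app _)) ((pushCmp f).naturality (CohLib.injSC F).g)).symm ≪≫
        (PreservesCokernel.iso (ProEtS.epsPull Y) ((EtCoh.push f).map (CohLib.injSC F).g)).symm ≪≫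
        (ProEtS.epsPull Y).mapIso e₂⟩
    · obtain ⟨e₁⟩ := nonempty_iso_succ (ProEtS.pushP f) (epsPull_shortExact hS) (q + 1) (hI q) (hI (q + 1))
      obtain ⟨e₂⟩ := nonempty_iso_succ (EtCoh.push f) hS (q + 1) (hJ q) (hJ (q + 1))
      obtain ⟨e⟩ := ih (CohLib.injSC F).X₃
      exact ⟨e₁.symm ≪≫ e ≪≫ (ProEtS.epsPull Y).mapIso e₂⟩

end Groth.Agent.EpsLib
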