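import Groth.Agent.EpsLib.ModQuot
import Groth.Agent.EpsLib.PushCmp
import Groth.Agent.EpsLib.ModImage
import Groth.Agent.WCSiteLib.Push

/-! Direct images of adic pro-étale sheaves along closed immersions. -/

set_option autoImplicit false
set_option linter.style.haveILetI false
set_option backward.isDefEq.respectTransparency false
set_option synthInstance.maxHeartbeats 400000
set_option maxHeartbeats 1000000
universe u

open CategoryTheory CategoryTheory.Limits AlgebraicGeometry Opposite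

namespace Groth.Agent.EpsLib

open ProEtPtsLib WCSiteLib

variable (Λ : Type (u + 1)) [CommRing Λ] {Z X : Scheme.{u}} (i : Z ⟶ X) [ProEtS.PCont i]

/-- `i_*` on pro-étale sheaves of modules. -/
noncomputable abbrev pushPMod : EtModW.ModP Λ Z ⥤ EtModW.ModP Λ X :=
  (ProEtS.bcP i).sheafPushforwardContinuous (ModuleCat.{u + 1} Λ) (Scheme.ProEt.topology X) (Scheme.ProEt.topology Z)

theorem pushPMod_preservesLimitsOfShape : PreservesLimitsOfShape ℕᵒᵖ (pushPMod Λ i) := by
  haveI : PreservesLimitsOfShape ℕᵒᵖ (pushPMod Λ i ⋙ sheafToPresheaf (Scheme.ProEt.topology X) (ModuleCat.{u + 1} Λ)) :=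
    preservesLimitsOfShape_of_natIso (NatIso.ofComponents (fun F => Iso.refl _) :
      sheafToPresheaf (Scheme.ProEt.topology Z) (ModuleCat.{u + 1} Λ) ⋙
        (Functor.whiskeringLeft _ _ _).obj (ProEtS.bcP i).op ≅
      pushPMod Λ i ⋙ sheafToPresheaf (Scheme.ProEt.topology X) (ModuleCat.{u + 1} Λ))
  exact preservesLimitsOfShape_of_reflects_of_preserves _ (sheafToPresheaf (Scheme.ProEt.topology X) (ModuleCat.{u + 1} Λ))

variable [ProEtS.EpsCont Z] [ProEtS.EpsCont X]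

/-- `i_* ε_* ≅ ε_* i_*` on modules. -/
noncomputable def pushEpsIsoMod : epsPushMod Λ Z ⋙ EtModW.push Λ i ≅ pushPMod Λ i ⋙ epsPushMod Λ X :=
  NatIso.ofComponents (fun G => (fullyFaithfulSheafToPresheaf _ _).preimageIso
    (NatIso.ofComponents (fun V => G.obj.mapIso ((bcEpsIso i).app V.unop).symm.op) (fun {V V'} a => by
      show G.obj.map ((ProEtS.eps Z).map ((EtCoh.bc i).map a.unop)).op ≫ G.obj.map ((bcEpsIso i).inv.app V'.unop).op =
        G.obj.map ((bcEpsIso i).inv.app V.unop).op ≫ G.obj.map ((ProEtS.bcP i).map ((ProEtS.eps X).map a.unop)).op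
      rw [← G.obj.map_comp, ← G.obj.map_comp, ← op_comp, ← op_comp]
      exact congrArg (fun m => G.obj.map m.op) ((bcEpsIso i).inv.naturality a.unop).symm)))
    (fun {G G'} φ => Sheaf.hom_ext (by
      ext V : 2
      exact φ.hom.naturality _ |>.symm))

/-- The comparison map on modules. -/
noncomputable def pushCmpMod (E : EtModW.Mod Λ Z) :
    (EtModW.epsPullMod Λ X).obj ((EtModW.push Λ i).obj E) ⟶ (pushPMod Λ i).obj ((EtModW.epsPullMod Λ Z).obj E) :=
  ((epsAdjMod Λ X).homEquiv _ _).symm ((EtModW.push Λ i).map ((epsAdjMod Λ Z).unit.app E) ≫ (pushEpsIsoMod Λ i).hom.app _)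

theorem isIso_pushCmpMod [QuasiCompact i] [QuasiSeparated i] (E : EtModW.Mod Λ Z) : IsIso (pushCmpMod Λ i E) := by
  have key : cmp Λ X ((EtModW.push Λ i).obj E) ≫ (sheafCompose (Scheme.ProEt.topology X) (UF Λ)).map (pushCmpMod Λ i E) =
      (pushCmp i).app ((sheafCompose Z.smallEtaleTopology (UF Λ)).obj E) ≫ (ProEtS.pushP i).map (cmp Λ Z E) := by
    apply ((ProEtS.epsAdj X).homEquiv _ _).injective
    refine (homEquiv_cmp Λ X _ _ _).trans ?_
    have h1 : (epsAdjMod Λ X).unit.app ((EtModW.push Λ i).obj E) ≫ (epsPushMod Λ X).map (pushCmpMod Λ i E) =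
        (EtModW.push Λ i).map ((epsAdjMod Λ Z).unit.app E) ≫ (pushEpsIsoMod Λ i).hom.app _ :=
      (Adjunction.homEquiv_unit (epsAdjMod Λ X) _ _ _).symm.trans (Equiv.apply_symm_apply _ _)
    refine Eq.trans ?_ (Adjunction.homEquiv_naturality_right _ _ _).symm
    refine Eq.trans ?_ (congrArg (fun t => t ≫ (ProEtS.epsPush X).map ((ProEtS.pushP i).map (cmp Λ Z E)))
      (Equiv.apply_symm_apply ((ProEtS.epsAdj X).homEquiv _ _)
        ((EtCoh.push i).map ((ProEtS.epsAdj Z).unit.app _) ≫ (pushEpsIso i).hom.app _))).symm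
    rw [Category.assoc]
    rw [show (pushEpsIso i).hom.app ((ProEtS.epsPull Z).obj ((sheafCompose Z.smallEtaleTopology (UF Λ)).obj E)) ≫
      (ProEtS.epsPush X).map ((ProEtS.pushP i).map (cmp Λ Z E)) =
      (EtCoh.push i).map ((ProEtS.epsPush Z).map (cmp Λ Z E)) ≫ (pushEpsIso i).hom.app _ from
      ((pushEpsIso i).hom.naturality (cmp Λ Z E)).symm, ← Category.assoc, ← Functor.map_comp]
    have h2 : (ProEtS.epsAdj Z).unit.app ((sheafCompose Z.smallEtaleTopology (UF Λ)).obj E) ≫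
        (ProEtS.epsPush Z).map (cmp Λ Z E) = unitU Λ Z E := by
      exact (Adjunction.homEquiv_unit (ProEtS.epsAdj Z) _ _ _).symm.trans (Equiv.apply_symm_apply _ _)
    rw [h2]
    exact congrArg (sheafCompose X.smallEtaleTopology (UF Λ)).map h1
  haveI := isIso_cmp Λ X ((EtModW.push Λ i).obj E)
  haveI := isIso_cmp Λ Z E
  haveI := isIso_pushCmp_app i ((sheafCompose Z.smallEtaleTopology (UF Λ)).obj E)
  haveI : IsIso (cmp Λ X ((EtModW.push Λ i).obj E) ≫ (sheafCompose (Scheme.ProEt.topology X) (UF Λ)).map (pushCmpMod Λ i E)) := by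
    rw [key]
    infer_instance
  haveI := IsIso.of_isIso_comp_left (cmp Λ X ((EtModW.push Λ i).obj E))
    ((sheafCompose (Scheme.ProEt.topology X) (UF Λ)).map (pushCmpMod Λ i E))
  exact sheafU_reflectsIso Λ (Scheme.ProEt.topology X) _

variable {Λ}

omit [ProEtS.EpsCont Z] [ProEtS.EpsCont X] in
theorem isQuot_pushPMod [IsClosedImmersion i] (hret : IsRetrocompact (Set.range (fun z => i.base z))ᶜ)
    {J : Ideal Λ} {A Q : EtModW.ModP Λ Z} {p : A ⟶ Q} (h : ARSys.IsQuot J p) :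
    ARSys.IsQuot J ((pushPMod Λ i).map p) := by
  haveI := epi_of_isQuot h
  have hbc : ∀ W : X.ProEt, IsAffine W.left → EtPBC.IsWContractible ↥(Γ(W.left, ⊤)) →
      IsAffine ((ProEtS.bcP i).obj W).left ∧ ProEtS.IsWC ((ProEtS.bcP i).obj W) := fun W hW hwc => by
    haveI : IsAffineHom (pullback.fst W.hom i) := MorphismProperty.pullback_fst (P := @IsAffineHom) _ i inferInstance
    haveI hA : IsAffine (X := pullback W.hom i) := @isAffine_of_isAffineHom _ _ (pullback.fst W.hom i) ‹_› hW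
    haveI : IsAffine ((ProEtS.bcP i).obj W).left := hA
    exact ⟨hA, isWC_of_wContractible _ (@wc_pullback_closed _ _ i _ hret W.left hW W.hom hwc)⟩
  haveI : Epi ((pushPMod Λ i).map p) := by
    refine Abelian.epi_of_cokernel_π_eq_zero ((pushPMod Λ i).map p)
      (hom_eq_zero_of_awc (cokernel.π ((pushPMod Λ i).map p)) fun W hW hwc z => ?_)
    obtain ⟨hA, hV⟩ := hbc W hW hwc
    obtain ⟨y, hy⟩ := DC.evM_surjective hV p z
    rw [show z = ((evM Λ W).map ((pushPMod Λ i).map p)).hom y from hy.symm]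
    exact congrArg (fun t => t.hom y) (((evM Λ W).map_comp _ _).symm.trans
      ((congrArg _ (cokernel.condition ((pushPMod Λ i).map p))).trans ((evM Λ W).map_zero _ _)))
  refine isQuot_of_awc (fun c hc => ?_) fun W hW hwc x hx => ?_
  · apply Sheaf.hom_ext
    ext V y
    exact congrArg (fun t => ((evM Λ ((ProEtS.bcP i).obj V.unop)).map t).hom y) (h.1 c hc)
  · obtain ⟨hA, hV⟩ := hbc W hW hwc
    haveI := hA
    exact mem_smul_top_of_isQuot h ((ProEtS.bcP i).obj W) hV x hx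

theorem isAdicP_pushPMod [IsClosedImmersion i] (I : Ideal Λ) (hret : IsRetrocompact (Set.range (fun z => i.base z))ᶜ)
    (hpush : ∀ E : EtModW.Mod Λ Z, EtModW.IsConstructible Λ E → EtModW.IsConstructible Λ ((EtModW.push Λ i).obj E))
    (F : EtModW.ModP Λ Z) (Q : ℕᵒᵖ ⥤ EtModW.ModP Λ Z) (p : (Functor.const ℕᵒᵖ).obj F ⟶ Q)
    (h1 : ∀ n : ℕ, ARSys.IsQuot (I ^ (n + 1)) (p.app (op n)))
    (h2 : ∀ n : ℕ, ∃ E : EtModW.Mod Λ Z, EtModW.IsConstructible Λ E ∧
      Nonempty ((EtModW.epsPullMod Λ Z).obj E ≅ Q.obj (op n)))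
    (h3 : IsIso (limit.lift Q (Cone.mk F p))) :
    ∃ (Q' : ℕᵒᵖ ⥤ EtModW.ModP Λ X) (p' : (Functor.const ℕᵒᵖ).obj ((pushPMod Λ i).obj F) ⟶ Q'),
      (∀ n : ℕ, ARSys.IsQuot (I ^ (n + 1)) (p'.app (op n))) ∧
      (∀ n : ℕ, ∃ E : EtModW.Mod Λ X, EtModW.IsConstructible Λ E ∧
        Nonempty ((EtModW.epsPullMod Λ X).obj E ≅ Q'.obj (op n))) ∧
      IsIso (limit.lift Q' (Cone.mk ((pushPMod Λ i).obj F) p')) := by
  let c := (pushPMod Λ i).mapCone (Cone.mk F p)
  refine ⟨Q ⋙ pushPMod Λ i, c.π, fun n => isQuot_pushPMod i hret (h1 n), fun n => ?_, ?_⟩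
  · obtain ⟨E, hE, ⟨e⟩⟩ := h2 n
    haveI : QuasiCompact i := inferInstance
    haveI : QuasiSeparated i := inferInstance
    haveI := isIso_pushCmpMod Λ i E
    exact ⟨_, hpush E hE, ⟨asIso (pushCmpMod Λ i E) ≪≫ (pushPMod Λ i).mapIso e⟩⟩
  · haveI := pushPMod_preservesLimitsOfShape Λ i
    let hl : IsLimit c := isLimitOfPreserves (pushPMod Λ i) ((IsLimit.ofPointIso (limit.isLimit Q) (i := h3) : IsLimit (Cone.mk F p)))
    exact (hl.conePointUniqueUpToIso (limit.isLimit _)).isIso_hom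

end Groth.Agent.EpsLib
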