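import Groth.Agent.EpsLib.BaseChange
import Groth.Agent.WCSiteLib.Recollement

/-! Sections of `ε⁻¹F` over cofiltered limits. -/

set_option autoImplicit false
set_option linter.style.haveILetI false
set_option backward.isDefEq.respectTransparency false
set_option synthInstance.maxHeartbeats 400000
set_option maxHeartbeats 1000000
universe u

open CategoryTheory CategoryTheory.Limits AlgebraicGeometry Opposite

namespace Groth.Agent.EpsLib

open ProEtPtsLib WCSiteLib

variable {X : Scheme.{u}}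

/-- A morphism factoring through an open subobject. -/
theorem exists_openLift {T U : X.ProEt} (f : T ⟶ U) (O : U.left.Opens) (h : ∀ z, (und f).base z ∈ O) :
    ∃ l : T ⟶ openObj U O, l ≫ openι U O = f := by
  have hr : Set.range (und f).base ⊆ Set.range O.ι.base := by
    rintro _ ⟨z, rfl⟩
    exact O.range_ι.ge (h z)
  refine ⟨MorphismProperty.Over.homMk (IsOpenImmersion.lift O.ι (und f) hr) ?_, hom_ext_und (IsOpenImmersion.lift_fac _ _ hr)⟩
  show IsOpenImmersion.lift O.ι (und f) hr ≫ O.ι ≫ U.hom = T.hom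
  rw [IsOpenImmersion.lift_fac_assoc]
  exact und_w f

theorem openι_open_mem {U : X.ProEt} {ι : Type u} (O : ι → U.left.Opens) (hO : iSup O = ⊤) :
    Sieve.ofArrows (fun k => openObj U (O k)) (fun k => openι U (O k)) ∈ Scheme.ProEt.topology X U :=
  ofArrows_mem_of_mem _ _ (Scheme.zariskiPrecoverage_le_propQCPrecoverage _
    ((Scheme.ofArrows_mem_precoverage_iff _).2 ⟨fun x => by
      obtain ⟨k, hk⟩ := TopologicalSpace.Opens.mem_iSup.1 (show x ∈ iSup O from hO ▸ trivial)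
      exact ⟨k, ⟨x, hk⟩, rfl⟩, fun k => inferInstanceAs (IsOpenImmersion (O k).ι)⟩))

theorem finite_family_mem {U : X.ProEt} {ι : Type u} [Finite ι] (Z : ι → X.ProEt) (g : ∀ k, Z k ⟶ U)
    (hqc : ∀ k, QuasiCompact (und (g k))) (hs : ∀ x : ↥U.left, ∃ k y, (und (g k)).base y = x) :
    Sieve.ofArrows Z g ∈ Scheme.ProEt.topology X U := by
  let 𝒱 : Scheme.Cover.{u} (Scheme.precoverage @WeaklyEtale) U.left :=
    { I₀ := ι
      X := fun k => (Z k).left
      f := fun k => und (g k)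
      mem₀ := by
        rw [Scheme.presieve₀_mem_precoverage_iff]
        exact ⟨hs, fun k => weaklyEtale_und (g k)⟩ }
  haveI : ∀ k : 𝒱.I₀, QuasiCompact (𝒱.f k) := hqc
  exact ofArrows_mem_of_mem _ _
    ⟨Scheme.presieve₀_mem_qcPrecoverage_iff.2 (@QuasiCompactCover.of_finite _ _ 𝒱 _ ‹_› ‹Finite ι›), 𝒱.mem₀⟩

variable (F : EtCoh.Ab X)

/-- The largest open on which a section vanishes. -/
def vanishLocus {U : X.ProEt} (t : ProEtS.sectP (epsSh F) U) : U.left.Opens :=
  sSup { O : U.left.Opens | (epsSh F).obj.map (openι U O).op t = 0 }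

theorem map_eq_zero_of_range_subset {U T : X.ProEt} (t : ProEtS.sectP (epsSh F) U) (f : T ⟶ U)
    (h : ∀ z, (und f).base z ∈ vanishLocus F t) : (epsSh F).obj.map f.op t = 0 := by
  have H : ∀ z : ↥T.left, ∃ O : U.left.Opens, (epsSh F).obj.map (openι U O).op t = 0 ∧ (und f).base z ∈ O := fun z => by
    obtain ⟨O, hO, hz⟩ := TopologicalSpace.Opens.mem_sSup.1 (h z)
    exact ⟨O, hO, hz⟩
  choose O hO hz using H
  refine sect_ext (epsSh F) _ (openι_open_mem (fun z => (und f) ⁻¹ᵁ O z)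
    (top_le_iff.1 fun z _ => TopologicalSpace.Opens.mem_iSup.2 ⟨z, hz z⟩)) _ 0 fun P g hg => ?_
  obtain ⟨z, a, rfl⟩ := (Sieve.mem_ofArrows_iff _ _ _).1 hg
  obtain ⟨l, hl⟩ := exists_openLift (openι T ((und f) ⁻¹ᵁ O z) ≫ f) (O z) fun w => w.2
  rw [map_zero, map_map, Category.assoc, ← hl, ← map_map, ← map_map, hO z, map_zero, map_zero]

variable {I : Type u} [SmallCategory I] [IsCofiltered I] {D : I ⥤ X.ProEt}
  [∀ (i j : I) (a : i ⟶ j), IsAffineHom (und (D.map a))] (hD : ∀ i, IsQcqs (D.obj i))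
  (c : Cone D) (hc : IsLimit ((undF X).mapCone c))

include hc in
theorem isAffineHom_leg (i : I) : IsAffineHom (und (c.π.app i)) := by
  haveI : ∀ {i j : I} (a : i ⟶ j), IsAffineHom ((D ⋙ undF X).map a) := fun a => ‹∀ (i j : I) (a : i ⟶ j), IsAffineHom (und (D.map a))› _ _ a
  exact isAffineHom_π_app _ _ hc i

include hD hc in
theorem exists_map_top {i : I} (U : (D.obj i).left.Opens) (hU : ∀ z, (und (c.π.app i)).base z ∈ U) :
    ∃ (j : I) (a : j ⟶ i), ∀ z, (und (D.map a)).base z ∈ U := by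
  haveI : ∀ {i j : I} (a : i ⟶ j), IsAffineHom ((D ⋙ undF X).map a) := fun a => ‹∀ (i j : I) (a : i ⟶ j), IsAffineHom (und (D.map a))› _ _ a
  haveI : ∀ i, CompactSpace ↥((D ⋙ undF X).obj i) := fun i => (hD i).compact
  obtain ⟨j, a, ha⟩ := exists_map_eq_top (D ⋙ undF X) ((undF X).mapCone c) hc (i := i) U
    (top_le_iff.1 fun z _ => hU z)
  exact ⟨j, a, fun z => ha.ge (show z ∈ (⊤ : (D.obj j).left.Opens) from trivial)⟩

include hD hc in
theorem exists_level_eq_zero (i : I) (t : ProEtS.sectP (epsSh F) (D.obj i))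
    (h : (epsSh F).obj.map (c.π.app i).op t = 0) :
    ∃ (j : I) (a : j ⟶ i), (epsSh F).obj.map (D.map a).op t = 0 := by
  obtain ⟨j, a, ha⟩ := exists_map_top hD c hc (vanishLocus F t) fun z => by
    obtain ⟨A, hA, hzA, -⟩ := exists_isAffineOpen_mem_and_subset (x := (und (c.π.app i)).base z) (U := ⊤) trivial
    let b₀ := openι c.pt ((und (c.π.app i)) ⁻¹ᵁ A)
    obtain ⟨l, hl⟩ := exists_openLift (b₀ ≫ c.π.app i) A fun w => w.2
    haveI : IsAffine (openObj (D.obj i) A).left := hA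
    obtain ⟨O, hzO, hO⟩ := exists_open_vanish F ((epsSh F).obj.map (openι (D.obj i) A).op t) l (by
      rw [map_map, hl, ← map_map]
      exact (congrArg _ h).trans (map_zero _)) ((und l).base ⟨z, hzA⟩) ⟨_, rfl⟩
    refine TopologicalSpace.Opens.mem_sSup.2 ⟨A.ι ''ᵁ O, ?_, ⟨(und l).base ⟨z, hzA⟩, hzO, ?_⟩⟩
    · obtain ⟨m, hm⟩ := exists_openLift (openι (D.obj i) (A.ι ''ᵁ O)) A fun w => by
        obtain ⟨w', -, hw'⟩ := w.2
        show w.1 ∈ A
        rw [← hw']
        exact w'.2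
      obtain ⟨m', hm'⟩ := exists_openLift m O fun w => by
        obtain ⟨w', hw'O, hw'⟩ := w.2
        have e : A.ι.base ((und m).base w) = w.1 := congrArg (fun k : _ ⟶ D.obj i => (und k).base w) hm
        rw [show (und m).base w = w' from A.ι.isOpenEmbedding.injective (e.trans hw'.symm)]
        exact hw'O
      show (epsSh F).obj.map (openι (D.obj i) (A.ι ''ᵁ O)).op t = 0
      rw [← hm, ← hm', ← map_map, ← map_map, hO, map_zero]
    · exact congrArg (fun k : _ ⟶ D.obj i => (und k).base (⟨z, hzA⟩ : ↥((und (c.π.app i)) ⁻¹ᵁ A))) hl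
  exact ⟨j, a, map_eq_zero_of_range_subset F t _ ha⟩

/-- A candidate at a finite level for a section on the limit. -/
structure Cand (t : ProEtS.sectP (epsSh F) c.pt) (j : I) where
  /-- The object. -/
  E : X.ProEt
  /-- Its map to the level. -/
  e : E ⟶ D.obj j
  /-- The section. -/
  s : ProEtS.sectP (epsSh F) E
  qcqs : IsQcqs E
  isOpen : IsOpen (Set.range (und e).base)
  compat : ∀ (T : X.ProEt) (a : T ⟶ c.pt) (b : T ⟶ E), a ≫ c.π.app j = b ≫ e →
    (epsSh F).obj.map a.op t = (epsSh F).obj.map b.op s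

/-- Pull a candidate back to a finer level. -/
noncomputable def Cand.res {t : ProEtS.sectP (epsSh F) c.pt} {j k : I} (K : Cand F c t j) (a : k ⟶ j) :
    Cand F c t k where
  E := fibObj K.e (D.map a)
  e := fibSnd K.e (D.map a)
  s := (epsSh F).obj.map (fibFst K.e (D.map a)).op K.s
  qcqs :=
    haveI := isAffineHom_fibFst K.e (D.map a)
    isQcqs_of_isAffineHom (fibFst K.e (D.map a)) K.qcqs
  isOpen := by
    show IsOpen (Set.range (pullback.snd (und K.e) (und (D.map a))).base)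
    rw [Scheme.Pullback.range_snd]
    exact K.isOpen.preimage (und (D.map a)).continuous
  compat T p q h := by
    rw [map_map]
    refine K.compat T p (q ≫ fibFst K.e (D.map a)) ?_
    rw [Category.assoc, fib_condition, ← Category.assoc, ← h, Category.assoc, c.w]

include hD hc in
theorem exists_cand (t : ProEtS.sectP (epsSh F) c.pt) (w : ↥c.pt.left) :
    ∃ (j : I) (K : Cand F c t j), (und (c.π.app j)).base w ∈ Set.range (und K.e).base := by
  obtain ⟨i₀⟩ := IsCofiltered.nonempty (C := I)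
  obtain ⟨T, g, y, V, a, s, hy, ht⟩ := exists_el_hit F t w
  haveI : Etale V.hom := V.prop
  let π₀ := und g ≫ und (c.π.app i₀)
  have hw₀ : π₀ ≫ (D.obj i₀).hom = und a ≫ V.hom := by
    rw [Category.assoc, und_w, und_w]
    exact (Over.w ((Scheme.ProEt.forget X).map a)).symm
  let P : X.ProEt :=
    haveI : WeaklyEtale (D.obj i₀).hom := (D.obj i₀).prop
    Scheme.ProEt.mk (pullback.fst (D.obj i₀).hom V.hom ≫ (D.obj i₀).hom)
  let pr : P ⟶ D.obj i₀ := MorphismProperty.Over.homMk (pullback.fst (D.obj i₀).hom V.hom) rfl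
  let qr : P ⟶ (ProEtS.eps X).obj V := MorphismProperty.Over.homMk (pullback.snd (D.obj i₀).hom V.hom) pullback.condition.symm
  let γ : T ⟶ P := MorphismProperty.Over.homMk (pullback.lift π₀ (und a) hw₀) (by
    show pullback.lift π₀ (und a) hw₀ ≫ pullback.fst (D.obj i₀).hom V.hom ≫ (D.obj i₀).hom = T.hom
    rw [pullback.lift_fst_assoc, Category.assoc, und_w, und_w])
  have hγ₁ : γ ≫ pr = g ≫ c.π.app i₀ := hom_ext_und (pullback.lift_fst _ _ _)
  have hγ₂ : γ ≫ qr = a := hom_ext_und (pullback.lift_snd _ _ _)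
  obtain ⟨A₁, hA₁, hyA, -⟩ := exists_isAffineOpen_mem_and_subset (x := (und γ).base y) (U := ⊤) trivial
  let A := openObj P A₁
  haveI : IsAffine A.left := hA₁
  let p : A ⟶ D.obj i₀ := openι P A₁ ≫ pr
  let sA := shEl F A V (openι P A₁ ≫ qr) s
  let c' := bcCone c p
  haveI := isAffineHom_leg c hc i₀
  haveI : IsAffineHom (und (fibFst p (c.π.app i₀))) := isAffineHom_fibFst p (c.π.app i₀)
  haveI : IsAffine c'.pt.left := isAffine_of_isAffineHom (und (fibFst p (c.π.app i₀)))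
  let T₁ := openObj T ((und γ) ⁻¹ᵁ A₁)
  obtain ⟨γ₁, hγ₁'⟩ := exists_openLift (openι T ((und γ) ⁻¹ᵁ A₁) ≫ γ) A₁ fun z => z.2
  let Y := fibObj p (c.π.app i₀)
  let δ : T₁ ⟶ Y := fibLift p (c.π.app i₀) γ₁ (openι T _ ≫ g) (by
    rw [← Category.assoc, hγ₁', Category.assoc, hγ₁, Category.assoc])
  haveI : IsAffine Y.left := ‹IsAffine c'.pt.left›
  let t' : ProEtS.sectP (epsSh F) Y :=
    (epsSh F).obj.map (fibSnd p (c.π.app i₀)).op t - (epsSh F).obj.map (fibFst p (c.π.app i₀)).op sA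
  have hδ₁ : δ ≫ fibFst p (c.π.app i₀) = γ₁ := fibLift_fst _ _ _ _ _
  have hδ₂ : δ ≫ fibSnd p (c.π.app i₀) = openι T _ ≫ g := fibLift_snd _ _ _ _ _
  have hL : (epsSh F).obj.map δ.op ((epsSh F).obj.map (fibSnd p (c.π.app i₀)).op t) =
      shEl F T₁ V (openι T _ ≫ a) s := by
    refine (map_map _ δ t).trans ?_
    refine (congrArg (fun k : T₁ ⟶ c.pt => (epsSh F).obj.map k.op t) hδ₂).trans ?_
    rw [← map_map, ht, shEl_map]
  have hR : (epsSh F).obj.map δ.op ((epsSh F).obj.map (fibFst p (c.π.app i₀)).op sA) =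
      shEl F T₁ V (openι T _ ≫ a) s := by
    refine (map_map _ δ sA).trans ?_
    refine (congrArg (fun k : T₁ ⟶ A => (epsSh F).obj.map k.op sA) hδ₁).trans ?_
    rw [shEl_map, ← Category.assoc, hγ₁', Category.assoc, hγ₂]
  have h0 : (epsSh F).obj.map δ.op t' = 0 := by
    rw [map_sub, sub_eq_zero]
    exact hL.trans hR.symm
  obtain ⟨O, hzO, hO⟩ := exists_open_vanish F t' δ h0 ((und δ).base ⟨y, hyA⟩) ⟨_, rfl⟩
  have hc' := isLimitBcCone c p hc
  haveI : ∀ {j k : Over i₀} (e : j ⟶ k), IsAffineHom ((bcSys D p ⋙ undF X).map e) := fun e => isAffineHom_bcSys p e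
  obtain ⟨U', ⟨U'', ⟨j, B, hB, hU''⟩, rfl⟩, hzB, hBO⟩ :=
    (isBasis_preimage_isAffineOpen (bcSys D p ⋙ undF X) ((undF X).mapCone c') hc').exists_subset_of_mem_open
      hzO O.isOpen
  let Q := fibObj p (D.map j.hom)
  let E := openObj Q B
  let b₀ : openObj Q B ⟶ Q := openι Q B
  haveI : IsAffine E.left := hB
  haveI : Etale (pullback.fst (D.obj i₀).hom V.hom) := MorphismProperty.pullback_fst (P := EtCoh.etaleMP.{u}) _ _ ‹_›
  haveI : Etale (und p) := inferInstanceAs (Etale (A₁.ι ≫ pullback.fst (D.obj i₀).hom V.hom))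
  haveI : Etale (pullback.snd (und p) (und (D.map j.hom))) := MorphismProperty.pullback_snd (P := EtCoh.etaleMP.{u}) _ _ ‹_›
  haveI : Etale (und (b₀ ≫ fibSnd p (D.map j.hom))) :=
    inferInstanceAs (Etale (B.ι ≫ pullback.snd (und p) (und (D.map j.hom))))
  refine ⟨j.left, ⟨E, b₀ ≫ fibSnd p (D.map j.hom), (epsSh F).obj.map (b₀ ≫ fibFst p (D.map j.hom)).op sA,
    isQcqs_of_isAffine E, (und (b₀ ≫ fibSnd p (D.map j.hom))).isOpenMap.isOpen_range, ?_⟩, ?_⟩
  · intro T' a' b' h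
    rw [map_map]
    let φ : T' ⟶ Y := fibLift p (c.π.app i₀) (b' ≫ b₀ ≫ fibFst p (D.map j.hom)) a' (by
      simp only [Category.assoc, fib_condition]
      simp only [← Category.assoc] at h ⊢
      rw [← h, Category.assoc, c.w])
    have hφ₁ : φ ≫ fibFst p (c.π.app i₀) = b' ≫ b₀ ≫ fibFst p (D.map j.hom) := fibLift_fst _ _ _ _ _
    have hφ₂ : φ ≫ fibSnd p (c.π.app i₀) = a' := fibLift_snd _ _ _ _ _
    have hφ : φ ≫ c'.π.app j = b' ≫ b₀ := by
      apply fib_ext
      · rw [Category.assoc, Category.assoc]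
        exact (congrArg (φ ≫ ·) (bcCone_fst c p j)).trans hφ₁
      · rw [Category.assoc, Category.assoc]
        refine (congrArg (φ ≫ ·) (bcCone_snd c p j)).trans ?_
        rw [← Category.assoc]
        exact (congrArg (· ≫ c.π.app j.left) hφ₂).trans h
    obtain ⟨l, hl⟩ := exists_openLift φ O fun z => hBO (hU'' ▸ (by
      show (und (φ ≫ c'.π.app j)).base z ∈ B
      rw [hφ]
      exact ((und b').base z).2))
    have h1 : (epsSh F).obj.map φ.op t' = 0 := by
      rw [← hl, ← map_map, hO, map_zero]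
    rw [map_sub, sub_eq_zero] at h1
    refine (congrArg (fun k : T' ⟶ c.pt => (epsSh F).obj.map k.op t) hφ₂).symm.trans ?_
    refine ((map_map _ φ t).symm.trans h1).trans ((map_map _ φ sA).trans ?_)
    exact congrArg (fun k : T' ⟶ A => (epsSh F).obj.map k.op sA) hφ₁
  · rw [← hU''] at hzB
    refine ⟨⟨(und (c'.π.app j)).base ((und δ).base ⟨y, hyA⟩), hzB⟩, ?_⟩
    refine (congrArg (fun k : Y ⟶ D.obj j.left => (und k).base ((und δ).base ⟨y, hyA⟩)) (bcCone_snd c p j)).trans ?_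
    refine congrArg (und (c.π.app j.left)).base ?_
    exact (congrArg (fun k : T₁ ⟶ c.pt => (und k).base ⟨y, hyA⟩) hδ₂).trans hy

theorem Cand.range_res {t : ProEtS.sectP (epsSh F) c.pt} {j k : I} (K : Cand F c t j) (a : k ⟶ j) :
    Set.range (und (K.res F c a).e).base = (und (D.map a)).base ⁻¹' Set.range (und K.e).base :=
  Scheme.Pullback.range_snd (und K.e) (und (D.map a))

theorem isQcqs_fibObj {A B C : X.ProEt} (p : A ⟶ C) (q : B ⟶ C) (hA : IsQcqs A) (hB : IsQcqs B) (hC : IsQcqs C) :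
    IsQcqs (fibObj p q) := by
  haveI := hA.compact
  haveI := hA.qs
  haveI := hB.compact
  haveI := hB.qs
  haveI := hC.qs
  haveI : QuasiCompact (und q) := quasiCompact_of_compactSpace _
  haveI : QuasiSeparated (und q) := inferInstance
  haveI : QuasiCompact (pullback.fst (und p) (und q)) := MorphismProperty.pullback_fst (P := @QuasiCompact) _ _ ‹_›
  haveI : QuasiSeparated (pullback.fst (und p) (und q)) := MorphismProperty.pullback_fst (P := @QuasiSeparated) _ _ ‹_›
  exact ⟨QuasiCompact.compactSpace_of_compactSpace (pullback.fst (und p) (und q)),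
    quasiSeparatedSpace_of_quasiSeparated (pullback.fst (und p) (und q))⟩

include hD hc in
theorem exists_level_eq_zero_bc {i : I} {R : X.ProEt} (r : R ⟶ D.obj i) (hR : IsQcqs R)
    (τ : ProEtS.sectP (epsSh F) R) (h : (epsSh F).obj.map (fibFst r (c.π.app i)).op τ = 0) :
    ∃ (k : I) (a : k ⟶ i), (epsSh F).obj.map (fibFst r (D.map a)).op τ = 0 := by
  haveI : ∀ (j k : Over i) (e : j ⟶ k), IsAffineHom (und ((bcSys D r).map e)) := fun j k e => isAffineHom_bcSys r e
  obtain ⟨j, a, ha⟩ := exists_level_eq_zero F (fun j => isQcqs_bcSys r hR j) (bcCone c r) (isLimitBcCone c r hc)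
    (Over.mk (𝟙 i)) ((epsSh F).obj.map (fibFst r (D.map (Over.mk (𝟙 i)).hom)).op τ) (by
      refine (map_map _ _ τ).trans ?_
      exact (congrArg (fun k : _ ⟶ R => (epsSh F).obj.map k.op τ) (bcCone_fst c r (Over.mk (𝟙 i)))).trans h)
  refine ⟨j.left, j.hom, ?_⟩
  have e : (bcSys D r).map a ≫ fibFst r (D.map (Over.mk (𝟙 i)).hom) = fibFst r (D.map j.hom) := by
    simp [bcSys, fibLift_fst]
  refine (congrArg (fun k : _ ⟶ R => (epsSh F).obj.map k.op τ) e).symm.trans ?_
  exact (map_map _ _ τ).symm.trans ha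

include hD hc in
theorem exists_level_lift (t : ProEtS.sectP (epsSh F) c.pt) :
    ∃ (i : I) (x : ProEtS.sectP (epsSh F) (D.obj i)), (epsSh F).obj.map (c.π.app i).op x = t := by
  classical
  choose jw K hK using exists_cand F hD c hc t
  haveI : ∀ {i j : I} (a : i ⟶ j), IsAffineHom ((D ⋙ undF X).map a) := fun a => ‹∀ (i j : I) (a : i ⟶ j), IsAffineHom (und (D.map a))› _ _ a
  haveI : ∀ i, CompactSpace ↥((D ⋙ undF X).obj i) := fun i => (hD i).compact
  haveI : CompactSpace ↥c.pt.left := Scheme.compactSpace_of_isLimit (D ⋙ undF X) ((undF X).mapCone c) hc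
  obtain ⟨s, hs⟩ := isCompact_univ.elim_finite_subcover
    (fun w => (und (c.π.app (jw w))).base ⁻¹' Set.range (und (K w).e).base)
    (fun w => (K w).isOpen.preimage (und (c.π.app (jw w))).continuous) fun w _ => Set.mem_iUnion.2 ⟨w, by exact hK w⟩
  obtain ⟨j₀, hj₀⟩ := IsCofiltered.inf_objs_exists (s.image jw)
  have hj : ∀ k : ↥s, Nonempty (j₀ ⟶ jw k.1) := fun k => hj₀ (Finset.mem_image_of_mem jw k.2)
  let a₀ : ∀ k : ↥s, j₀ ⟶ jw k.1 := fun k => (hj k).some
  let K₀ : ∀ k : ↥s, Cand F c t j₀ := fun k => (K k.1).res F c (a₀ k)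
  obtain ⟨k₁, b₁, hb₁⟩ := exists_map_top hD c hc
    ⟨⋃ k, Set.range (und (K₀ k).e).base, isOpen_iUnion fun k => (K₀ k).isOpen⟩ fun w => by
      obtain ⟨v, hv, hwv⟩ := Set.mem_iUnion₂.1 (hs (Set.mem_univ w))
      refine Set.mem_iUnion.2 ⟨⟨v, hv⟩, ?_⟩
      show _ ∈ Set.range (und ((K v).res F c (a₀ ⟨v, hv⟩)).e).base
      rw [Cand.range_res]
      rw [Set.mem_preimage]
      rw [show (und (D.map (a₀ ⟨v, hv⟩))).base ((und (c.π.app j₀)).base w) = (und (c.π.app (jw v))).base w from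
        congrArg (fun m : c.pt ⟶ D.obj (jw v) => (und m).base w) (c.w (a₀ ⟨v, hv⟩))]
      exact hwv
  let K₁ : ∀ k : ↥s, Cand F c t k₁ := fun k => (K₀ k).res F c b₁
  let R : ↥s × ↥s → X.ProEt := fun q => fibObj (K₁ q.1).e (K₁ q.2).e
  let r : ∀ q, R q ⟶ D.obj k₁ := fun q => fibFst (K₁ q.1).e (K₁ q.2).e ≫ (K₁ q.1).e
  let τ : ∀ q, ProEtS.sectP (epsSh F) (R q) := fun q =>
    (epsSh F).obj.map (fibFst (K₁ q.1).e (K₁ q.2).e).op (K₁ q.1).s -
      (epsSh F).obj.map (fibSnd (K₁ q.1).e (K₁ q.2).e).op (K₁ q.2).s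
  have hτ : ∀ q, ∃ (m : I) (a : m ⟶ k₁), (epsSh F).obj.map (fibFst (r q) (D.map a)).op (τ q) = 0 := fun q => by
    refine exists_level_eq_zero_bc F hD c hc (r q) (isQcqs_fibObj _ _ (K₁ q.1).qcqs (K₁ q.2).qcqs (hD k₁)) _ ?_
    rw [map_sub, map_map, map_map, sub_eq_zero,
      ← (K₁ q.1).compat (fibObj (r q) (c.π.app k₁)) (fibSnd (r q) (c.π.app k₁))
        (fibFst (r q) (c.π.app k₁) ≫ fibFst (K₁ q.1).e (K₁ q.2).e)
        (by rw [← fib_condition (r q) (c.π.app k₁), Category.assoc]),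
      ← (K₁ q.2).compat (fibObj (r q) (c.π.app k₁)) (fibSnd (r q) (c.π.app k₁))
        (fibFst (r q) (c.π.app k₁) ≫ fibSnd (K₁ q.1).e (K₁ q.2).e)
        (by rw [← fib_condition (r q) (c.π.app k₁), Category.assoc, ← fib_condition (K₁ q.1).e (K₁ q.2).e])]
  have hall : ∀ S : Finset (↥s × ↥s), ∃ (m : I) (a : m ⟶ k₁), ∀ q ∈ S,
      (epsSh F).obj.map (fibFst (r q) (D.map a)).op (τ q) = 0 := by
    intro S
    induction S using Finset.induction with
    | empty => exact ⟨k₁, 𝟙 _, fun q hq => absurd hq (Finset.notMem_empty q)⟩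
    | insert q S _ ih =>
      obtain ⟨m₂, a₂, h₂⟩ := ih
      obtain ⟨m₁, a₁, h₁⟩ := hτ q
      obtain ⟨m, f, g, hfg⟩ := IsCofiltered.cospan a₁ a₂
      have mono : ∀ (q' : ↥s × ↥s) {m' : I} (a' : m' ⟶ k₁) (f' : m ⟶ m') (_ : f' ≫ a' = f ≫ a₁),
          (epsSh F).obj.map (fibFst (r q') (D.map a')).op (τ q') = 0 →
          (epsSh F).obj.map (fibFst (r q') (D.map (f ≫ a₁))).op (τ q') = 0 := fun q' m' a' f' hf' h0 => by
        rw [← fibLift_fst (r q') (D.map a') (fibFst (r q') (D.map (f ≫ a₁))) (fibSnd (r q') (D.map (f ≫ a₁)) ≫ D.map f')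
          (by rw [fib_condition, Category.assoc, ← D.map_comp, hf']), ← map_map, h0, map_zero]
      refine ⟨m, f ≫ a₁, fun q' hq' => ?_⟩
      rcases Finset.mem_insert.1 hq' with rfl | hq'
      · exact mono q' a₁ f rfl h₁
      · exact mono q' a₂ g hfg.symm (h₂ q' hq')
  obtain ⟨m, a, hm⟩ := hall Finset.univ
  let K₂ : ∀ k : ↥s, Cand F c t m := fun k => (K₁ k).res F c a
  let Z : ULift.{u} (Fin s.card) → X.ProEt := fun l => (K₂ (s.equivFin.symm l.down)).E
  let g : ∀ l, Z l ⟶ D.obj m := fun l => (K₂ (s.equivFin.symm l.down)).e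
  have hqc : ∀ l, QuasiCompact (und (g l)) := fun l => by
    haveI := (K₂ (s.equivFin.symm l.down)).qcqs.compact
    haveI := (hD m).qs
    exact quasiCompact_of_compactSpace _
  have hsurj : ∀ z : ↥(D.obj m).left, ∃ l y, (und (g l)).base y = z := fun z => by
    obtain ⟨k, hk⟩ := Set.mem_iUnion.1 (hb₁ ((und (D.map a)).base z))
    have hz : z ∈ Set.range (und (K₂ k).e).base := by
      rw [Cand.range_res]
      rw [Set.mem_preimage, Cand.range_res]
      exact hk
    obtain ⟨l, hl⟩ : ∃ l : ULift.{u} (Fin s.card), s.equivFin.symm l.down = k :=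
      ⟨⟨s.equivFin k⟩, Equiv.symm_apply_apply _ _⟩
    subst hl
    exact ⟨l, hz⟩
  have hmem := finite_family_mem Z g hqc hsurj
  have hsh : (Presieve.ofArrows Z g).IsSheafFor ((sheafCompose _ (forget AddCommGrpCat.{u + 1})).obj (epsSh F)).obj := by
    rw [Presieve.isSheafFor_iff_generate]
    exact ((isSheaf_iff_isSheaf_of_type _ _).1 ((sheafCompose _ (forget AddCommGrpCat.{u + 1})).obj (epsSh F)).property) _ hmem
  obtain ⟨x, hx, -⟩ := (Presieve.isSheafFor_arrows_iff _ _).1 hsh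
    (fun l => (K₂ (s.equivFin.symm l.down)).s) fun l l' P gi gj hgij => by
      let k := s.equivFin.symm l.down
      let k' := s.equivFin.symm l'.down
      let pi : P ⟶ (K₁ k).E := gi ≫ fibFst (K₁ k).e (D.map a)
      let pj : P ⟶ (K₁ k').E := gj ≫ fibFst (K₁ k').e (D.map a)
      have hh : gi ≫ fibSnd (K₁ k).e (D.map a) = gj ≫ fibSnd (K₁ k').e (D.map a) := hgij
      have hij : pi ≫ (K₁ k).e = pj ≫ (K₁ k').e := by
        simp only [pi, pj, Category.assoc, fib_condition]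
        rw [← Category.assoc, hh, Category.assoc]
      let φ := fibLift (r (k, k')) (D.map a) (fibLift _ _ pi pj hij) (gi ≫ fibSnd (K₁ k).e (D.map a)) (by
        simp only [r, Category.assoc, fibLift_fst_assoc]
        simp only [pi, Category.assoc, fib_condition])
      have h0 : (epsSh F).obj.map φ.op ((epsSh F).obj.map (fibFst (r (k, k')) (D.map a)).op (τ (k, k'))) = 0 := by
        rw [hm _ (Finset.mem_univ _), map_zero]
      rw [map_map, fibLift_fst, map_sub, map_map, map_map, fibLift_fst, fibLift_snd, sub_eq_zero] at h0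
      exact (map_map _ gi (K₁ k).s).trans (h0.trans (map_map _ gj (K₁ k').s).symm)
  refine ⟨m, x, sect_ext (epsSh F) _ ((Scheme.ProEt.topology X).pullback_stable (c.π.app m) hmem) _ _ fun P q hq => ?_⟩
  obtain ⟨l, p, hp⟩ := (Sieve.mem_ofArrows_iff _ _ _).1 hq
  refine (map_map _ q x).trans ?_
  refine (congrArg (fun k : P ⟶ D.obj m => (epsSh F).obj.map k.op x) hp).trans ?_
  rw [← map_map]
  refine (congrArg ((epsSh F).obj.map p.op) (hx l)).trans ?_
  exact ((K₂ (s.equivFin.symm l.down)).compat P q p hp).symm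

end Groth.Agent.EpsLib
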