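import Groth.Agent.EpsLib.ConstOn
import Groth.Agent.EpsLib.ModImage
import Groth.Agent.EpsLib.PushApprox
import Groth.Agent.EpsLib.Acyclic
import Groth.Agent.WCSiteLib.GeomLift

/-! Sheaves of modules whose sections commute with cofiltered limits of quasi-compact quasi-separated objects. -/

set_option autoImplicit false
set_option linter.style.haveILetI false
set_option backward.isDefEq.respectTransparency false
set_option synthInstance.maxHeartbeats 400000
set_option maxHeartbeats 1000000
universe u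

open CategoryTheory CategoryTheory.Limits AlgebraicGeometry Opposite

namespace Groth.Agent.EpsLib

open ProEtPtsLib WCSiteLib CO

variable {Λ : Type (u + 1)} [CommRing Λ] {X : Scheme.{u}}

/-- A cofiltered system of quasi-compact quasi-separated objects with affine transition maps and its limit. -/
structure Sys (T : X.ProEt) where
  /-- The index category. -/
  I : Type u
  /-- Its category structure. -/
  [cat : SmallCategory I]
  [cofiltered : IsCofiltered I]
  /-- The system. -/
  D : I ⥤ X.ProEt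
  qcqs : ∀ i, IsQcqs (D.obj i)
  affineHom : ∀ (i j : I) (a : i ⟶ j), IsAffineHom (und (D.map a))
  /-- The legs. -/
  π : (Functor.const I).obj T ⟶ D
  /-- It is a limit of schemes. -/
  isLimit : IsLimit ((undF X).mapCone (Cone.mk T π))

attribute [instance] Sys.cat Sys.cofiltered

theorem Sys.w {T : X.ProEt} (S : Sys T) {i j : S.I} (a : i ⟶ j) : S.π.app i ≫ S.D.map a = S.π.app j :=
  (S.π.naturality a).symm.trans (Category.id_comp _)

/-- An approximation as a system. -/
noncomputable def GApprox.toSys {T : X.ProEt} (Φ : GApprox T) : Sys T where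
  I := Φ.I
  D := Φ.D ⋙ ProEtS.eps X
  qcqs := Φ.qcqs
  affineHom := Φ.affineHom
  π := Φ.π
  isLimit := Φ.isLimit

/-- An affine approximation as a system. -/
noncomputable abbrev Approx.toSys {T : X.ProEt} (Φ : Approx T) : Sys T where
  I := Φ.I
  D := Φ.D ⋙ ProEtS.eps X
  qcqs := Φ.toGApprox.qcqs
  affineHom := Φ.toGApprox.affineHom
  π := Φ.π
  isLimit := Φ.isLimit

section Pull

variable {T : X.ProEt} (S : Sys T) (i : S.I) {Y : X.ProEt} (y : Y ⟶ S.D.obj i)

/-- The base change system. -/
noncomputable abbrev pullD : Over i ⥤ X.ProEt where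
  obj j := pullback (S.D.map j.hom) y
  map {j k} a := pullback.map _ _ _ _ (S.D.map a.left) (𝟙 _) (𝟙 _)
    (by rw [Category.comp_id, ← S.D.map_comp, Over.w a]) (by simp)
  map_id j := by apply pullback.hom_ext <;> simp
  map_comp a b := by apply pullback.hom_ext <;> simp

theorem pull_isPullback {j k : Over i} (a : j ⟶ k) :
    IsPullback ((pullD S i y).map a) (pullback.fst (S.D.map j.hom) y) (pullback.fst (S.D.map k.hom) y) (S.D.map a.left) := by
  refine IsPullback.of_right (h₁₂ := pullback.snd (S.D.map k.hom) y) (h₂₂ := S.D.map k.hom) (v₁₃ := y) ?_ ?_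
    (IsPullback.of_hasPullback (S.D.map k.hom) y).flip
  · rw [show (pullD S i y).map a ≫ pullback.snd (S.D.map k.hom) y = pullback.snd (S.D.map j.hom) y by simp [pullD],
      show S.D.map a.left ≫ S.D.map k.hom = S.D.map j.hom by rw [← S.D.map_comp, Over.w a]]
    exact (IsPullback.of_hasPullback (S.D.map j.hom) y).flip
  · simp [pullD]

/-- The legs of the base change system. -/
noncomputable def pullπ : (Functor.const (Over i)).obj (pullback (S.π.app i) y) ⟶ pullD S i y where
  app j := pullback.lift (pullback.fst _ _ ≫ S.π.app j.left) (pullback.snd _ _)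
    (by rw [Category.assoc, S.w]; exact pullback.condition)
  naturality j k a := by
    apply pullback.hom_ext
    · simp [pullD, S.w]
    · simp [pullD]

/-- The base change of a system along a map from a quasi-compact quasi-separated object to a level. -/
noncomputable abbrev pullSys (hY : IsQcqs Y) : Sys (pullback (S.π.app i) y) where
  I := Over i
  D := pullD S i y
  qcqs j := by
    haveI := S.affineHom _ _ j.hom
    have hp := ((IsPullback.of_hasPullback (S.D.map j.hom) y).map (undF X))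
    haveI : IsAffineHom (und (pullback.snd (S.D.map j.hom) y)) := MorphismProperty.of_isPullback (P := @IsAffineHom) hp ‹_›
    haveI h1 := hY.1
    haveI h2 := hY.2
    exact ⟨QuasiCompact.compactSpace_of_compactSpace (und (pullback.snd (S.D.map j.hom) y)),
      quasiSeparatedSpace_of_quasiSeparated (und (pullback.snd (S.D.map j.hom) y))⟩
  affineHom j k a := by
    haveI := S.affineHom _ _ a.left
    exact MorphismProperty.of_isPullback (P := @IsAffineHom) ((pull_isPullback S i y a).map (undF X)).flip ‹_›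
  π := pullπ S i y
  isLimit := by
    haveI : IsConnected (Over i) := IsCofiltered.isConnected _
    refine isLimitOfIsPullbackOfIsConnected
      ({ app := fun j => und (pullback.fst (S.D.map j.hom) y)
         naturality := fun j k a => ((pull_isPullback S i y a).map (undF X)).w } :
        pullD S i y ⋙ undF X ⟶ (Over.forget i ⋙ S.D) ⋙ undF X) _ _
      ({ hom := und (pullback.fst (S.π.app i) y)
         w := fun j => ?_ } : _ ⟶ (undF X).mapCone (Cone.mk T (Functor.whiskerLeft (Over.forget i) S.π)))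
      (fun j => ?_) ((Functor.Initial.isLimitWhiskerEquiv (Over.forget i) ((undF X).mapCone (Cone.mk T S.π))).symm S.isLimit)
    · show und (pullback.fst (S.π.app i) y) ≫ und (S.π.app j.left) =
        (und ((pullπ S i y).app j) ≫ 𝟙 _) ≫ und (pullback.fst (S.D.map j.hom) y)
      rw [Category.comp_id]
      show (undF X).map _ ≫ (undF X).map _ = (undF X).map _ ≫ (undF X).map _
      rw [← Functor.map_comp, ← Functor.map_comp]
      exact congrArg (undF X).map (pullback.lift_fst _ _ _).symm
    · show IsPullback (und ((pullπ S i y).app j) ≫ 𝟙 _) (und (pullback.fst (S.π.app i) y))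
        (und (pullback.fst (S.D.map j.hom) y)) (und (S.π.app j.left))
      rw [Category.comp_id]
      refine IsPullback.map (undF X) ?_
      refine IsPullback.of_right (h₁₂ := pullback.snd (S.D.map j.hom) y) (h₂₂ := S.D.map j.hom) (v₁₃ := y) ?_ ?_
        (IsPullback.of_hasPullback (S.D.map j.hom) y).flip
      · rw [show (pullπ S i y).app j ≫ pullback.snd (S.D.map j.hom) y = pullback.snd (S.π.app i) y from pullback.lift_snd _ _ _,
          S.w]
        exact (IsPullback.of_hasPullback (S.π.app i) y).flip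
      · exact pullback.lift_fst _ _ _

end Pull

/-- Sections commute with cofiltered limits of quasi-compact quasi-separated objects. -/
def SysCont (G : EtModW.ModP Λ X) : Prop := ∀ (T : X.ProEt) (S : Sys T),
  (∀ (i : S.I) (t : G.obj.obj (op (S.D.obj i))), res G (S.π.app i) t = 0 → ∃ (j : S.I) (a : j ⟶ i), res G (S.D.map a) t = 0) ∧
  (∀ t : G.obj.obj (op T), ∃ (i : S.I) (x : G.obj.obj (op (S.D.obj i))), res G (S.π.app i) x = t)

theorem sysCont_epsPullMod [ProEtS.EpsCont X] (E : EtModW.Mod Λ X) : SysCont ((EtModW.epsPullMod Λ X).obj E) := by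
  intro T S
  haveI := S.affineHom
  haveI := isIso_cmp Λ X E
  let F := (sheafCompose X.smallEtaleTopology (UF Λ)).obj E
  let G := (EtModW.epsPullMod Λ X).obj E
  let e : ∀ V : X.ProEt, ProEtS.sectP ((ProEtS.epsPull X).obj F) V ≃+
      ((sheafCompose (Scheme.ProEt.topology X) (UF Λ)).obj G).obj.obj (op V) := fun V =>
    (((sheafToPresheaf _ _).mapIso (asIso (cmp Λ X E))).app (op V)).addCommGroupIsoToAddEquiv
  have he : ∀ {U V : X.ProEt} (a : V ⟶ U) x, e V (((ProEtS.epsPull X).obj F).obj.map a.op x) = res G a (e U x) :=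
    fun a x => ConcreteCategory.congr_hom ((cmp Λ X E).hom.naturality a.op) x
  refine ⟨fun i t ht => ?_, fun t => ?_⟩
  · obtain ⟨x, rfl⟩ := (e _).surjective t
    rw [← he] at ht
    obtain ⟨j, a, ha⟩ := pull_exists_level_eq_zero F S.qcqs (Cone.mk T S.π) S.isLimit i x
      ((e T).injective (ht.trans (map_zero (e T)).symm))
    exact ⟨j, a, by rw [← he]; exact (congrArg (e _) ha).trans (map_zero _)⟩
  · obtain ⟨x, rfl⟩ := (e T).surjective t
    obtain ⟨i, x', hx⟩ := pull_exists_level_lift F (D := S.D) S.qcqs (Cone.mk T S.π) S.isLimit x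
    exact ⟨i, e _ x', by rw [← he]; exact congrArg (e T) hx⟩

theorem SysCont.of_iso {G H : EtModW.ModP Λ X} (e : G ≅ H) (hH : SysCont H) : SysCont G := by
  intro T S
  obtain ⟨h1, h2⟩ := hH T S
  have hn : ∀ {U V : X.ProEt} (a : V ⟶ U) (x : G.obj.obj (op U)),
      (e.hom.hom.app (op V)).hom (res G a x) = res H a ((e.hom.hom.app (op U)).hom x) := fun a x =>
    congrArg (fun t => t.hom x) (e.hom.hom.naturality a.op)
  have hn' : ∀ {U V : X.ProEt} (a : V ⟶ U) (x : H.obj.obj (op U)),
      (e.inv.hom.app (op V)).hom (res H a x) = res G a ((e.inv.hom.app (op U)).hom x) := fun a x =>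
    congrArg (fun t => t.hom x) (e.inv.hom.naturality a.op)
  have hl : ∀ {U : X.ProEt} (x : G.obj.obj (op U)), (e.inv.hom.app (op U)).hom ((e.hom.hom.app (op U)).hom x) = x :=
    fun {U} x => congrArg (fun t : G ⟶ G => (t.hom.app (op U)).hom x) e.hom_inv_id
  refine ⟨fun i t ht => ?_, fun t => ?_⟩
  · obtain ⟨j, a, ha⟩ := h1 i ((e.hom.hom.app _).hom t) (by rw [← hn, ht, map_zero])
    refine ⟨j, a, ?_⟩
    rw [← hn] at ha
    rw [← hl (res G (S.D.map a) t), ha, map_zero]
  · obtain ⟨i, x, hx⟩ := h2 ((e.hom.hom.app _).hom t)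
    exact ⟨i, (e.inv.hom.app _).hom x, by rw [← hn', hx]; exact hl t⟩

theorem exists_finite_affine_cover {Q : X.ProEt} [CompactSpace ↥Q.left] (R : Sieve Q)
    (hR : R ∈ Scheme.ProEt.topology X Q) : ∃ (n : ℕ) (Y : Fin n → X.ProEt) (y : ∀ k, Y k ⟶ Q),
      (∀ k, IsAffine (Y k).left) ∧ (∀ k, R.arrows (y k)) ∧ Sieve.ofArrows Y y ∈ Scheme.ProEt.topology X Q := by
  obtain ⟨V, g, hg, hV, -⟩ := exists_affine_wc_cover Q
  obtain ⟨n, Z, z, hZ, hzR, hzm, -⟩ := exists_finite_affine' (R.pullback g) ((Scheme.ProEt.topology X).pullback_stable g hR)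
  refine ⟨n, Z, fun k => z k ≫ g, hZ, hzR, (Scheme.ProEt.topology X).transitive hg _ ?_⟩
  rintro P _ ⟨_, a, _, ⟨⟩, rfl⟩
  rw [Sieve.pullback_comp]
  refine (Scheme.ProEt.topology X).pullback_stable a (GrothendieckTopology.superset_covering _ ?_ hzm)
  rw [Sieve.generate_le_iff]
  rintro _ _ ⟨k⟩
  exact ⟨Z k, 𝟙 _, _, ⟨k⟩, Category.id_comp _⟩

theorem pullback_family_mem {Q Q' : X.ProEt} (a : Q' ⟶ Q) {n : ℕ} {Y : Fin n → X.ProEt} (y : ∀ k, Y k ⟶ Q)
    (h : Sieve.ofArrows Y y ∈ Scheme.ProEt.topology X Q) :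
    Sieve.ofArrows (fun k => pullback a (y k)) (fun k => pullback.fst a (y k)) ∈ Scheme.ProEt.topology X Q' := by
  refine GrothendieckTopology.superset_covering _ ?_ ((Scheme.ProEt.topology X).pullback_stable a h)
  rintro P p ⟨_, q, _, ⟨k⟩, hq⟩
  exact ⟨_, pullback.lift p q hq.symm, _, ⟨k⟩, pullback.lift_fst _ _ _⟩

theorem exists_common_level {T : X.ProEt} (S : Sys T) (i : S.I) {n : ℕ} (j : Fin n → Over i) :
    ∃ j₀ : Over i, ∀ k, Nonempty (j₀ ⟶ j k) := by
  classical
  obtain ⟨j₀, hj₀⟩ := IsCofiltered.inf_objs_exists (Finset.univ.image j)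
  exact ⟨j₀, fun k => hj₀ (Finset.mem_image_of_mem _ (Finset.mem_univ k))⟩

/-- `G` is locally isomorphic to sheaves with continuous sections. -/
def LocSysCont (G : EtModW.ModP Λ X) : Prop := ∃ (ι : Type u) (U : ι → X.ProEt), EtModW.CoversP U ∧
  ∀ k, ∃ H : EtModW.ModP Λ X, SysCont H ∧ Nonempty (G.over (U k) ≅ H.over (U k))

theorem exists_good_cover {G : EtModW.ModP Λ X} (hG : LocSysCont G) (Q : X.ProEt) [CompactSpace ↥Q.left] :
    ∃ (n : ℕ) (Y : Fin n → X.ProEt) (y : ∀ k, Y k ⟶ Q),
      (∀ k, IsAffine (Y k).left) ∧ Sieve.ofArrows Y y ∈ Scheme.ProEt.topology X Q ∧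
      ∀ k, ∃ (U : X.ProEt) (_ : Y k ⟶ U) (H : EtModW.ModP Λ X), SysCont H ∧ Nonempty (G.over U ≅ H.over U) := by
  obtain ⟨ι, U, hU, hH⟩ := hG
  obtain ⟨n, Y, y, hY, hyR, hym⟩ := exists_finite_affine_cover _ ((Scheme.ProEt.topology X).pullback_stable
    ((MorphismProperty.Over.mkIdTerminal (P := @WeaklyEtale) X).from Q : Q ⟶ ProEtS.topP X) hU)
  refine ⟨n, Y, y, hY, hym, fun k => ?_⟩
  obtain ⟨_, q, _, ⟨i⟩, -⟩ := hyR k
  exact ⟨U i, q, hH i⟩

section Local

variable {G H : EtModW.ModP Λ X} {U : X.ProEt}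

theorem ovApp_inv (e : G.over U ≅ H.over U) {V : X.ProEt} (b : V ⟶ U) (x : G.obj.obj (op V)) :
    ovApp e.inv b (ovApp e.hom b x) = x :=
  congrArg (fun t : G.over U ⟶ G.over U => (t.hom.app (op (Over.mk b))).hom x) e.hom_inv_id

theorem ovApp_hom (e : G.over U ≅ H.over U) {V : X.ProEt} (b : V ⟶ U) (x : H.obj.obj (op V)) :
    ovApp e.hom b (ovApp e.inv b x) = x :=
  congrArg (fun t : H.over U ⟶ H.over U => (t.hom.app (op (Over.mk b))).hom x) e.inv_hom_id

theorem eq_zero_over (hH : SysCont H) (e : G.over U ≅ H.over U) {T : X.ProEt} (S : Sys T) (b : ∀ j, S.D.obj j ⟶ U)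
    (hb : ∀ {j k : S.I} (a : j ⟶ k), S.D.map a ≫ b k = b j) (i : S.I) (t : G.obj.obj (op (S.D.obj i)))
    (ht : res G (S.π.app i) t = 0) : ∃ (j : S.I) (a : j ⟶ i), res G (S.D.map a) t = 0 := by
  obtain ⟨j, a, ha⟩ := (hH T S).1 i (ovApp e.hom (b i) t) (by rw [res_ovApp, ht, map_zero])
  refine ⟨j, a, ?_⟩
  rw [res_ovApp, hb] at ha
  rw [← ovApp_inv e (b j) (res G (S.D.map a) t), ha, map_zero]

theorem lift_over (hH : SysCont H) (e : G.over U ≅ H.over U) {T : X.ProEt} (S : Sys T) (b : ∀ j, S.D.obj j ⟶ U)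
    (b₀ : T ⟶ U) (hb : ∀ j, S.π.app j ≫ b j = b₀) (t : G.obj.obj (op T)) :
    ∃ (i : S.I) (x : G.obj.obj (op (S.D.obj i))), res G (S.π.app i) x = t := by
  obtain ⟨i, x, hx⟩ := (hH T S).2 (ovApp e.hom b₀ t)
  exact ⟨i, ovApp e.inv (b i) x, by rw [res_ovApp, hb, hx]; exact ovApp_inv e b₀ t⟩

end Local

theorem sysCont_of_local {G : EtModW.ModP Λ X} (hG : LocSysCont G) : SysCont G := by
  classical
  have key : ∀ (T : X.ProEt) (S : Sys T) (i : S.I) (t : G.obj.obj (op (S.D.obj i))),
      res G (S.π.app i) t = 0 → ∃ (j : S.I) (a : j ⟶ i), res G (S.D.map a) t = 0 := by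
    intro T S i t ht
    haveI := (S.qcqs i).1
    obtain ⟨n, Y, y, hY, hym, hloc⟩ := exists_good_cover hG (S.D.obj i)
    choose U q H hH e using hloc
    let P := fun k => pullSys S i (y k) (haveI := hY k; isQcqs_of_isAffine _)
    let o : Over i := Over.mk (𝟙 i)
    choose j a ha using fun k => eq_zero_over (hH k) (e k).some (P k)
      (fun j => pullback.snd (S.D.map j.hom) (y k) ≫ q k)
      (fun {j j'} a => by
        show (pullD S i (y k)).map a ≫ _ = _
        rw [← Category.assoc]
        simp [pullD])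
      o (res G (pullback.fst (S.D.map o.hom) (y k) ≫ S.D.map o.hom) t) (by
        show res G ((pullπ S i (y k)).app o) (res G _ t) = 0
        rw [res_res]
        have : (pullπ S i (y k)).app o ≫ pullback.fst (S.D.map o.hom) (y k) ≫ S.D.map o.hom =
            pullback.fst (S.π.app i) (y k) ≫ S.π.app i := by
          rw [← Category.assoc, show (pullπ S i (y k)).app o ≫ pullback.fst (S.D.map o.hom) (y k) = _ from pullback.lift_fst _ _ _,
            Category.assoc]
          exact congrArg (_ ≫ ·) (S.w o.hom)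
        show res G ((pullπ S i (y k)).app o ≫ pullback.fst (S.D.map o.hom) (y k) ≫ S.D.map o.hom) t = 0
        rw [this, ← res_res, ht, map_zero])
    obtain ⟨j₀, hj₀⟩ := exists_common_level S i j
    refine ⟨j₀.left, j₀.hom, sep_ext G (pullback_family_mem (S.D.map j₀.hom) y hym) fun Z p hp => ?_⟩
    obtain ⟨_, p', _, ⟨k⟩, rfl⟩ := hp
    rw [map_zero, res_res, Category.assoc]
    obtain ⟨c⟩ := hj₀ k
    have hm : pullback.fst (S.D.map j₀.hom) (y k) ≫ S.D.map j₀.hom =
        (pullD S i (y k)).map (c ≫ a k) ≫ pullback.fst (S.D.map o.hom) (y k) ≫ S.D.map o.hom := by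
      rw [← Category.assoc ((pullD S i (y k)).map (c ≫ a k)), (pull_isPullback S i (y k) (c ≫ a k)).w, Category.assoc,
        ← S.D.map_comp]
      exact congrArg (fun t => pullback.fst (S.D.map j₀.hom) (y k) ≫ S.D.map t) (Over.w (c ≫ a k)).symm
    rw [hm, Functor.map_comp, Category.assoc, ← res_res, ← res_res]
    exact (congrArg (res G p') ((congrArg (res G ((pullD S i (y k)).map c)) ((res_res G _ _ t).symm.trans (ha k))).trans
      (map_zero _))).trans (map_zero _)
  intro T S
  refine ⟨key T S, fun t => ?_⟩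
  obtain ⟨i⟩ := IsCofiltered.nonempty (C := S.I)
  haveI := (S.qcqs i).1
  obtain ⟨n, Y, y, hY, hym, hloc⟩ := exists_good_cover hG (S.D.obj i)
  choose U q H hH e using hloc
  have hYq : ∀ k, IsQcqs (Y k) := fun k => haveI := hY k; isQcqs_of_isAffine _
  let P := fun k => pullSys S i (y k) (hYq k)
  choose j x hx using fun k => lift_over (hH k) (e k).some (P k)
    (fun j => pullback.snd (S.D.map j.hom) (y k) ≫ q k) (pullback.snd (S.π.app i) (y k) ≫ q k)
    (fun j => by
      show (pullπ S i (y k)).app j ≫ _ = _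
      rw [← Category.assoc]
      exact congrArg (· ≫ q k) (pullback.lift_snd _ _ _))
    (res G (pullback.fst (S.π.app i) (y k)) t)
  obtain ⟨j₀, hj₀⟩ := exists_common_level S i j
  let c := fun k => (hj₀ k).some
  obtain ⟨x', hx'e⟩ : ∃ x' : ∀ k, G.obj.obj (op (pullback (S.D.map j₀.hom) (y k))),
      ∀ k, x' k = res G ((pullD S i (y k)).map (c k)) (x k) := ⟨_, fun k => rfl⟩
  have hx' : ∀ k, res G ((pullπ S i (y k)).app j₀) (x' k) = res G (pullback.fst (S.π.app i) (y k)) t := fun k => by
    rw [← hx k, hx'e]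
    show res G _ (res G _ (x k)) = res G ((pullπ S i (y k)).app (j k)) (x k)
    rw [res_res]
    exact congrArg (fun m => res G m (x k)) (((pullπ S i (y k)).naturality (c k)).symm.trans (Category.id_comp _))
  -- the double overlaps
  have hovl : ∀ k l : Fin n, ∃ (i' : S.I) (a : i' ⟶ j₀.left), ∀ {i'' : S.I} (b : i'' ⟶ i') (Z : X.ProEt)
      (z : Z ⟶ S.D.obj i'') (α : Z ⟶ pullback (S.D.map j₀.hom) (y k)) (β : Z ⟶ pullback (S.D.map j₀.hom) (y l)),
      α ≫ pullback.fst _ _ = z ≫ S.D.map (b ≫ a) → β ≫ pullback.fst _ _ = z ≫ S.D.map (b ≫ a) →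
      res G α (x' k) = res G β (x' l) := fun k l => by
    let Y2 := pullback (pullback.fst (S.D.map j₀.hom) (y k)) (pullback.fst (S.D.map j₀.hom) (y l))
    have hY2 : IsQcqs Y2 := by
      let f₁ := pullback.fst (S.D.map j₀.hom) (y k)
      let f₂ := pullback.fst (S.D.map j₀.hom) (y l)
      haveI : CompactSpace ↥((undF X).obj (pullback (S.D.map j₀.hom) (y k))) := ((P k).qcqs j₀).1
      haveI : QuasiSeparatedSpace ↥((undF X).obj (pullback (S.D.map j₀.hom) (y k))) := ((P k).qcqs j₀).2
      haveI : CompactSpace ↥((undF X).obj (pullback (S.D.map j₀.hom) (y l))) := ((P l).qcqs j₀).1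
      haveI : QuasiSeparatedSpace ↥((undF X).obj (pullback (S.D.map j₀.hom) (y l))) := ((P l).qcqs j₀).2
      haveI : QuasiSeparatedSpace ↥((undF X).obj (S.D.obj j₀.left)) := (S.qcqs j₀.left).2
      haveI h0 : QuasiCompact ((undF X).map f₂) := quasiCompact_of_compactSpace _
      haveI h0' : QuasiSeparated ((undF X).map f₂) := (quasiSeparated_iff_quasiSeparatedSpace _).2 ‹_›
      have hp := (IsPullback.of_hasPullback f₁ f₂).map (undF X)
      haveI h1 : QuasiCompact ((undF X).map (pullback.fst f₁ f₂)) :=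
        MorphismProperty.of_isPullback (P := @QuasiCompact) hp.flip h0
      haveI h2 : QuasiSeparated ((undF X).map (pullback.fst f₁ f₂)) :=
        MorphismProperty.of_isPullback (P := @QuasiSeparated) hp.flip h0'
      exact ⟨QuasiCompact.compactSpace_of_compactSpace ((undF X).map (pullback.fst f₁ f₂)),
        quasiSeparatedSpace_of_quasiSeparated ((undF X).map (pullback.fst f₁ f₂))⟩
    let y2 : Y2 ⟶ S.D.obj j₀.left := pullback.fst _ _ ≫ pullback.fst _ _
    let o : Over j₀.left := Over.mk (𝟙 _)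
    let d : G.obj.obj (op (pullback (S.D.map o.hom) y2)) :=
      res G (pullback.snd _ _ ≫ pullback.fst _ _) (x' k) - res G (pullback.snd _ _ ≫ pullback.snd _ _) (x' l)
    have hd : res G ((pullSys S j₀.left y2 hY2).π.app o) d = 0 := by
      show res G ((pullπ S j₀.left y2).app o) d = 0
      refine (map_sub _ _ _).trans (sub_eq_zero.2 (((res_res G _ _ (x' k)).trans ?_).trans (res_res G _ _ (x' l)).symm))
      rw [← Category.assoc, ← Category.assoc,
        show (pullπ S j₀.left y2).app o ≫ pullback.snd _ _ = pullback.snd (S.π.app j₀.left) y2 from pullback.lift_snd _ _ _]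
      let u : ∀ (m : Fin n) (f : Y2 ⟶ pullback (S.D.map j₀.hom) (y m)), f ≫ pullback.fst _ _ = y2 →
          (pullback (S.π.app j₀.left) y2 ⟶ pullback (S.π.app i) (y m)) := fun m f hf =>
        pullback.lift (pullback.fst _ _) (pullback.snd _ _ ≫ f ≫ pullback.snd _ _) (by
          rw [Category.assoc, Category.assoc, ← pullback.condition, ← Category.assoc f, hf, ← Category.assoc,
            ← pullback.condition, Category.assoc, S.w])
      have hu : ∀ (m : Fin n) (f : Y2 ⟶ pullback (S.D.map j₀.hom) (y m)) (hf : f ≫ pullback.fst _ _ = y2),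
          res G (pullback.snd (S.π.app j₀.left) y2 ≫ f) (x' m) = res G (pullback.fst (S.π.app j₀.left) y2) t := fun m f hf => by
        rw [show pullback.snd (S.π.app j₀.left) y2 ≫ f = u m f hf ≫ (pullπ S i (y m)).app j₀ by
          apply pullback.hom_ext
          · show _ = (u m f hf ≫ pullback.lift _ _ _) ≫ _
            rw [Category.assoc, Category.assoc, pullback.lift_fst, hf]
            simp [u, pullback.condition]
          · show _ = (u m f hf ≫ pullback.lift _ _ _) ≫ _
            rw [Category.assoc, Category.assoc, pullback.lift_snd]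
            simp [u]]
        refine ((res_res G _ _ (x' m)).symm.trans ((congrArg (res G (u m f hf)) (hx' m)).trans (res_res G _ _ t))).trans ?_
        simp [u]
      exact (hu k _ rfl).trans (hu l _ pullback.condition.symm).symm
    obtain ⟨o', a', ha'⟩ := key _ (pullSys S j₀.left y2 hY2) o d hd
    refine ⟨o'.left, o'.hom, fun {i''} b Z z α β hα hβ => ?_⟩
    let w : Z ⟶ pullback (S.D.map o'.hom) y2 := pullback.lift (z ≫ S.D.map b) (pullback.lift α β (hα.trans hβ.symm)) (by
      simp [y2, hα])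
    have hw : ∀ (m : Fin n) (A : Y2 ⟶ pullback (S.D.map j₀.hom) (y m)),
        (w ≫ (pullD S j₀.left y2).map a') ≫ pullback.snd (S.D.map o.hom) y2 ≫ A = pullback.lift α β (hα.trans hβ.symm) ≫ A := fun m A => by
      rw [← Category.assoc]
      refine congrArg (· ≫ A) ?_
      simp [w, pullD]
    have h2 := congrArg (res G w) ha'
    rw [map_zero] at h2
    change res G w (res G ((pullD S j₀.left y2).map a') d) = 0 at h2
    have h3 := (res_res G _ _ d).symm.trans h2
    rw [map_sub, sub_eq_zero] at h3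
    have h4 := (res_res G _ _ (x' k)).symm.trans (h3.trans (res_res G _ _ (x' l)))
    rw [hw k, hw l, pullback.lift_fst, pullback.lift_snd] at h4
    exact h4
  choose i' a' hi' using hovl
  obtain ⟨i₂, hi₂⟩ := IsCofiltered.inf_objs_exists (Finset.univ.image (fun kl : Fin n × Fin n => i' kl.1 kl.2) ∪ {j₀.left})
  obtain ⟨i₃, a₃, ha₃⟩ : ∃ (i₃ : S.I) (a₃ : i₃ ⟶ j₀.left), ∀ k l, ∃ b : i₃ ⟶ i' k l, b ≫ a' k l = a₃ := by
    let objs : Finset S.I := Finset.univ.image (fun kl : Fin n × Fin n => i' kl.1 kl.2) ∪ {j₀.left}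
    let homs : Finset (Σ' (X Y : S.I) (_ : X ∈ objs) (_ : Y ∈ objs), X ⟶ Y) :=
      Finset.univ.image fun kl : Fin n × Fin n => ⟨i' kl.1 kl.2, j₀.left,
        Finset.mem_union_left _ (Finset.mem_image_of_mem _ (Finset.mem_univ kl)),
        Finset.mem_union_right _ (Finset.mem_singleton_self _), a' kl.1 kl.2⟩
    obtain ⟨i₃, T₃, hT₃⟩ := IsCofiltered.inf_exists objs homs
    exact ⟨i₃, T₃ (Finset.mem_union_right _ (Finset.mem_singleton_self _)), fun k l =>
      ⟨T₃ (Finset.mem_union_left _ (Finset.mem_image_of_mem _ (Finset.mem_univ (k, l)))),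
        hT₃ _ _ (Finset.mem_image_of_mem _ (Finset.mem_univ (k, l)))⟩⟩
  let j₁ : Over i := Over.mk (a₃ ≫ j₀.hom)
  let d₁ : j₁ ⟶ j₀ := Over.homMk a₃
  obtain ⟨z, hz⟩ := glue G (fun k => pullback.fst (S.D.map j₁.hom) (y k)) (pullback_family_mem _ y hym)
    (fun k => res G ((pullD S i (y k)).map d₁) (x' k)) fun k l Q α β hαβ => by
      obtain ⟨b, hb⟩ := ha₃ k l
      rw [res_res, res_res]
      refine hi' k l b Q (α ≫ pullback.fst _ _) _ _ ?_ ?_
      · rw [Category.assoc, hb]
        simp [pullD, d₁]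
      · rw [hαβ, Category.assoc, hb]
        simp [pullD, d₁]
  refine ⟨j₁.left, z, sep_ext G (pullback_family_mem (S.π.app i) y hym) fun Q p hp => ?_⟩
  obtain ⟨_, p', _, ⟨k⟩, rfl⟩ := hp
  rw [← res_res, ← res_res G (pullback.fst (S.π.app i) (y k)) p' t, ← hx' k]
  refine congrArg (res G p') ?_
  have e1 : pullback.fst (S.π.app i) (y k) ≫ S.π.app j₁.left = (pullπ S i (y k)).app j₁ ≫ pullback.fst (S.D.map j₁.hom) (y k) :=
    (pullback.lift_fst _ _ _).symm
  refine (res_res G _ _ z).trans ((congrArg (fun m => res G m z) e1).trans ((res_res G _ _ z).symm.trans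
    ((congrArg (res G ((pullπ S i (y k)).app j₁)) (hz k)).trans ((res_res G _ _ (x' k)).trans ?_))))
  exact congrArg (fun m => res G m (x' k)) (((pullπ S i (y k)).naturality d₁).symm.trans (Category.id_comp _))

end Groth.Agent.EpsLib
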