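import Groth.Agent.EpsLib.SectLimit

/-! Sections of the chosen inverse image `ε⁻¹F` over cofiltered limits. -/

set_option autoImplicit false
set_option linter.style.haveILetI false
set_option backward.isDefEq.respectTransparency false
set_option synthInstance.maxHeartbeats 400000
universe u

open CategoryTheory CategoryTheory.Limits AlgebraicGeometry Opposite

namespace Groth.Agent.EpsLib

open ProEtPtsLib WCSiteLib

variable {X : Scheme.{u}} [ProEtS.EpsCont X] (F : EtCoh.Ab X)

/-- The chosen inverse image is the sheafified Kan extension. -/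
noncomputable def epsIso : (ProEtS.epsPull X).obj F ≅ epsSh F :=
  ((ProEtS.epsAdj X).leftAdjointUniq
    (Functor.sheafPullbackConstruction.sheafAdjunctionContinuous (ProEtS.eps X) AddCommGrpCat.{u + 1}
      X.smallEtaleTopology (Scheme.ProEt.topology X))).app F

variable {I : Type u} [SmallCategory I] [IsCofiltered I] {D : I ⥤ X.ProEt}
  [∀ (i j : I) (a : i ⟶ j), IsAffineHom (und (D.map a))] (hD : ∀ i, IsQcqs (D.obj i))
  (c : Cone D) (hc : IsLimit ((undF X).mapCone c))

/-- The comparison on sections. -/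
noncomputable def epsSectEquiv (U : X.ProEt) :
    ProEtS.sectP ((ProEtS.epsPull X).obj F) U ≃+ ProEtS.sectP (epsSh F) U :=
  (((sheafToPresheaf _ _).mapIso (epsIso F)).app (op U)).addCommGroupIsoToAddEquiv

theorem epsSectEquiv_map {U V : X.ProEt} (a : V ⟶ U) (t : ProEtS.sectP ((ProEtS.epsPull X).obj F) U) :
    epsSectEquiv F V (((ProEtS.epsPull X).obj F).obj.map a.op t) = (epsSh F).obj.map a.op (epsSectEquiv F U t) :=
  ConcreteCategory.congr_hom ((epsIso F).hom.hom.naturality a.op) t

include hD hc in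
theorem pull_exists_level_eq_zero (i : I) (t : ProEtS.sectP ((ProEtS.epsPull X).obj F) (D.obj i))
    (h : ((ProEtS.epsPull X).obj F).obj.map (c.π.app i).op t = 0) :
    ∃ (j : I) (a : j ⟶ i), ((ProEtS.epsPull X).obj F).obj.map (D.map a).op t = 0 := by
  obtain ⟨j, a, ha⟩ := exists_level_eq_zero F hD c hc i (epsSectEquiv F _ t)
    ((epsSectEquiv_map F (c.π.app i) t).symm.trans ((congrArg _ h).trans (map_zero _)))
  refine ⟨j, a, (epsSectEquiv F (D.obj j)).injective ?_⟩
  rw [epsSectEquiv_map, ha, map_zero]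

include hD hc in
theorem pull_exists_level_lift (t : ProEtS.sectP ((ProEtS.epsPull X).obj F) c.pt) :
    ∃ (i : I) (x : ProEtS.sectP ((ProEtS.epsPull X).obj F) (D.obj i)),
      ((ProEtS.epsPull X).obj F).obj.map (c.π.app i).op x = t := by
  obtain ⟨i, x, hx⟩ := exists_level_lift F hD c hc (epsSectEquiv F _ t)
  refine ⟨i, (epsSectEquiv F (D.obj i)).symm x, (epsSectEquiv F c.pt).injective ?_⟩
  refine (epsSectEquiv_map F (c.π.app i) _).trans ?_
  rw [AddEquiv.apply_symm_apply]
  exact hx

include hD hc in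
theorem isColimit_sections : Nonempty (IsColimit (((ProEtS.epsPull X).obj F).obj.mapCocone c.op)) := by
  haveI : PreservesFilteredColimitsOfSize.{u, u} (forget AddCommGrpCat.{u + 1}) :=
    preservesFilteredColimitsOfSize_of_univLE.{u + 1, u + 1} _
  haveI : HasColimitsOfSize.{u, u} AddCommGrpCat.{u + 1} := hasColimitsOfSizeShrink.{u, u, u + 1, u + 1} _
  haveI : ReflectsColimit (D.op ⋙ ((ProEtS.epsPull X).obj F).obj) (forget AddCommGrpCat.{u + 1}) :=
    reflectsColimit_of_reflectsIsomorphisms _ _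
  refine ⟨isColimitOfReflects (forget AddCommGrpCat.{u + 1}) (Types.FilteredColimit.isColimitOf _ _ (fun x => ?_) fun i j xi xj h => ?_)⟩
  · obtain ⟨i, y, hy⟩ := pull_exists_level_lift F hD c hc x
    exact ⟨op i, y, hy.symm⟩
  · obtain ⟨k, f, g, -⟩ := IsFilteredOrEmpty.cocone_objs i j
    have h' : ((ProEtS.epsPull X).obj F).obj.map (c.π.app k.unop).op
        (((ProEtS.epsPull X).obj F).obj.map (D.map f.unop).op xi - ((ProEtS.epsPull X).obj F).obj.map (D.map g.unop).op xj) = 0 := by
      rw [map_sub, sub_eq_zero, map_map, map_map, c.w, c.w]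
      exact h
    obtain ⟨l, a, ha⟩ := pull_exists_level_eq_zero F hD c hc k.unop _ h'
    rw [map_sub, sub_eq_zero, map_map, map_map, ← D.map_comp, ← D.map_comp] at ha
    exact ⟨op l, f ≫ a.op, g ≫ a.op, ha⟩

end Groth.Agent.EpsLib
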